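import Cfsg.Agent.Lib.SmallSimple.Basic
import Cfsg.Agent.Lib.CharInt.Burnside
import Cfsg.Agent.S0499

/-!
# Simple groups of small order: indices of subgroups, recognition of `A_n`, orders at most 100
-/

set_option autoImplicit false

namespace Cfsg.Agent.SmallSimple

open MulAction

universe u

variable {G : Type u} [Group G] [Finite G] [IsSimpleGroup G]

/-- The action on the cosets of a proper subgroup is faithful. -/
theorem toPermHom_injective {H : Subgroup G} (hH : H ≠ ⊤) :
    Function.Injective (toPermHom G (G ⧸ H)) :=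
  injective_of_simple _ (toPermHom_ne_one_of_index H hH)

/-- `|G|` divides `(G : H)!` for a proper subgroup `H`. -/
theorem card_dvd_factorial {H : Subgroup G} (hH : H ≠ ⊤) :
    Nat.card G ∣ H.index.factorial := by
  have h := Subgroup.card_dvd_of_injective _ (toPermHom_injective hH)
  rwa [Nat.card_perm] at h

/-- A simple group of order `n!/2` with a subgroup of index `n` is `A_n`. -/
theorem iso_alternating_of_index (hG : ¬ IsMulCommutative G) {H : Subgroup G} {n : ℕ}
    (hn : H.index = n) (h2 : 2 ≤ n) (hcard : 2 * Nat.card G = n.factorial) :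
    Nonempty (G ≃* alternatingGroup (Fin n)) := by
  have hH : H ≠ ⊤ := by
    rintro rfl
    rw [Subgroup.index_top] at hn
    omega
  let e : G ⧸ H ≃ Fin n := Finite.equivFinOfCardEq hn
  let f : G →* Equiv.Perm (Fin n) := (Equiv.permCongrHom e).toMonoidHom.comp (toPermHom G (G ⧸ H))
  have hf : Function.Injective f :=
    (Equiv.permCongrHom e).injective.comp (toPermHom_injective hH)
  let g : G →* alternatingGroup (Fin n) :=
    f.codRestrict _ fun x => mem_alternating_of_simple hG f x
  have hg : Function.Injective g := fun x y h => hf (congrArg Subtype.val h)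
  refine ⟨MulEquiv.ofBijective g ((Nat.bijective_iff_injective_and_card g).2 ⟨hg, ?_⟩)⟩
  haveI : Nontrivial (Fin n) := ⟨⟨⟨0, by omega⟩, ⟨1, by omega⟩, by simp⟩⟩
  have := two_mul_card_alternatingGroup (α := Fin n)
  rw [← Nat.card_eq_fintype_card, ← Nat.card_eq_fintype_card, Nat.card_perm, Nat.card_fin] at this
  omega

/-- The order of a non-abelian simple group has no subgroup of index at most 4. -/
theorem five_le_index (hG : ¬ IsMulCommutative G) {H : Subgroup G} (hH : H ≠ ⊤) : 5 ≤ H.index := by
  by_contra hlt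
  apply hG
  have hd : H.index.factorial ∣ 24 := Nat.factorial_dvd_factorial (show H.index ≤ 4 by omega)
  have hsol : Group.IsSolvable G := by
    obtain ⟨a, b, ha, hb, hab⟩ :=
      (Nat.dvd_mul (k := Nat.card G) (m := 8) (n := 3)).1 ((card_dvd_factorial hH).trans hd)
    obtain ⟨i, -, rfl⟩ := (Nat.dvd_prime_pow Nat.prime_two).1 (show a ∣ 2 ^ 3 from ha)
    obtain ⟨j, -, rfl⟩ := (Nat.dvd_prime_pow Nat.prime_three).1 (show b ∣ 3 ^ 1 from hb)
    exact CharInt.isSolvable_of_card_eq Nat.prime_two Nat.prime_three hab.symm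
  exact isMulCommutative_iff.2 fun a b => (IsSimpleGroup.comm_iff_isSolvable.2 hsol) a b

/-- The number of Sylow `p`-subgroups, `p ∣ |G|`, is at least 5. -/
theorem five_le_card_sylow (hG : ¬ IsMulCommutative G) {p : ℕ} [hp : Fact p.Prime]
    (hdvd : p ∣ Nat.card G) : 5 ≤ Nat.card (Sylow p G) := by
  obtain ⟨P⟩ := (inferInstance : Nonempty (Sylow p G))
  rw [Sylow.card_eq_index_normalizer P]
  refine five_le_index hG fun h => ?_
  rcases (Subgroup.normalizer_eq_top_iff.1 h).eq_bot_or_eq_top with hb | ht
  · have := P.dvd_card_of_dvd_card hdvd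
    rw [hb, Subgroup.card_bot] at this
    exact hp.out.not_dvd_one this
  · apply hG
    have hpg : IsPGroup p G := fun g => by
      obtain ⟨n, hn⟩ := P.isPGroup' ⟨g, ht ▸ Subgroup.mem_top g⟩
      exact ⟨n, congrArg Subtype.val hn⟩
    haveI : Group.IsNilpotent G := hpg.isNilpotent
    exact isMulCommutative_iff.2 fun a b =>
      (IsSimpleGroup.comm_iff_isSolvable.2 inferInstance) a b

/-- A non-abelian simple group of order at most 100 has order 60. -/
theorem card_eq_sixty (hG : ¬ IsMulCommutative G) (h : Nat.card G ≤ 100) : Nat.card G = 60 := by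
  have hns : ¬ Group.IsSolvable G := fun hs =>
    hG (isMulCommutative_iff.2 fun a b => (IsSimpleGroup.comm_iff_isSolvable.2 hs) a b)
  have hthree : 3 ≤ (Nat.card G).primeFactors.card := by
    by_contra hlt
    apply hns
    have hpos : Nat.card G ≠ 0 := Nat.card_pos.ne'
    have hprod := Nat.prod_factorization_pow_eq_self hpos
    rw [Finsupp.prod, Nat.support_factorization] at hprod
    have hprime : ∀ p ∈ (Nat.card G).primeFactors, p.Prime := fun p => Nat.prime_of_mem_primeFactors
    rcases Nat.lt_or_ge (Nat.card G).primeFactors.card 1 with h0 | h0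
    · rw [Finset.card_eq_zero.1 (by omega : (Nat.card G).primeFactors.card = 0), Finset.prod_empty]
        at hprod
      exact CharInt.isSolvable_of_card_eq Nat.prime_two Nat.prime_three (a := 0) (b := 0)
        (by rw [← hprod]; norm_num)
    rcases Nat.lt_or_ge (Nat.card G).primeFactors.card 2 with h1 | h1
    · obtain ⟨p, hp⟩ := Finset.card_eq_one.1 (by omega : (Nat.card G).primeFactors.card = 1)
      rw [hp, Finset.prod_singleton] at hprod
      exact CharInt.isSolvable_of_card_eq (hprime p (by simp [hp])) Nat.prime_two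
        (a := (Nat.card G).factorization p) (b := 0) (by simpa using hprod.symm)
    obtain ⟨p, q, hpq, hps⟩ := Finset.card_eq_two.1 (by omega : (Nat.card G).primeFactors.card = 2)
    rw [hps, Finset.prod_pair hpq] at hprod
    exact CharInt.isSolvable_of_card_eq (hprime p (by simp [hps])) (hprime q (by simp [hps]))
      hprod.symm
  have key : ∀ n : ℕ, n ≤ 100 → 3 ≤ n.primeFactors.card →
      (n % 2 = 0 → 12 ∣ n ∨ 16 ∣ n ∨ 56 ∣ n) → n = 60 ∨ n = 84 := by
    intro n hn h3
    have hle : ∏ p ∈ n.primeFactors, p ≤ n :=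
      Nat.le_of_dvd (Nat.pos_of_ne_zero (by rintro rfl; simp at h3)) (Nat.prod_primeFactors_dvd n)
    intro h2
    interval_cases n <;> first
      | (left; rfl)
      | (right; rfl)
      | (revert h2; decide)
      | (exfalso; revert h3; norm_num [Nat.primeFactors, Nat.primeFactorsList])
  rcases key _ h hthree (fun h2 => Cfsg.Agent.S0499.result hG (Nat.even_iff.2 h2)) with h60 | h84
  · exact h60
  · exfalso
    haveI : Fact (Nat.Prime 7) := ⟨by norm_num⟩
    have h5 := five_le_card_sylow hG (p := 7) (by rw [h84]; norm_num)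
    obtain ⟨P⟩ := (inferInstance : Nonempty (Sylow 7 G))
    have hd : Nat.card (Sylow 7 G) ∣ 84 :=
      h84 ▸ ⟨_, (card_sylow_mul_card_normalizer P).symm⟩
    have hm : Nat.card (Sylow 7 G) % 7 = 1 := card_sylow_modEq_one 7 G
    have hle := Nat.le_of_dvd (by norm_num) hd
    interval_cases Nat.card (Sylow 7 G) <;> omega

/-- A simple group of order 60 is `A_5`. -/
theorem iso_alternating_five (hG : ¬ IsMulCommutative G) (h : Nat.card G = 60) :
    Nonempty (G ≃* alternatingGroup (Fin 5)) := by
  suffices hex : ∃ H : Subgroup G, H.index = 5 by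
    obtain ⟨H, hH⟩ := hex
    exact iso_alternating_of_index hG hH (by norm_num) (by rw [h]; rfl)
  haveI : Fact (Nat.Prime 2) := ⟨Nat.prime_two⟩
  haveI : Fact (Nat.Prime 5) := ⟨by norm_num⟩
  obtain ⟨P⟩ := (inferInstance : Nonempty (Sylow 2 G))
  have hmul := card_sylow_mul_card_normalizer P
  have h5 := five_le_card_sylow hG (p := 2) (by rw [h]; norm_num)
  have hP : Nat.card (P : Subgroup G) = 4 := by
    have hf : Nat.factorization (2 ^ 2 * 15) 2 = 2 := by
      rw [Nat.factorization_mul (by norm_num) (by norm_num), Finsupp.add_apply,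
        Nat.Prime.factorization_pow Nat.prime_two, Finsupp.single_eq_same,
        Nat.factorization_eq_zero_of_not_dvd (by norm_num)]
    rw [Sylow.card_eq_multiplicity, h, show (60 : ℕ) = 2 ^ 2 * 15 by norm_num, hf]
    norm_num
  have h4N : 4 ∣ Nat.card (Subgroup.normalizer ((P : Subgroup G) : Set G)) :=
    hP ▸ Subgroup.card_dvd_of_le Subgroup.le_normalizer
  have hidx := Sylow.card_eq_index_normalizer P
  obtain ⟨t, ht⟩ := h4N
  rw [ht, h] at hmul
  have ht15 : Nat.card (Sylow 2 G) * t = 15 := by linarith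
  have hle : Nat.card (Sylow 2 G) ≤ 15 := Nat.le_of_dvd (by norm_num) ⟨t, ht15.symm⟩
  have hn : Nat.card (Sylow 2 G) = 5 ∨ Nat.card (Sylow 2 G) = 15 := by
    interval_cases Nat.card (Sylow 2 G) <;> omega
  rcases hn with hn | hn
  · exact ⟨_, hidx.symm.trans hn⟩
  -- two Sylow 2-subgroups with non-trivial intersection
  obtain ⟨Q, R, hQR, z, hzQ, hzR, hz1⟩ : ∃ Q R : Sylow 2 G, Q ≠ R ∧ ∃ z, z ∈ Q ∧ z ∈ R ∧ z ≠ 1 := by
    by_contra hcon
    push Not at hcon
    have h5card : Nat.card (Sylow 5 G) = 6 := by
      obtain ⟨P5⟩ := (inferInstance : Nonempty (Sylow 5 G))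
      have hd : Nat.card (Sylow 5 G) ∣ 60 :=
        h ▸ ⟨_, (card_sylow_mul_card_normalizer P5).symm⟩
      have hm : Nat.card (Sylow 5 G) % 5 = 1 := card_sylow_modEq_one 5 G
      have := five_le_card_sylow hG (p := 5) (by rw [h]; norm_num)
      have hle := Nat.le_of_dvd (by norm_num) hd
      interval_cases Nat.card (Sylow 5 G) <;> omega
    have hP5 : ∀ S : Sylow 5 G, Nat.card (S : Subgroup G) = 5 := by
      intro S
      have hf : Nat.factorization (5 ^ 1 * 12) 5 = 1 := by
        rw [Nat.factorization_mul (by norm_num) (by norm_num), Finsupp.add_apply,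
          Nat.Prime.factorization_pow (by norm_num), Finsupp.single_eq_same,
          Nat.factorization_eq_zero_of_not_dvd (by norm_num)]
      rw [Sylow.card_eq_multiplicity, h, show (60 : ℕ) = 5 ^ 1 * 12 by norm_num, hf]
      norm_num
    have hP2 : ∀ S : Sylow 2 G, Nat.card (S : Subgroup G) = 4 := fun S => by
      rw [Sylow.card_eq_multiplicity, ← P.card_eq_multiplicity, hP]
    let F : ((Σ S : Sylow 2 G, {x : (S : Subgroup G) // x ≠ 1}) ⊕
        (Σ S : Sylow 5 G, {x : (S : Subgroup G) // x ≠ 1})) → G :=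
      Sum.elim (fun x => ((x.2.1 : (x.1 : Subgroup G)) : G))
        (fun x => ((x.2.1 : (x.1 : Subgroup G)) : G))
    have hsub : ∀ {K : Subgroup G} {x : K}, x ≠ 1 → (x : G) ≠ 1 :=
      fun hx h' => hx (Subtype.ext h')
    have horder : ∀ {p n : ℕ} {K : Subgroup G}, Nat.card K = p ^ n → ∀ x : K,
        orderOf (x : G) ∣ p ^ n := fun hK x => hK ▸ Subgroup.orderOf_dvd_natCard _ x.2
    have hF : Function.Injective F := by
      rintro (⟨S, x, hx⟩ | ⟨S, x, hx⟩) (⟨S', x', hx'⟩ | ⟨S', x', hx'⟩) he
      · change (x : G) = (x' : G) at he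
        obtain rfl : S = S' := by
          by_contra hne
          exact hsub hx (hcon S S' hne x x.2 (he ▸ x'.2))
        obtain rfl := Subtype.ext he
        rfl
      · change (x : G) = (x' : G) at he
        refine absurd (orderOf_eq_one_iff.1 ?_) (hsub hx)
        exact Nat.eq_one_of_dvd_coprimes (by norm_num : Nat.Coprime (2 ^ 2) (5 ^ 1))
          (horder (hP2 S) x) (he ▸ horder (n := 1) (by rw [hP5 S', pow_one]) x')
      · change (x : G) = (x' : G) at he
        refine absurd (orderOf_eq_one_iff.1 ?_) (hsub hx)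
        exact Nat.eq_one_of_dvd_coprimes (by norm_num : Nat.Coprime (5 ^ 1) (2 ^ 2))
          (horder (n := 1) (by rw [hP5 S, pow_one]) x) (he ▸ horder (hP2 S') x')
      · change (x : G) = (x' : G) at he
        obtain rfl : S = S' := by
          by_contra hne
          have hinf : (S : Subgroup G) ⊓ S' = ⊥ := by
            rcases Nat.Prime.eq_one_or_self_of_dvd (by norm_num : Nat.Prime 5) _
                (hP5 S ▸ Subgroup.card_dvd_of_le (inf_le_left : (S : Subgroup G) ⊓ S' ≤ S)) with
              h1 | h1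
            · exact Subgroup.eq_bot_of_card_eq _ h1
            · exfalso
              apply hne
              have e1 : (S : Subgroup G) ⊓ S' = S :=
                Subgroup.eq_of_le_of_card_ge inf_le_left (by rw [hP5, h1])
              exact Sylow.ext (Subgroup.eq_of_le_of_card_ge (inf_eq_left.1 e1)
                (by rw [hP5, hP5]))
          exact hsub hx (Subgroup.mem_bot.1 (hinf ▸ ⟨x.2, he ▸ x'.2⟩))
        obtain rfl := Subtype.ext he
        rfl
    have hc := Nat.card_le_card_of_injective F hF
    haveI := Fintype.ofFinite (Sylow 2 G)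
    haveI := Fintype.ofFinite (Sylow 5 G)
    have hne : ∀ {K : Subgroup G}, Nat.card {x : K // x ≠ 1} = Nat.card K - 1 := fun {K} => by
      classical
      haveI := Fintype.ofFinite K
      rw [Nat.card_eq_fintype_card, Nat.card_eq_fintype_card, Fintype.card_subtype_compl,
        Fintype.card_subtype_eq]
    simp only [Nat.card_sum, Nat.card_sigma, hne, hP2, hP5, Finset.sum_const, Finset.card_univ,
      ← Nat.card_eq_fintype_card, hn, h5card, h, smul_eq_mul] at hc
    omega
  have hcomm : ∀ S : Sylow 2 G, ∀ a ∈ S, ∀ b ∈ S, a * b = b * a := by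
    intro S a ha b hb
    have hS : Nat.card (S : Subgroup G) = 2 ^ 2 := by
      rw [Sylow.card_eq_multiplicity, ← P.card_eq_multiplicity, hP]; rfl
    exact congrArg Subtype.val
      (IsPGroup.commGroupOfCardEqPrimeSq hS |>.mul_comm ⟨a, ha⟩ ⟨b, hb⟩)
  set C := Subgroup.centralizer ({z} : Set G) with hC
  have hQC : (Q : Subgroup G) ≤ C := fun a ha =>
    Subgroup.mem_centralizer_singleton_iff.2 (hcomm Q a ha z hzQ)
  have hRC : (R : Subgroup G) ≤ C := fun a ha =>
    Subgroup.mem_centralizer_singleton_iff.2 (hcomm R a ha z hzR)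
  have hne : C ≠ ⊤ := by
    intro htop
    have hz : z ∈ Subgroup.center G := Subgroup.mem_center_iff.2 fun g =>
      Subgroup.mem_centralizer_singleton_iff.1 (htop ▸ Subgroup.mem_top g : g ∈ C)
    rcases (inferInstance : (Subgroup.center G).Normal).eq_bot_or_eq_top with hb | ht'
    · exact hz1 (Subgroup.mem_bot.1 (hb ▸ hz))
    · exact hG (isMulCommutative_iff.2 fun a b =>
        Subgroup.mem_center_iff.1 (ht' ▸ Subgroup.mem_top b) a)
  refine ⟨C, ?_⟩
  have hidx5 := five_le_index hG hne
  have hQ4 : Nat.card (Q : Subgroup G) = 4 := by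
    rw [Sylow.card_eq_multiplicity, ← P.card_eq_multiplicity, hP]
  obtain ⟨s, hs⟩ := hQ4 ▸ Subgroup.card_dvd_of_le hQC
  have hs1 : s ≠ 1 := by
    intro hs1
    have hC4 : Nat.card C = 4 := by rw [hs, hs1]
    have e1 := Subgroup.eq_of_le_of_card_ge hQC (by rw [hC4, hQ4])
    apply hQR
    exact Sylow.ext (Subgroup.eq_of_le_of_card_ge (e1 ▸ hRC)
      (by rw [Sylow.card_eq_multiplicity, Sylow.card_eq_multiplicity])).symm
  have hmulC := C.card_mul_index
  rw [hs, h] at hmulC
  have h15 : s * C.index = 15 := by linarith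
  have hile : C.index ≤ 15 := Nat.le_of_dvd (by norm_num) ⟨s, by linarith⟩
  interval_cases C.index <;> omega

end Cfsg.Agent.SmallSimple
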