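import Mathlib

/-!
# The permutations of degree 8 in a simple group of order 168

Points `0..6` are the elements of `𝔽₇`, the point `7` is `∞`.
-/

set_option autoImplicit false

namespace Cfsg.Agent.SmallSimple.D168

/-- Translation by `c`. -/
def tf (c i : Fin 8) : Fin 8 := if i.val = 7 then i else ⟨(i.val + c.val) % 7, by omega⟩

/-- The element of order three, `i ↦ 2 i`. -/
def yf (i : Fin 8) : Fin 8 := if i.val = 7 then i else ⟨2 * i.val % 7, by omega⟩

/-- The negative of a point. -/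
def neg (i : Fin 8) : Fin 8 := if i.val = 7 then i else ⟨(7 - i.val) % 7, by omega⟩

/-- The swap of `0` and `∞`: `x ↦ -1/x`. -/
def w0f : Fin 8 → Fin 8 := ![7, 6, 3, 2, 5, 4, 1, 0]

/-- The map determined by the images of `1` and `3` and inversion of `yf`. -/
def mk (p q : Fin 8) (i : Fin 8) : Fin 8 :=
  if i.val = 0 then 7 else if i.val = 7 then 0 else
    match (List.finRange 3).find? (fun k => yf^[k.val] 1 == i) with
    | some k => yf^[2 * k.val] p
    | none => match (List.finRange 3).find? (fun k => yf^[k.val] 3 == i) with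
      | some k => yf^[2 * k.val] q
      | none => 0

/-- The consistency condition on a candidate swap. -/
def good (w : Fin 8 → Fin 8) : Bool :=
  (List.finRange 8).all fun u => u.val == 0 || u.val == 7 ||
    ((List.finRange 8).any fun c => (List.finRange 3).any fun j =>
      (List.finRange 8).all fun i => tf (neg (w u)) (w (tf u (w i))) == w (tf c (yf^[j.val] i)))

theorem classify : ∀ (p q : Fin 8), ((List.finRange 8).map (mk p q)).Nodup →
    good (mk p q) = true → ∃ j : Fin 3, ∀ i, mk p q i = w0f (yf^[j.val] i) := by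
  decide +kernel

theorem mk_spec : ∀ i : Fin 8, i.val ≠ 0 → i.val ≠ 7 →
    (∃ k : Fin 3, (List.finRange 3).find? (fun k => yf^[k.val] 1 == i) = some k ∧
      yf^[k.val] 1 = i) ∨
    ((List.finRange 3).find? (fun k => yf^[k.val] 1 == i) = none ∧
      ∃ k : Fin 3, (List.finRange 3).find? (fun k => yf^[k.val] 3 == i) = some k ∧
        yf^[k.val] 3 = i) := by
  decide +kernel

theorem tf_neg : ∀ c i : Fin 8, c.val ≠ 7 → tf (neg c) (tf c i) = i ∧ tf c (tf (neg c) i) = i := by
  decide +kernel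

theorem yf_three : ∀ i : Fin 8, yf (yf (yf i)) = i := by decide +kernel

theorem w0f_sq : ∀ i : Fin 8, w0f (w0f i) = i := by decide +kernel

/-- Translation as a permutation. -/
def T (c : Fin 8) : Equiv.Perm (Fin 8) :=
  if hc : c.val = 7 then 1
  else ⟨tf c, tf (neg c), fun i => (tf_neg c i hc).1, fun i => (tf_neg c i hc).2⟩

/-- The element of order three. -/
def Y : Equiv.Perm (Fin 8) :=
  ⟨yf, fun i => yf (yf i), fun i => yf_three i, fun i => yf_three i⟩

/-- The basic swap. -/
def W : Equiv.Perm (Fin 8) := ⟨w0f, w0f, w0f_sq, w0f_sq⟩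

theorem T_apply {c : Fin 8} (hc : c.val ≠ 7) (i : Fin 8) : T c i = tf c i := by
  rw [T, dif_neg hc]; rfl

theorem Y_pow_apply (k : ℕ) (i : Fin 8) : (Y ^ k) i = yf^[k] i := by
  induction k generalizing i with
  | zero => rfl
  | succ k ih => rw [pow_succ, Equiv.Perm.mul_apply, ih, Function.iterate_succ_apply]; rfl

/-- A permutation swapping `0`, `∞` and inverting `Y` is some `mk`. -/
theorem eq_mk {w : Equiv.Perm (Fin 8)} (h0 : w 0 = 7) (h7 : w 7 = 0)
    (hc : w * Y = Y ^ 2 * w) : ∀ i, w i = mk (w 1) (w 3) i := by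
  have hk : ∀ (k : ℕ) (i : Fin 8), w (yf^[k] i) = yf^[2 * k] (w i) := by
    intro k i
    have h1 : w * Y ^ k = (Y ^ 2) ^ k * w := SemiconjBy.pow_right hc k
    have h2 := Equiv.ext_iff.1 h1 i
    rw [Equiv.Perm.mul_apply, Equiv.Perm.mul_apply, ← pow_mul, Y_pow_apply, Y_pow_apply] at h2
    exact h2
  intro i
  by_cases hi0 : i.val = 0
  · rw [mk, if_pos hi0, show i = 0 from Fin.ext hi0, h0]
  by_cases hi7 : i.val = 7
  · rw [mk, if_neg hi0, if_pos hi7, show i = 7 from Fin.ext hi7, h7]
  rw [mk, if_neg hi0, if_neg hi7]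
  rcases mk_spec i hi0 hi7 with ⟨k, hf1, hk1⟩ | ⟨hn, k, hf4, hk4⟩
  · rw [hf1]
    conv_lhs => rw [← hk1, hk]
  · rw [hn, hf4]
    conv_lhs => rw [← hk4, hk]

theorem classify_perm {w : Equiv.Perm (Fin 8)} (h0 : w 0 = 7) (h7 : w 7 = 0)
    (hc : w * Y = Y ^ 2 * w)
    (hgood : ∀ u : Fin 8, u.val ≠ 0 → u.val ≠ 7 →
      ∃ (c : Fin 8) (j : Fin 3), ∀ i, tf (neg (w u)) (w (tf u (w i))) = w (tf c (yf^[j.val] i))) :
    ∃ j : Fin 3, w = W * Y ^ j.val := by
  have hw := eq_mk h0 h7 hc
  have hfun : mk (w 1) (w 3) = w := funext fun i => (hw i).symm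
  obtain ⟨j, hj⟩ := classify (w 1) (w 3)
    (by rw [hfun]; exact (List.nodup_finRange 8).map w.injective) (by
      rw [hfun, good, List.all_eq_true]
      intro u _
      by_cases h1 : u.val = 0
      · simp [h1]
      by_cases h2 : u.val = 7
      · simp [h2]
      obtain ⟨c, j, hcj⟩ := hgood u h1 h2
      simp only [Bool.or_eq_true, List.any_eq_true, List.all_eq_true, beq_iff_eq]
      exact Or.inr ⟨c, List.mem_finRange c, j, List.mem_finRange j, fun i _ => hcj i⟩)
  refine ⟨j, Equiv.ext fun i => ?_⟩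
  rw [hw, hj, Equiv.Perm.mul_apply, Y_pow_apply]
  rfl

/-- The standard group. -/
def K : Subgroup (Equiv.Perm (Fin 8)) := Subgroup.closure {T 1, Y, W}

end Cfsg.Agent.SmallSimple.D168
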