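import Cfsg.Agent.Lib.SmallSimple.Low
import Cfsg.Agent.Lib.Transfer.Burnside

/-!
# Further tools for simple groups of small order
-/

set_option autoImplicit false
set_option linter.style.haveILetI false

namespace Cfsg.Agent.SmallSimple

open MulAction

variable {G : Type*} [Group G] [Finite G]

/-- The order of a Sylow subgroup read off a factorisation of the group order. -/
theorem card_sylow_subgroup {p k m : ℕ} [hp : Fact p.Prime] (h : Nat.card G = p ^ k * m)
    (hm : ¬ p ∣ m) (P : Sylow p G) : Nat.card (P : Subgroup G) = p ^ k := by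
  have hm0 : m ≠ 0 := fun h0 => hm (h0 ▸ dvd_zero p)
  rw [Sylow.card_eq_multiplicity, h, Nat.factorization_mul (pow_ne_zero _ hp.out.ne_zero) hm0,
    Finsupp.add_apply, Nat.Prime.factorization_pow hp.out, Finsupp.single_eq_same,
    Nat.factorization_eq_zero_of_not_dvd hm, add_zero]

/-- The permutation induced on the Sylow `p`-subgroups fixes `P` exactly on the normaliser. -/
theorem smul_sylow_eq_iff {p : ℕ} {g : G} {P : Sylow p G} :
    g • P = P ↔ g ∈ Subgroup.normalizer ((P : Subgroup G) : Set G) :=
  Sylow.smul_eq_iff_mem_normalizer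

/-- A `p`-element of a Sylow subgroup fixing another one lies in it. -/
theorem mem_of_smul_sylow_eq {p : ℕ} [Fact p.Prime] {P Q : Sylow p G} {x : G} (hx : x ∈ P)
    (h : x • Q = Q) : x ∈ Q :=
  ((P.isPGroup'.inf_normalizer_sylow Q).le
    (⟨hx, smul_sylow_eq_iff.1 h⟩ : x ∈ (P : Subgroup G) ⊓ Subgroup.normalizer ((Q : Subgroup G) : Set G))).2

variable [IsSimpleGroup G]

theorem centralizer_singleton_ne_top (hG : ¬ IsMulCommutative G) {z : G} (hz : z ≠ 1) :
    Subgroup.centralizer ({z} : Set G) ≠ ⊤ := by
  intro htop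
  have hzc : z ∈ Subgroup.center G := Subgroup.mem_center_iff.2 fun g =>
    Subgroup.mem_centralizer_singleton_iff.1 (htop ▸ Subgroup.mem_top g)
  rcases (inferInstance : (Subgroup.center G).Normal).eq_bot_or_eq_top with hb | ht'
  · exact hz (Subgroup.mem_bot.1 (hb ▸ hzc))
  · exact hG (isMulCommutative_iff.2 fun a b =>
      Subgroup.mem_center_iff.1 (ht' ▸ Subgroup.mem_top b) a)

theorem normalizer_ne_top (hG : ¬ IsMulCommutative G) {H : Subgroup G} (h1 : H ≠ ⊥)
    (hsol : Group.IsSolvable H) : Subgroup.normalizer (H : Set G) ≠ ⊤ := by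
  intro h
  rcases (Subgroup.normalizer_eq_top_iff.1 h).eq_bot_or_eq_top with hb | ht
  · exact h1 hb
  · apply hG
    subst ht
    haveI := hsol
    haveI : Group.IsSolvable G := Group.isSolvable_of_surjective (f := (⊤ : Subgroup G).subtype)
      (fun g => ⟨⟨g, Subgroup.mem_top g⟩, rfl⟩)
    exact isMulCommutative_iff.2 fun a b =>
      (IsSimpleGroup.comm_iff_isSolvable.2 inferInstance) a b

/-- A simple group with a non-cyclic composition has no normal `p`-complement. -/
theorem not_hasNormalPComplement (hG : ¬ IsMulCommutative G) {p : ℕ} [hp : Fact p.Prime]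
    (hdvd : p ∣ Nat.card G) : ¬ Cfsg.HasNormalPComplement p G := by
  rintro ⟨P, N, hN, hc⟩
  rcases hN.eq_bot_or_eq_top with h | h
  · subst h
    have htop : (P : Subgroup G) = ⊤ := Subgroup.isComplement'_bot_left.1 hc
    apply normalizer_ne_top hG (H := (P : Subgroup G))
    · intro hb
      have := P.dvd_card_of_dvd_card hdvd
      rw [hb, Subgroup.card_bot] at this
      exact hp.out.not_dvd_one this
    · haveI : Group.IsNilpotent (P : Subgroup G) := P.isPGroup'.isNilpotent
      infer_instance
    · rw [Subgroup.normalizer_eq_top_iff, htop]; infer_instance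
  · subst h
    have hbot : (P : Subgroup G) = ⊥ := Subgroup.isComplement'_top_left.1 hc
    have := P.dvd_card_of_dvd_card hdvd
    rw [hbot, Subgroup.card_bot] at this
    exact hp.out.not_dvd_one this

end Cfsg.Agent.SmallSimple
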