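import Cfsg.Agent.Lib.SmallSimple.Order168
import Cfsg.Agent.Lib.SmallSimple.Order168Data
import Cfsg.Agent.Lib.SmallSimple.Tools

/-!
# All simple groups of order 168 are isomorphic

The action on the eight Sylow 7-subgroups is determined up to the numbering.
-/

set_option autoImplicit false
set_option linter.style.haveILetI false

namespace Cfsg.Agent.SmallSimple

open MulAction

variable {G : Type*} [Group G] [Finite G] [IsSimpleGroup G]

/-- A simple group of order 168 embeds in `Perm (Fin 8)` with image the standard group. -/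
theorem exists_embedding_168 (h : Nat.card G = 168) :
    ∃ f : G →* Equiv.Perm (Fin 8), Function.Injective f ∧ f.range = D168.K := by
  classical
  have hs : Simple168 G := ⟨inferInstance, h⟩
  haveI : Fact (Nat.Prime 7) := ⟨by norm_num⟩
  haveI : Fact (Nat.Prime 3) := ⟨Nat.prime_three⟩
  have hG : ¬ IsMulCommutative G := fun hc => by
    have := CharInt.card_prime_of_simple_comm (G := G) (fun a b => hc.is_comm.comm a b)
    rw [h] at this
    norm_num at this
  have h8 := hs.card_sylow_seven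
  obtain ⟨P, Q, hPQ⟩ : ∃ P Q : Sylow 7 G, P ≠ Q :=
    (nontrivial_iff.1 (Finite.one_lt_card_iff_nontrivial.1 (by omega)))
  have hbij := hs.semiregular_seven P (Ne.symm hPQ)
  have hfixP : ∀ x ∈ P, x • P = P := fun x hx =>
    smul_sylow_eq_iff.2 (Subgroup.le_normalizer hx)
  let orb : Option (P : Subgroup G) → Sylow 7 G := fun o => o.elim P (fun x => (x : G) • Q)
  have horb : Function.Bijective orb := by
    constructor
    · rintro (_ | a) (_ | b) hab
      · rfl
      · exact absurd (show (b : G) • Q = P from hab.symm)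
          (fun e => hPQ (smul_left_cancel (b : G) ((hfixP b b.2).trans e.symm)))
      · exact absurd (show (a : G) • Q = P from hab)
          (fun e => hPQ (smul_left_cancel (a : G) ((hfixP a a.2).trans e.symm)))
      · exact congrArg some (hbij.1 (Subtype.ext hab))
    · intro R
      by_cases hR : R = P
      · exact ⟨none, hR.symm⟩
      · obtain ⟨x, hx⟩ := hbij.2 ⟨R, hR⟩
        exact ⟨some x, congrArg Subtype.val hx⟩
  have hP7 : Nat.card (P : Subgroup G) = 7 := hs.card7 P
  have hN21 : Nat.card (stabilizer G P) = 21 := by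
    have hst : stabilizer G P = Subgroup.normalizer ((P : Subgroup G) : Set G) :=
      Subgroup.ext fun g => smul_sylow_eq_iff
    rw [hst, hs.card_normalizer_seven P]
  set H := stabilizer G P ⊓ stabilizer G Q with hHdef
  have hmemH : ∀ g, g ∈ H ↔ g • P = P ∧ g • Q = Q := fun g => Iff.rfl
  -- every element of the stabiliser is a power of `P` times an element of `H`
  have hdecomp : ∀ g, g • P = P → ∃ x : (P : Subgroup G), (x : G)⁻¹ * g ∈ H := by
    intro g hg
    obtain ⟨o, ho⟩ := horb.2 (g • Q)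
    cases o with
    | none => exact absurd (smul_left_cancel g (hg.trans ho)) hPQ
    | some x =>
      refine ⟨x, (hmemH _).2 ⟨?_, ?_⟩⟩
      · rw [mul_smul, hg]; exact hfixP _ (P.inv_mem x.2)
      · rw [mul_smul, inv_smul_eq_iff]; exact ho.symm
  have hH3 : Nat.card H = 3 := by
    have hprod : Nat.card (↥(P : Subgroup G) × ↥H) = Nat.card (stabilizer G P) := by
      let F : ↥(P : Subgroup G) × ↥H → stabilizer G P := fun xy =>
        ⟨(xy.1 : G) * xy.2, mul_mem (show (xy.1 : G) ∈ stabilizer G P from hfixP _ xy.1.2) xy.2.2.1⟩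
      refine Nat.card_congr (Equiv.ofBijective F ⟨?_, ?_⟩)
      · rintro ⟨x, a⟩ ⟨y, b⟩ hxy
        have h1 : (x : G) * a = y * b := congrArg Subtype.val hxy
        have h2 : (x : G) • Q = (y : G) • Q := by
          have := congrArg (fun g : G => g • Q) h1
          simpa only [mul_smul, ((hmemH _).1 a.2).2, ((hmemH _).1 b.2).2] using this
        obtain rfl : x = y := hbij.1 (Subtype.ext h2)
        exact Prod.ext rfl (Subtype.ext (mul_left_cancel h1))
      · rintro ⟨g, hg⟩
        obtain ⟨x, hx⟩ := hdecomp g hg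
        exact ⟨(x, ⟨_, hx⟩), Subtype.ext (mul_inv_cancel_left _ _)⟩
    rw [Nat.card_prod, hP7, hN21] at hprod
    omega
  have hconjP : ∀ g ∈ H, ∀ x ∈ P, g * x * g⁻¹ ∈ P := fun g hg x hx =>
    ((Subgroup.mem_normalizer_iff.1 (smul_sylow_eq_iff.1 ((hmemH g).1 hg).1)) x).1 hx
  have hmove : ∀ g ∈ H, ∀ x ∈ P, g • ((x : G) • Q) = (g * x * g⁻¹) • Q := by
    intro g hg x _
    conv_rhs => rw [← ((hmemH g).1 hg).2]
    rw [← mul_smul, ← mul_smul, inv_mul_cancel_right]
  -- generators
  obtain ⟨x, hxP, hx7⟩ : ∃ x ∈ P, orderOf x = 7 := by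
    obtain ⟨x, hx⟩ := exists_prime_orderOf_dvd_card' (G := (P : Subgroup G)) 7 (by rw [hP7])
    exact ⟨x, x.2, by rwa [Subgroup.orderOf_coe]⟩
  have hPx : ∀ z ∈ P, ∃ k : Fin 7, z = x ^ k.val := by
    intro z hz
    have hEq : Subgroup.zpowers x = (P : Subgroup G) := Subgroup.eq_of_le_of_card_ge
      (Subgroup.zpowers_le.2 hxP) (by rw [Nat.card_zpowers, hx7, hP7])
    obtain ⟨k, hk⟩ := (Submonoid.mem_powers_iff z x).1
      ((isOfFinOrder_of_finite x).mem_powers_iff_mem_zpowers.2 (hEq.ge hz))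
    exact ⟨⟨k % 7, Nat.mod_lt _ (by norm_num)⟩, by rw [← hk, ← pow_mod_orderOf x k, hx7]⟩
  obtain ⟨y, hyH, hy3, hyx⟩ : ∃ y ∈ H, orderOf y = 3 ∧ y * x * y⁻¹ = x ^ 2 := by
    obtain ⟨y₀, hy₀⟩ := exists_prime_orderOf_dvd_card' (G := H) 3 (by rw [hH3])
    have hy : orderOf (y₀ : G) = 3 := by rwa [Subgroup.orderOf_coe]
    obtain ⟨k, hk⟩ := hPx _ (hconjP _ y₀.2 x hxP)
    have hk3 : (y₀ : G) ^ 3 = 1 := hy ▸ pow_orderOf_eq_one _
    have hiter : ∀ n : ℕ, (y₀ : G) ^ n * x * ((y₀ : G) ^ n)⁻¹ = x ^ (k.val ^ n) := by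
      intro n
      induction n with
      | zero => simp
      | succ n ih =>
        rw [pow_succ, mul_inv_rev,
          show (y₀ : G) ^ n * y₀ * x * ((y₀ : G)⁻¹ * ((y₀ : G) ^ n)⁻¹) =
            (y₀ : G) ^ n * ((y₀ : G) * x * (y₀ : G)⁻¹) * ((y₀ : G) ^ n)⁻¹ by group,
          hk, ← conj_pow, ih, ← pow_mul, ← pow_succ]
    have h3 := hiter 3
    rw [hk3, one_mul, inv_one, mul_one] at h3
    nth_rw 1 [← pow_one x] at h3
    rw [pow_eq_pow_iff_modEq, hx7] at h3
    have hne1 : k.val ≠ 1 := fun e => by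
      rw [e, pow_one] at hk
      have hmem : (y₀ : G) ∈ Subgroup.centralizer ({x} : Set G) :=
        Subgroup.mem_centralizer_singleton_iff.2 (mul_inv_eq_iff_eq_mul.1 hk)
      rw [hs.centralizer_seven_elem hx7] at hmem
      have := orderOf_dvd_of_mem_zpowers hmem
      rw [hy, hx7] at this
      norm_num at this
    have hk24 : k.val = 2 ∨ k.val = 4 := by
      have key : ∀ j : Fin 7, j.val ^ 3 % 7 = 1 → j.val = 1 ∨ j.val = 2 ∨ j.val = 4 := by decide
      rcases key k (h3.symm.trans rfl) with e | e | e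
      · exact absurd e hne1
      · exact Or.inl e
      · exact Or.inr e
    rcases hk24 with e | e
    · exact ⟨y₀, y₀.2, hy, by rw [hk, e]⟩
    · refine ⟨(y₀ : G) ^ 2, H.pow_mem y₀.2 2, by rw [orderOf_pow' _ (by norm_num), hy]; rfl, ?_⟩
      rw [hiter 2, e, pow_eq_pow_iff_modEq, hx7]
      rfl
  have hHy : ∀ g ∈ H, ∃ k : Fin 3, g = y ^ k.val := by
    intro g hg
    have hEq : Subgroup.zpowers y = H := Subgroup.eq_of_le_of_card_ge
      (Subgroup.zpowers_le.2 hyH) (by rw [Nat.card_zpowers, hy3, hH3])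
    obtain ⟨k, hk⟩ := (Submonoid.mem_powers_iff g y).1
      ((isOfFinOrder_of_finite y).mem_powers_iff_mem_zpowers.2 (hEq.ge hg))
    exact ⟨⟨k % 3, Nat.mod_lt _ (by norm_num)⟩, by rw [← hk, ← pow_mod_orderOf y k, hy3]⟩
  -- the numbering
  let ι : Fin 8 → Sylow 7 G := fun i => if i.val = 7 then P else x ^ i.val • Q
  have hι : Function.Bijective ι := by
    refine (Nat.bijective_iff_injective_and_card ι).2 ⟨?_, by rw [h8]; simp⟩
    let θ : Fin 8 → Option (P : Subgroup G) := fun i =>
      if i.val = 7 then none else some ⟨x ^ i.val, (P : Subgroup G).pow_mem hxP _⟩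
    have hθ : ∀ i, ι i = orb (θ i) := by
      intro i; simp only [ι, θ]; split_ifs <;> rfl
    intro i j hij
    rw [hθ, hθ] at hij
    have h1 := horb.1 hij
    by_cases hi : i.val = 7 <;> by_cases hj : j.val = 7 <;>
      simp only [θ, hi, hj, if_true, if_false] at h1
    · exact Fin.ext (hi.trans hj.symm)
    · cases h1
    · cases h1
    · refine Fin.ext (pow_injOn_Iio_orderOf (x := x) ?_ ?_ (congrArg Subtype.val (Option.some.inj h1)))
      · rw [Set.mem_Iio, hx7]; omega
      · rw [Set.mem_Iio, hx7]; omega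
  let e : Fin 8 ≃ Sylow 7 G := Equiv.ofBijective ι hι
  let f : G →* Equiv.Perm (Fin 8) :=
    (Equiv.permCongrHom e.symm).toMonoidHom.comp (toPermHom G (Sylow 7 G))
  have hf : ∀ g i, ι (f g i) = g • ι i := by
    intro g i
    show e (e.symm.permCongr (toPermHom G (Sylow 7 G) g) i) = g • e i
    rw [Equiv.permCongr_apply, Equiv.apply_symm_apply, Equiv.symm_symm]
    rfl
  have heq : ∀ g (σ : Equiv.Perm (Fin 8)), (∀ i, g • ι i = ι (σ i)) → f g = σ :=
    fun g σ hσ => Equiv.ext fun i => hι.1 ((hf g i).trans (hσ i))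
  have hfinj : Function.Injective f := by
    refine injective_of_simple f ⟨x, fun hx1 => ?_⟩
    have h0 := Equiv.ext_iff.1 hx1 0
    have h1 : x • ι 0 = ι 0 := by rw [← hf, h0]; rfl
    have h2 : ι 0 = Q := by simp [ι]
    rw [h2] at h1
    have h3 : (⟨x, hxP⟩ : (P : Subgroup G)) = 1 :=
      hbij.1 (Subtype.ext (show x • Q = (1 : G) • Q by rw [h1, one_smul]))
    have := congrArg Subtype.val h3
    rw [show x = 1 from this, orderOf_one] at hx7
    norm_num at hx7
  have hx77 : ∀ n : ℕ, x ^ n = x ^ (n % 7) := fun n => by rw [← pow_mod_orderOf x n, hx7]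
  have hfT : ∀ c : Fin 8, c.val ≠ 7 → f (x ^ c.val) = D168.T c := by
    intro c hc
    refine heq _ _ fun i => ?_
    rw [D168.T_apply hc, D168.tf]
    by_cases hi : i.val = 7
    · rw [if_pos hi]
      simp only [ι, if_pos hi]
      exact hfixP _ ((P : Subgroup G).pow_mem hxP _)
    · rw [if_neg hi]
      simp only [ι, if_neg hi]
      rw [if_neg (by omega), ← mul_smul, ← pow_add, hx77, Nat.add_comm]
  have hfY : f y = D168.Y := by
    refine heq _ _ fun i => ?_
    show _ = ι (D168.yf i)
    rw [D168.yf]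
    by_cases hi : i.val = 7
    · rw [if_pos hi]
      simp only [ι, if_pos hi]
      exact ((hmemH y).1 hyH).1
    · rw [if_neg hi]
      simp only [ι, if_neg hi]
      rw [if_neg (by omega), hmove y hyH _ ((P : Subgroup G).pow_mem hxP _), ← conj_pow, hyx,
        ← pow_mul, hx77]
  have hι0 : ι 0 = Q := by simp [ι]
  have hι7 : ι 7 = P := by simp [ι]
  obtain ⟨w, hw0, hw7⟩ : ∃ w : G, w • Q = P ∧ w • P = Q := by
    obtain ⟨g, hg⟩ := MulAction.exists_smul_eq G Q P
    obtain ⟨o, ho⟩ := horb.2 (g • P)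
    cases o with
    | none => exact absurd (smul_left_cancel g (ho.symm.trans hg.symm)) hPQ
    | some z =>
      refine ⟨(z : G)⁻¹ * g, ?_, ?_⟩
      · rw [mul_smul, hg]; exact hfixP _ (P.inv_mem z.2)
      · rw [mul_smul, inv_smul_eq_iff]; exact ho.symm
  have hfw0 : f w 0 = 7 := hι.1 (by rw [hf, hι0, hw0, hι7])
  have hfw7 : f w 7 = 0 := hι.1 (by rw [hf, hι7, hw7, hι0])
  have hwy : w * y = y ^ 2 * w := by
    have hwP : w⁻¹ • P = Q := inv_smul_eq_iff.2 hw0.symm
    have hwQ : w⁻¹ • Q = P := inv_smul_eq_iff.2 hw7.symm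
    have hmem : w * y * w⁻¹ ∈ H := by
      refine (hmemH _).2 ⟨?_, ?_⟩
      · rw [mul_smul, mul_smul, hwP, ((hmemH y).1 hyH).2, hw0]
      · rw [mul_smul, mul_smul, hwQ, ((hmemH y).1 hyH).1, hw7]
    obtain ⟨k, hk⟩ := hHy _ hmem
    have hk2 : w * y = y ^ k.val * w := mul_inv_eq_iff_eq_mul.1 hk
    have hk0 : k.val ≠ 0 := fun e => by
      rw [e, pow_zero] at hk
      have hy1 : y = 1 := conj_eq_one_iff.1 hk
      rw [hy1, orderOf_one] at hy3
      norm_num at hy3
    have hk1 : k.val ≠ 1 := fun e => by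
      rw [e, pow_one] at hk2
      have hmem2 : w ∈ Subgroup.centralizer ({y} : Set G) :=
        Subgroup.mem_centralizer_singleton_iff.2 hk2
      rw [hs.centralizer_three hy3] at hmem2
      obtain ⟨n, rfl⟩ := Subgroup.mem_zpowers_iff.1 hmem2
      exact hPQ (((hmemH _).1 (H.zpow_mem hyH n)).1.symm.trans hw7)
    rw [hk2, show k.val = 2 by omega]
  have hgood : ∀ c : Fin 8, c.val ≠ 0 → c.val ≠ 7 → ∃ (d : Fin 8) (j : Fin 3),
      ∀ i, D168.tf (D168.neg (f w c)) (f w (D168.tf c (f w i))) =
        f w (D168.tf d (D168.yf^[j.val] i)) := by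
    intro c hc0 hc7
    set p := f w c with hp
    have hp7 : p.val ≠ 7 := by
      intro e
      have e7 : f w c = f w 0 := (Fin.ext e : p = 7).trans hfw0.symm
      exact hc0 (congrArg Fin.val ((f w).injective e7))
    have hneg : (D168.neg p).val ≠ 7 := by
      have key : ∀ q : Fin 8, q.val ≠ 7 → (D168.neg q).val ≠ 7 := by decide
      exact key p hp7
    set n := w⁻¹ * x ^ (D168.neg p).val * w * x ^ c.val * w with hn
    have hsimp : ∀ i, D168.tf (D168.neg p) (f w (D168.tf c (f w i))) = f w (f n i) := by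
      intro i
      have h0 : f w * f n = D168.T (D168.neg p) * f w * D168.T c * f w := by
        rw [← hfT c hc7, ← hfT _ hneg, ← map_mul, ← map_mul, ← map_mul, ← map_mul, hn]
        congr 1
        group
      have := Equiv.ext_iff.1 h0 i
      simp only [Equiv.Perm.mul_apply, D168.T_apply hc7, D168.T_apply hneg] at this
      exact this.symm
    have hn7 : f n 7 = 7 := by
      have h0 := hsimp 7
      rw [hfw7] at h0
      have hc0' : D168.tf c 0 = c := by
        have key : ∀ q : Fin 8, q.val ≠ 7 → D168.tf q 0 = q := by decide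
        exact key c hc7
      rw [hc0', ← hp] at h0
      have hz : D168.tf (D168.neg p) p = 0 := by
        have key : ∀ q : Fin 8, q.val ≠ 7 → D168.tf (D168.neg q) q = 0 := by decide
        exact key p hp7
      rw [hz, ← hfw7] at h0
      exact ((f w).injective h0).symm
    have hnP : n • P = P := by rw [← hι7, ← hf, hn7]
    obtain ⟨z, hz⟩ := hdecomp n hnP
    obtain ⟨a, ha⟩ := hPx z z.2
    obtain ⟨j, hj⟩ := hHy _ hz
    refine ⟨⟨a.val, by omega⟩, j, fun i => ?_⟩
    rw [hsimp]
    congr 1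
    have hn' : n = x ^ a.val * y ^ j.val := by rw [← hj, ← ha, mul_inv_cancel_left]
    have hd7 : (⟨a.val, by omega⟩ : Fin 8).val ≠ 7 := by show a.val ≠ 7; omega
    rw [hn', map_mul, map_pow f y, hfY, hfT ⟨a.val, by omega⟩ hd7, Equiv.Perm.mul_apply,
      D168.Y_pow_apply, D168.T_apply hd7]
  obtain ⟨j, hj⟩ := D168.classify_perm hfw0 hfw7
    (by rw [← hfY, ← map_pow, ← map_mul, ← map_mul, hwy]) hgood
  refine ⟨f, hfinj, ?_⟩
  set S := Subgroup.closure ({x, y, w} : Set G) with hS
  have htop : S = ⊤ := by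
    by_contra hne
    have hx' : x ∈ S := Subgroup.subset_closure (by simp)
    have hy' : y ∈ S := Subgroup.subset_closure (by simp)
    have hst : stabilizer G P ≤ S := by
      intro g hg
      obtain ⟨z, hz⟩ := hdecomp g hg
      obtain ⟨a, ha⟩ := hPx z z.2
      obtain ⟨i, hi⟩ := hHy _ hz
      rw [show g = (z : G) * ((z : G)⁻¹ * g) by group, hi, ha]
      exact mul_mem (pow_mem hx' _) (pow_mem hy' _)
    have hwS : w ∈ S := Subgroup.subset_closure (by simp)
    have hlt : 21 < Nat.card S := by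
      refine lt_of_le_of_ne (hN21 ▸ Subgroup.card_le_of_le hst) fun e => ?_
      have hEq := Subgroup.eq_of_le_of_card_ge hst (by rw [hN21, e])
      rw [← hEq] at hwS
      exact hPQ ((show w • P = P from hwS).symm.trans hw7)
    have h7 := hs.index_ge_seven hne
    have hm := S.card_mul_index
    obtain ⟨q, hq⟩ := hN21 ▸ Subgroup.card_dvd_of_le hst
    rw [hq, h] at hm
    have hqi : q * S.index = 8 := by linarith
    have hq8 : q ≤ 8 := Nat.le_of_dvd (by norm_num) ⟨_, hqi.symm⟩
    interval_cases q <;> omega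
  have hfx : f x = D168.T 1 := by
    have := hfT 1 (by decide)
    simpa using this
  rw [MonoidHom.range_eq_map, ← htop, hS, MonoidHom.map_closure]
  have himg : f '' ({x, y, w} : Set G) = {D168.T 1, D168.Y, D168.W * D168.Y ^ j.val} := by
    simp only [Set.image_insert_eq, Set.image_singleton, hfx, hfY, hj]
  rw [himg, D168.K]
  apply le_antisymm <;> rw [Subgroup.closure_le]
  · rintro g (rfl | rfl | rfl)
    · exact Subgroup.subset_closure (by simp)
    · exact Subgroup.subset_closure (by simp)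
    · exact mul_mem (Subgroup.subset_closure (by simp))
        (pow_mem (Subgroup.subset_closure (by simp)) _)
  · rintro g (rfl | rfl | rfl)
    · exact Subgroup.subset_closure (by simp)
    · exact Subgroup.subset_closure (by simp)
    · have hW : D168.W = (D168.W * D168.Y ^ j.val) * (D168.Y ^ j.val)⁻¹ := by group
      rw [SetLike.mem_coe, hW]
      exact mul_mem (Subgroup.subset_closure (by simp))
        (inv_mem (pow_mem (Subgroup.subset_closure (by simp)) _))

/-- Any two simple groups of order 168 are isomorphic. -/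
theorem nonempty_mulEquiv_168 {G' : Type*} [Group G'] [Finite G'] [IsSimpleGroup G']
    (h : Nat.card G = 168) (h' : Nat.card G' = 168) : Nonempty (G ≃* G') := by
  obtain ⟨f, hf, hfr⟩ := exists_embedding_168 (G := G) h
  obtain ⟨g, hg, hgr⟩ := exists_embedding_168 (G := G') h'
  exact ⟨((MonoidHom.ofInjective hf).trans (MulEquiv.subgroupCongr (hfr.trans hgr.symm))).trans
    (MonoidHom.ofInjective hg).symm⟩

end Cfsg.Agent.SmallSimple
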