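import Mathlib

/-!
# Elementary tools for small simple groups: orbit divisibility, permutation images, Sylow facts
-/

set_option autoImplicit false

namespace Cfsg.Agent.SmallSimple

open MulAction

/-- If every orbit has size divisible by `d`, so has the whole set. -/
theorem dvd_card_of_dvd_card_orbit {G X : Type*} [Group G] [MulAction G X] [Finite X] (d : ℕ)
    (h : ∀ x : X, d ∣ Nat.card (orbit G x)) : d ∣ Nat.card X := by
  classical
  have := Fintype.ofFinite X
  rw [Nat.card_congr (selfEquivSigmaOrbits G X), Nat.card_sigma]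
  exact Finset.dvd_sum fun ω _ => h ω.out

theorem card_orbit_mul_card_stabilizer {G X : Type*} [Group G] [MulAction G X] [Finite G] (x : X) :
    Nat.card (orbit G x) * Nat.card (stabilizer G x) = Nat.card G := by
  rw [← Subgroup.card_mul_index (stabilizer G x), mul_comm, index_stabilizer]
  simp [Set.ncard]

theorem mem_alternating_of_simple {G α : Type*} [Group G] [IsSimpleGroup G] [Fintype α]
    [DecidableEq α] (hG : ¬ IsMulCommutative G) (f : G →* Equiv.Perm α) (g : G) :
    f g ∈ alternatingGroup α := by
  rcases (Equiv.Perm.sign.comp f).normal_ker.eq_bot_or_eq_top with h | h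
  · exfalso
    apply hG
    rw [isMulCommutative_iff]
    intro a b
    apply (MonoidHom.ker_eq_bot_iff _).mp h
    rw [map_mul, map_mul, mul_comm]
  · have : g ∈ (Equiv.Perm.sign.comp f).ker := h ▸ Subgroup.mem_top g
    simpa [Equiv.Perm.mem_alternatingGroup, MonoidHom.mem_ker] using this

/-- A simple group acting nontrivially acts faithfully. -/
theorem injective_of_simple {G K : Type*} [Group G] [IsSimpleGroup G] [Group K] (f : G →* K)
    (h : ∃ g, f g ≠ 1) : Function.Injective f := by
  rcases f.normal_ker.eq_bot_or_eq_top with h' | h'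
  · exact (MonoidHom.ker_eq_bot_iff _).mp h'
  · obtain ⟨g, hg⟩ := h
    exact absurd (f.mem_ker.mp (h' ▸ Subgroup.mem_top g)) hg

theorem toPermHom_ne_one_of_index {G : Type*} [Group G] (H : Subgroup G) (hH : H ≠ ⊤) :
    ∃ g, toPermHom G (G ⧸ H) g ≠ 1 := by
  by_contra hc
  push_neg at hc
  apply hH
  rw [eq_top_iff]
  intro g _
  have h1 : g • ((1 : G) : G ⧸ H) = ((1 : G) : G ⧸ H) := by
    have := congrArg (fun σ : Equiv.Perm (G ⧸ H) => σ ((1 : G) : G ⧸ H)) (hc g)
    simpa using this
  rw [MulAction.Quotient.smul_coe, QuotientGroup.eq] at h1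
  simpa using h1

section Sylow
variable {G : Type*} [Group G] [Finite G] {p : ℕ} [Fact p.Prime]

theorem card_sylow_mul_card_normalizer (P : Sylow p G) :
    Nat.card (Sylow p G) * Nat.card (Subgroup.normalizer ((P : Subgroup G) : Set G))
      = Nat.card G := by
  rw [Sylow.card_eq_index_normalizer P]
  exact Subgroup.index_mul_card _

/-- Orbits of a Sylow subgroup acting on all Sylow subgroups. -/
theorem card_orbit_sylow (P Q : Sylow p G) :
    Nat.card (orbit (P : Subgroup G) Q) = ((Q : Subgroup G).subgroupOf (P : Subgroup G)).index := by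
  have hst : stabilizer (P : Subgroup G) Q = (Q : Subgroup G).subgroupOf (P : Subgroup G) := by
    ext x
    rw [mem_stabilizer_iff, Subgroup.smul_def, Sylow.smul_eq_iff_mem_normalizer,
      Subgroup.mem_subgroupOf]
    constructor
    · intro hx
      have : (x : G) ∈ (P : Subgroup G) ⊓ Subgroup.normalizer ((Q : Subgroup G) : Set G) :=
        ⟨x.2, hx⟩
      exact ((P.isPGroup'.inf_normalizer_sylow Q).le this).2
    · exact fun hx => Subgroup.le_normalizer hx
  rw [← hst, index_stabilizer]
  simp [Set.ncard]

/-- In a finite p-group an intersection with a proper subgroup grows inside its normalizer. -/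
theorem lt_inf_normalizer {P D : Subgroup G} (hP : IsPGroup p P) (h : D < P) :
    D < P ⊓ Subgroup.normalizer (D : Set G) := by
  have : Group.IsNilpotent P := hP.isNilpotent
  have hc := Group.normalizerCondition_of_isNilpotent (G := P) (D.subgroupOf P) (by
    rw [lt_top_iff_ne_top, ne_eq, Subgroup.subgroupOf_eq_top]
    exact not_le_of_gt h)
  obtain ⟨x, hx, hxD⟩ := SetLike.exists_of_lt hc
  refine lt_of_le_of_ne (le_inf h.le Subgroup.le_normalizer) fun he => hxD ?_
  rw [Subgroup.mem_subgroupOf, he]
  refine ⟨x.2, Subgroup.mem_normalizer_iff.mpr ?_⟩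
  rw [Subgroup.mem_normalizer_iff] at hx
  intro d
  constructor
  · intro hd
    exact Subgroup.mem_subgroupOf.mp ((hx ⟨d, h.le hd⟩).mp (Subgroup.mem_subgroupOf.mpr hd))
  · intro hd
    have hdP : (x : G) * d * (x : G)⁻¹ ∈ P := h.le hd
    have : d ∈ P := by
      have := mul_mem (mul_mem (inv_mem x.2) hdP) x.2
      simpa [mul_assoc] using this
    exact Subgroup.mem_subgroupOf.mp ((hx ⟨d, this⟩).mpr (Subgroup.mem_subgroupOf.mpr hd))

end Sylow

end Cfsg.Agent.SmallSimple
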