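import Cfsg.Agent.Lib.SmallSimple.Basic
import Cfsg.Agent.Lib.CharInt.Burnside
import Cfsg.Agent.Lib.Transfer.AbelianSylow

/-!
# Non-simplicity criteria for small orders
-/

set_option autoImplicit false

namespace Cfsg.Agent.SmallSimple

open Subgroup

universe u

variable {G : Type u} [Group G] [Finite G]

theorem factorization_mul_eq {n q k m : ℕ} (hq : q.Prime) (hn : n = q ^ k * m) (hm : ¬ q ∣ m) :
    n.factorization q = k := by
  have hm0 : m ≠ 0 := fun h => hm (h ▸ dvd_zero q)
  rw [hn, Nat.factorization_mul (pow_ne_zero _ hq.ne_zero) hm0, Finsupp.add_apply,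
    hq.factorization_pow, Finsupp.single_eq_same, Nat.factorization_eq_zero_of_not_dvd hm, add_zero]

theorem card_sylow_eq_pow {q : ℕ} [Fact q.Prime] (P : Sylow q G) (k m : ℕ)
    (hn : Nat.card G = q ^ k * m) (hm : ¬ q ∣ m) : Nat.card (P : Subgroup G) = q ^ k := by
  rw [P.card_eq_multiplicity, factorization_mul_eq Fact.out hn hm]

variable [IsSimpleGroup G]

theorem no_complement_of_lt {p : ℕ} [Fact p.Prime] (P : Sylow p G)
    (h1 : 1 < Nat.card (P : Subgroup G)) (h2 : Nat.card (P : Subgroup G) < Nat.card G) :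
    ∀ N : Subgroup G, N.Normal → ¬ IsComplement' N (P : Subgroup G) := fun N hN hc => by
  rcases hN.eq_bot_or_eq_top with rfl | rfl
  · rw [isComplement'_bot_left] at hc
    rw [hc, card_top] at h2
    exact lt_irrefl _ h2
  · rw [isComplement'_top_left] at hc
    rw [hc, card_bot] at h1
    exact lt_irrefl _ h1

/-- No simple group of composite order has a prime of exponent one that is the smallest. -/
theorem false_of_min_exponent_one {q m : ℕ} (hq : q.Prime) (hn : Nat.card G = q * m) (hm1 : 1 < m)
    (hm : ∀ r, r.Prime → r ∣ m → q < r) : False := by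
  have : Fact q.Prime := ⟨hq⟩
  obtain ⟨P⟩ : Nonempty (Sylow q G) := inferInstance
  have hP := card_sylow_eq_pow P 1 m (by rw [pow_one, hn]) (fun h => lt_irrefl _ (hm q hq h))
  rw [pow_one] at hP
  have hcyc : IsCyclic (P : Subgroup G) := isCyclic_of_prime_card hP
  have hmin : (Nat.card G).minFac = q := by
    refine le_antisymm (Nat.minFac_le_of_dvd hq.two_le (Dvd.intro m hn.symm)) ?_
    have hne : Nat.card G ≠ 1 := by
      rw [hn]; exact fun h => hq.one_lt.ne' (Nat.eq_one_of_mul_eq_one_right h)
    have hmf := Nat.minFac_prime hne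
    have hd := Nat.minFac_dvd (Nat.card G)
    generalize (Nat.card G).minFac = f at hmf hd
    rw [hn] at hd
    rcases hmf.dvd_mul.mp hd with h | h
    · exact Nat.le_of_eq ((Nat.prime_dvd_prime_iff_eq hmf hq).mp h).symm
    · exact (hm _ hmf h).le
  exact no_complement_of_lt P (by rw [hP]; exact hq.one_lt)
    (by rw [hP, hn]; exact lt_mul_of_one_lt_right hq.pos hm1)
    _ (MonoidHom.normal_ker _) (hcyc.isComplement' hmin)

/-- A composite order `q^a r^b` is not the order of a simple group. -/
theorem false_of_two_primes {q r a b : ℕ} (hq : q.Prime) (hr : r.Prime) (hn : Nat.card G = q ^ a * r ^ b)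
    (hnp : ¬ (Nat.card G).Prime) : False := by
  have hs := CharInt.isSolvable_of_card_eq hq hr hn
  exact hnp (CharInt.card_prime_of_simple_comm (IsSimpleGroup.comm_iff_isSolvable.mpr hs))

theorem p_sq_q_r_aux {p q r : ℕ} (hp : p.Prime) (hq : q.Prime) (hr : r.Prime) (hpq : p < q)
    (hqr : q < r) (hG : Nat.card G = p ^ 2 * q * r) : Nat.card G = 60 := by
  have : Fact p.Prime := ⟨hp⟩
  have : Fact r.Prime := ⟨hr⟩
  have hG1 : Nat.card G = p ^ 2 * (q * r) := by rw [hG]; ring
  have hpm : ¬ p ∣ q * r := fun h => by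
    rcases hp.dvd_mul.mp h with h | h
    · exact hpq.ne ((Nat.prime_dvd_prime_iff_eq hp hq).mp h)
    · exact (hpq.trans hqr).ne ((Nat.prime_dvd_prime_iff_eq hp hr).mp h)
  obtain ⟨P⟩ : Nonempty (Sylow p G) := inferInstance
  have hP := card_sylow_eq_pow P 2 (q * r) hG1 hpm
  have hab : IsMulCommutative (P : Subgroup G) := IsPGroup.isMulCommutative_of_card_eq_prime_sq hP
  -- some larger prime divides p² - p^j
  have hp23 : p = 2 ∧ q = 3 := by
    have hkey : ∃ s : ℕ, (s = q ∨ s = r) ∧ ∃ j < 2, s ∣ p ^ 2 - p ^ j := by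
      by_contra hc
      have hnc := Transfer.normalizer_le_centralizer_of_primes P 2 hP (fun s hs hsp hsG j hj hd => hc ⟨s, by
        rw [hG1] at hsG
        rcases hs.dvd_mul.mp hsG with h | h
        · exact absurd ((Nat.prime_dvd_prime_iff_eq hs hp).mp (hs.dvd_of_dvd_pow h)) hsp
        · exact (hs.dvd_mul.mp h).imp (fun h => (Nat.prime_dvd_prime_iff_eq hs hq).mp h)
            (fun h => (Nat.prime_dvd_prime_iff_eq hs hr).mp h), j, hj, hd⟩)
      refine no_complement_of_lt P (by rw [hP]; exact Nat.one_lt_pow two_ne_zero hp.one_lt) ?_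
        _ (MonoidHom.normal_ker _) (MonoidHom.ker_transferSylow_isComplement' P hnc)
      rw [hP, hG1]
      exact lt_mul_of_one_lt_right (pow_pos hp.pos 2) (Nat.one_lt_mul_iff.mpr ⟨hq.pos, hr.pos, Or.inl hq.one_lt⟩)
    obtain ⟨s, hs, j, hj, hd⟩ := hkey
    have hsp : s.Prime := by rcases hs with rfl | rfl <;> assumption
    have hps : p < s := by rcases hs with rfl | rfl <;> omega
    have hp2 : p ^ 2 - p ^ j = p * (p - 1) ∨ p ^ 2 - p ^ j = (p - 1) * (p + 1) := by
      interval_cases j
      · right
        obtain ⟨t, rfl⟩ : ∃ t, p = t + 1 := ⟨p - 1, by have := hp.two_le; omega⟩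
        rw [pow_zero, Nat.add_sub_cancel, show (t + 1) ^ 2 = t * (t + 1 + 1) + 1 by ring, Nat.add_sub_cancel]
      · left
        obtain ⟨t, rfl⟩ : ∃ t, p = t + 1 := ⟨p - 1, by have := hp.two_le; omega⟩
        rw [pow_one, Nat.add_sub_cancel, show (t + 1) ^ 2 = (t + 1) * t + (t + 1) by ring, Nat.add_sub_cancel]
    have h1 : ¬ s ∣ p - 1 := fun h => by
      have := Nat.le_of_dvd (by have := hp.two_le; omega) h
      omega
    have h2 : ¬ s ∣ p := fun h => by have := Nat.le_of_dvd hp.pos h; omega
    have h3 : s ∣ p + 1 := by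
      rcases hp2 with h | h <;> rw [h] at hd
      · exact absurd ((hsp.dvd_mul).mp hd) (by tauto)
      · exact ((hsp.dvd_mul).mp hd).resolve_left h1
    have h4 : s = p + 1 := le_antisymm (Nat.le_of_dvd (Nat.succ_pos p) h3) hps
    rcases hp.eq_two_or_odd' with rfl | ho
    · refine ⟨rfl, ?_⟩
      rcases hs with rfl | rfl <;> omega
    · exfalso
      rcases hsp.eq_two_or_odd' with hs2 | hs2
      · have := hp.two_le; omega
      · obtain ⟨a, ha⟩ := ho; obtain ⟨b, hb⟩ := hs2; omega
  obtain ⟨rfl, rfl⟩ := hp23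
  have hG2 : Nat.card G = r ^ 1 * 12 := by rw [hG]; ring
  have hr5 : 5 ≤ r := by
    by_contra hc
    interval_cases r <;> first | omega | norm_num at hr
  obtain ⟨R⟩ : Nonempty (Sylow r G) := inferInstance
  have hr12 : ¬ r ∣ 12 := fun h => by
    have := Nat.le_of_dvd (by norm_num) h
    interval_cases r <;> first | (norm_num at hr; done) | (norm_num at h)
  have hR := card_sylow_eq_pow R 1 12 hG2 hr12
  rw [pow_one] at hR hG2
  set n := Nat.card (Sylow r G) with hn
  have hdvd : n ∣ 12 := by
    have h1 := R.card_dvd_index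
    have h2 := card_mul_index (R : Subgroup G)
    rw [hR, hG2] at h2
    rwa [show (R : Subgroup G).index = 12 from Nat.eq_of_mul_eq_mul_left hr.pos h2] at h1
  have hmod : n ≡ 1 [MOD r] := card_sylow_modEq_one r G
  have hne1 : n ≠ 1 := fun h => by
    have : Subsingleton (Sylow r G) := (Nat.card_eq_one_iff_unique.mp h).1
    rcases R.normal_of_subsingleton.eq_bot_or_eq_top with hb | hb
    · rw [hb, card_bot] at hR; omega
    · rw [hb, card_top, hG2] at hR; omega
  have hne12 : n ≠ 12 := fun h => by
    -- the Sylow r-subgroup would be self-normalizing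
    have hmul := card_sylow_mul_card_normalizer R
    rw [← hn, h, hG2] at hmul
    have hN : normalizer ((R : Subgroup G) : Set G) = R :=
      (eq_of_le_of_card_ge le_normalizer (by rw [hR]; omega)).symm
    have : IsMulCommutative (R : Subgroup G) := (isCyclic_of_prime_card hR).isMulCommutative
    exact no_complement_of_lt R (by rw [hR]; omega) (by rw [hR, hG2]; omega) _ (MonoidHom.normal_ker _)
      (MonoidHom.ker_transferSylow_isComplement' R (hN.le.trans (le_centralizer _)))
  have hle := Nat.le_of_dvd (by norm_num) hdvd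
  have hlt : r < n := by
    have h1 : n % r = 1 := by rw [hmod, Nat.mod_eq_of_lt hr.one_lt]
    by_contra hc
    rcases Nat.lt_or_ge n r with h' | h'
    · rw [Nat.mod_eq_of_lt h'] at h1; exact hne1 h1
    · rw [show n = r by omega, Nat.mod_self] at h1; omega
  unfold Nat.ModEq at hmod
  interval_cases n <;> interval_cases r <;> first | omega | norm_num at hdvd

end Cfsg.Agent.SmallSimple
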