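import Cfsg.Agent.Lib.SmallSimple.CentralizerOrbits
import Cfsg.Agent.Lib.SmallSimple.Criteria

/-!
# A simple group with 36 Sylow 5-subgroups of order 5 has centralisers of odd order

An involution centralising `P` fixes 16 of the 36 Sylow subgroups, an element of `N(P) \ C(P)` at most 8.
So every class of involutions meets `C(P)` in a multiple of four elements, but `C(P)` contains an odd number
of involutions.
-/

set_option autoImplicit false
set_option linter.unusedSectionVars false

namespace Cfsg.Agent.SmallSimple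

open MulAction

theorem fixed_of_even_involution : ∀ σ : Equiv.Perm (Fin 7), σ * σ = 1 → Equiv.Perm.sign σ = 1 → σ ≠ 1 →
    (Finset.univ.filter fun i => σ i = i).card = 3 := by
  intro σ hσ hsign hne
  have hord : orderOf σ = 2 := orderOf_eq_prime (by rw [pow_two]; exact hσ) hne
  obtain ⟨k, hk⟩ := Equiv.Perm.cycleType_prime_order (σ := σ) (by rw [hord]; exact Nat.prime_two)
  rw [hord] at hk
  have hsum := Equiv.Perm.sum_cycleType σ
  rw [Equiv.Perm.sign_of_cycleType, hk, Multiset.sum_replicate, Multiset.card_replicate, smul_eq_mul] at hsign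
  rw [hk, Multiset.sum_replicate, smul_eq_mul] at hsum
  have hle : σ.support.card ≤ 7 := σ.support.card_le_univ.trans (by simp)
  have hfix : (Finset.univ.filter fun i => σ i = i) = σ.supportᶜ := by
    ext i; simp
  rw [hfix, Finset.card_compl, Fintype.card_fin, ← hsum]
  have hk2 : k ≤ 2 := by omega
  interval_cases k <;> first | omega | exact absurd hsign (by decide)

variable {G : Type*} [Group G] [Finite G]

theorem odd_card_involutions {H : Subgroup G} (h : 2 ∣ Nat.card H) :
    Odd (Nat.card {u : G // u ∈ H ∧ u * u = 1 ∧ u ≠ 1}) := by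
  classical
  haveI := Fintype.ofFinite H
  haveI : Fact (Nat.Prime 2) := ⟨Nat.prime_two⟩
  have hsq : (Equiv.inv H) ^ 2 ^ 1 = 1 := by ext x; simp [pow_two]
  have hmod := Equiv.Perm.card_compl_support_modEq (σ := Equiv.inv H) hsq
  have hfix : (Equiv.inv H).supportᶜ = Finset.univ.filter fun x : H => x * x = 1 := by
    ext x; simp [inv_eq_iff_mul_eq_one]
  rw [hfix, ← Nat.card_eq_fintype_card] at hmod
  have hev : 2 ∣ (Finset.univ.filter fun x : H => x * x = 1).card :=
    (Nat.ModEq.dvd_iff hmod dvd_rfl).2 h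
  have he : Nat.card {u : G // u ∈ H ∧ u * u = 1 ∧ u ≠ 1} =
      ((Finset.univ.filter fun x : H => x * x = 1).erase 1).card := by
    rw [← Nat.card_eq_finsetCard]
    exact Nat.card_congr
      { toFun := fun u => ⟨⟨u.1, u.2.1⟩, Finset.mem_erase.2 ⟨fun h => u.2.2.2 (congrArg Subtype.val h),
          Finset.mem_filter.2 ⟨Finset.mem_univ _, Subtype.ext u.2.2.1⟩⟩⟩
        invFun := fun x => ⟨x.1, x.1.2, congrArg Subtype.val (Finset.mem_filter.1 (Finset.mem_erase.1 x.2).2).2,
          fun h => (Finset.mem_erase.1 x.2).1 (Subtype.ext h)⟩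
        left_inv := fun _ => rfl
        right_inv := fun _ => rfl }
  rw [he, Finset.card_erase_of_mem (by simp)]
  obtain ⟨k, hk⟩ := hev
  have : 0 < (Finset.univ.filter fun x : H => x * x = 1).card := Finset.card_pos.2 ⟨1, by simp⟩
  exact ⟨k - 1, by omega⟩

theorem card_fixed_conj {X : Type*} [MulAction G X] {t u : G} (h : IsConj t u) :
    Nat.card {x : X // t • x = x} = Nat.card {x : X // u • x = x} := by
  obtain ⟨g, hg⟩ := isConj_iff.1 h
  exact Nat.card_congr
    { toFun := fun x => ⟨g • x.1, by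
        calc u • g • x.1 = g • (t • x.1) := by simp [← hg, mul_smul]
          _ = g • x.1 := by rw [x.2]⟩
      invFun := fun x => ⟨g⁻¹ • x.1, by
        calc t • g⁻¹ • x.1 = g⁻¹ • (u • x.1) := by simp [← hg, mul_smul]
          _ = g⁻¹ • x.1 := by rw [x.2]⟩
      left_inv := fun x => Subtype.ext (inv_smul_smul g x.1)
      right_inv := fun x => Subtype.ext (smul_inv_smul g x.1) }

variable [IsSimpleGroup G]

/-- **Main lemma.** -/
theorem false_of_thirtysix (hG : ¬ IsMulCommutative G) [Fact (Nat.Prime 5)] (P : Sylow 5 G)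
    (hP : Nat.card (P : Subgroup G) = 5) (hn : Nat.card (Sylow 5 G) = 36)
    (h2 : 2 ∣ Nat.card (Subgroup.centralizer ((P : Subgroup G) : Set G))) : False := by
  classical
  haveI := Fintype.ofFinite G
  haveI := Fintype.ofFinite (Sylow 5 G)
  have hdvd : 5 ∣ Nat.card G := hP ▸ Subgroup.card_subgroup_dvd_card _
  set C := Subgroup.centralizer ((P : Subgroup G) : Set G)
  have hPfree : ∀ Q : Sylow 5 G, Q ≠ P → ∀ a ∈ (P : Subgroup G), a • Q = Q → a = 1 :=
    fun Q hQ a ha h => eq_one_of_smul_eq hP hQ ha h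
  have hmove : ∀ Q : Sylow 5 G, Q ≠ P → ∀ a ∈ (P : Subgroup G), a • Q ≠ P := fun Q hQ a ha h => hQ (by
    rw [eq_inv_smul_iff.2 h]
    exact smul_sylow_eq_iff.2 (Subgroup.le_normalizer (inv_mem ha)))
  -- involutions of `C` fix 16
  have h16 : ∀ t ∈ C, t * t = 1 → t ≠ 1 → Nat.card {Q : Sylow 5 G // t • Q = Q} = 16 := by
    intro t ht ht2 ht1
    have hord : orderOf t = 2 := orderOf_eq_prime (by rw [pow_two]; exact ht2) ht1
    obtain ⟨q, φ, hφ, hq, hfix, horb⟩ := exists_centralizer_hom hG (by decide) hdvd P hP (k := 7)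
      (by rw [hn]) (Subgroup.zpowers t) (Subgroup.zpowers_le.2 ht) (by rw [Nat.card_zpowers, hord]; norm_num)
    set z : Subgroup.zpowers t := ⟨t, Subgroup.mem_zpowers t⟩
    have hz2 : z * z = 1 := Subtype.ext ht2
    have hσ := fixed_of_even_involution (φ z : Equiv.Perm (Fin 7))
      (by rw [← Subgroup.coe_mul, ← map_mul, hz2, map_one]; rfl) (Equiv.Perm.mem_alternatingGroup.1 (φ z).2)
      (fun h => ht1 (congrArg Subtype.val (hφ (a₁ := z) (a₂ := 1) (by rw [map_one]; exact Subtype.ext h))))
    have hPfix : t • P = P := smul_sylow_eq_iff.2 (centralizer_le_normalizer _ ht)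
    have hfib : ∀ i, (Finset.univ.filter fun Q : {Q : Sylow 5 G // Q ≠ P} => q Q = i).card = 5 := by
      intro i
      obtain ⟨Q₀, hQ₀⟩ := hq i
      rw [← Fintype.card_subtype, ← Nat.card_eq_fintype_card]
      refine Eq.trans ?_ hP
      refine (Nat.card_congr (Equiv.ofBijective
        (fun x : (P : Subgroup G) => (⟨⟨(x : G) • Q₀.1, hmove _ Q₀.2 _ x.2⟩,
          ((horb Q₀ _).2 ⟨x, x.2, rfl⟩).symm.trans hQ₀⟩ : {Q // q Q = i})) ⟨?_, ?_⟩)).symm
      · intro a b hab
        have h : (a : G) • Q₀.1 = (b : G) • Q₀.1 := congrArg (fun Q => Q.1.1) hab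
        have := hPfree _ Q₀.2 _ (mul_mem (inv_mem b.2) a.2) (by rw [mul_smul, h, inv_smul_smul])
        exact Subtype.ext (inv_mul_eq_one.1 this).symm
      · rintro ⟨Q, hQ⟩
        obtain ⟨x, hx, h⟩ := (horb Q₀ Q).1 (hQ₀.trans hQ.symm)
        exact ⟨⟨x, hx⟩, Subtype.ext (Subtype.ext h)⟩
    have hne : (Finset.univ.filter fun Q : {Q : Sylow 5 G // Q ≠ P} => t • Q.1 = Q.1).card = 15 := by
      rw [Finset.card_eq_sum_card_fiberwise (f := q)
        (t := Finset.univ.filter fun i => (φ z : Equiv.Perm (Fin 7)) i = i)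
        (fun Q hQ => by
          simp only [Finset.coe_filter, Finset.mem_univ, true_and, Set.mem_setOf_eq] at hQ ⊢
          exact (hfix z Q).2 hQ)]
      refine (Finset.sum_congr rfl (g := fun _ => 5) fun i hi => ?_).trans (by rw [Finset.sum_const, hσ]; rfl)
      refine Eq.trans ?_ (hfib i)
      rw [Finset.filter_filter]
      refine congrArg Finset.card (Finset.filter_congr fun Q _ => ⟨fun h => h.2, fun h => ⟨?_, h⟩⟩)
      exact (hfix z Q).1 (h ▸ (Finset.mem_filter.1 hi).2)
    rw [Nat.card_eq_fintype_card, Fintype.card_subtype]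
    have : (Finset.univ.filter fun Q : Sylow 5 G => t • Q = Q) =
        insert P ((Finset.univ.filter fun Q : {Q : Sylow 5 G // Q ≠ P} => t • Q.1 = Q.1).image Subtype.val) := by
      ext Q
      simp only [Finset.mem_filter, Finset.mem_univ, true_and, Finset.mem_insert, Finset.mem_image]
      constructor
      · intro h
        by_cases hQ : Q = P
        · exact Or.inl hQ
        · exact Or.inr ⟨⟨Q, hQ⟩, h, rfl⟩
      · rintro (rfl | ⟨R, hR, rfl⟩)
        · exact hPfix
        · exact hR
    rw [this, Finset.card_insert_of_notMem (by simp), Finset.card_image_of_injective _ Subtype.val_injective,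
      hne]
  -- elements of `N \ C` fix at most 8
  have h8 : ∀ u : G, u • P = P → u ∉ C → Nat.card {Q : Sylow 5 G // u • Q = Q} ≤ 8 := by
    intro u huP huC
    obtain ⟨q, -, -, -, -, horb⟩ := exists_centralizer_hom hG (by decide) hdvd P hP (k := 7)
      (by rw [hn]) ⊥ bot_le (by rw [Subgroup.card_bot]; norm_num)
    have hinj : Function.Injective fun Q : {Q : Sylow 5 G // u • Q = Q} =>
        if h : Q.1 = P then (none : Option (Fin 7)) else some (q ⟨Q.1, h⟩) := by
      intro A B hAB
      apply Subtype.ext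
      by_cases hA : A.1 = P <;> by_cases hB : B.1 = P <;> simp [hA, hB] at hAB ⊢
      obtain ⟨x, hx, hxA⟩ := (horb _ _).1 hAB
      simp only at hxA
      have hux : u * x * u⁻¹ ∈ (P : Subgroup G) :=
        (Subgroup.mem_normalizer_iff.1 (smul_sylow_eq_iff.1 huP) x).1 hx
      have h1 : (x⁻¹ * (u * x * u⁻¹)) • A.1 = A.1 := by
        rw [mul_smul, mul_smul, mul_smul, inv_smul_eq_iff.2 A.2.symm, hxA, B.2, ← hxA, inv_smul_smul]
      have h2 := hPfree _ hA _ (mul_mem (inv_mem hx) hux) h1
      by_cases hx1 : x = 1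
      · rw [← hxA, hx1, one_smul]
      · exfalso
        apply huC
        have hgen : Subgroup.zpowers x = (P : Subgroup G) := by
          refine Subgroup.eq_of_le_of_card_ge (Subgroup.zpowers_le.2 hx) ?_
          rw [Nat.card_zpowers, hP]
          rcases (Fact.out : (5 : ℕ).Prime).eq_one_or_self_of_dvd _
            ((Subgroup.orderOf_dvd_natCard _ hx).trans hP.dvd) with h | h
          · exact absurd (orderOf_eq_one_iff.1 h) hx1
          · exact h.ge
        have hcomm : Commute u x := by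
          have := (inv_mul_eq_one.1 h2).symm
          exact mul_inv_eq_iff_eq_mul.1 this
        intro y hy
        rw [← hgen] at hy
        obtain ⟨j, rfl⟩ := Subgroup.mem_zpowers_iff.1 hy
        exact (hcomm.zpow_right j).eq.symm
    refine (Nat.card_le_card_of_injective _ hinj).trans ?_
    simp
  -- each class meets `C` in a multiple of four elements
  have hfour : ∀ t ∈ C, t * t = 1 → t ≠ 1 → 4 ∣ (Finset.univ.filter fun u : G => IsConj t u ∧ u ∈ C).card := by
    intro t ht ht2 ht1
    set T := Finset.univ.filter fun u : G => IsConj t u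
    have hdc : ∑ Q : Sylow 5 G, (T.filter fun u => u • Q = Q).card =
        ∑ u ∈ T, (Finset.univ.filter fun Q : Sylow 5 G => u • Q = Q).card := by
      simp only [Finset.card_filter]
      exact Finset.sum_comm
    have hr : ∀ u ∈ T, (Finset.univ.filter fun Q : Sylow 5 G => u • Q = Q).card = 16 := fun u hu => by
      rw [← Fintype.card_subtype, ← Nat.card_eq_fintype_card, ← card_fixed_conj (Finset.mem_filter.1 hu).2]
      exact h16 t ht ht2 ht1
    have hl : ∀ Q : Sylow 5 G, (T.filter fun u => u • Q = Q).card =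
        (Finset.univ.filter fun u : G => IsConj t u ∧ u ∈ C).card := by
      intro Q
      obtain ⟨g, hg⟩ := exists_smul_eq G P Q
      rw [Finset.filter_filter]
      refine Finset.card_bij' (fun u _ => g⁻¹ * u * g) (fun u _ => g * u * g⁻¹) (fun u hu => ?_) (fun u hu => ?_)
        (fun u _ => by group) (fun u _ => by group)
      · simp only [Finset.mem_filter, Finset.mem_univ, true_and] at hu ⊢
        have hc : IsConj t (g⁻¹ * u * g) := hu.1.trans (isConj_iff.2 ⟨g⁻¹, by rw [inv_inv]⟩)
        refine ⟨hc, by_contra fun h => ?_⟩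
        have hfixP : (g⁻¹ * u * g) • P = P := by rw [mul_smul, mul_smul, hg, hu.2, ← hg, inv_smul_smul]
        have h1 := h8 _ hfixP h
        rw [← card_fixed_conj hc, h16 t ht ht2 ht1] at h1
        norm_num at h1
      · simp only [Finset.mem_filter, Finset.mem_univ, true_and] at hu ⊢
        refine ⟨hu.1.trans (isConj_iff.2 ⟨g, rfl⟩), ?_⟩
        rw [← hg, mul_smul, mul_smul, inv_smul_smul, smul_sylow_eq_iff.2 (centralizer_le_normalizer _ hu.2)]
    rw [Finset.sum_congr rfl fun Q _ => hl Q, Finset.sum_congr rfl hr, Finset.sum_const, Finset.sum_const,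
      Finset.card_univ, ← Nat.card_eq_fintype_card, hn, smul_eq_mul, smul_eq_mul] at hdc
    omega
  have hodd := odd_card_involutions h2
  rw [Nat.card_eq_fintype_card, Fintype.card_subtype,
    Finset.card_eq_sum_card_image (fun u : G => ConjClasses.mk u)] at hodd
  have hev : 2 ∣ ∑ b ∈ (Finset.univ.filter fun u : G => u ∈ C ∧ u * u = 1 ∧ u ≠ 1).image fun u => ConjClasses.mk u,
      ((Finset.univ.filter fun u : G => u ∈ C ∧ u * u = 1 ∧ u ≠ 1).filter fun u => ConjClasses.mk u = b).card := by
    refine Finset.dvd_sum fun b hb => ?_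
    obtain ⟨t, ht, rfl⟩ := Finset.mem_image.1 hb
    obtain ⟨ht, ht2, ht1⟩ := (Finset.mem_filter.1 ht).2
    refine dvd_trans (by norm_num : 2 ∣ 4) (Eq.subst ?_ (hfour t ht ht2 ht1))
    refine congrArg Finset.card ?_
    ext u
    simp only [Finset.mem_filter, Finset.mem_univ, true_and, ConjClasses.mk_eq_mk_iff_isConj]
    refine ⟨fun h => ⟨⟨h.2, ?_, ?_⟩, h.1.symm⟩, fun h => ⟨h.2.symm, h.1.1⟩⟩
    · obtain ⟨g, hg⟩ := isConj_iff.1 h.1
      rw [← hg, show g * t * g⁻¹ * (g * t * g⁻¹) = g * (t * t) * g⁻¹ by group, ht2]; group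
    · rintro rfl
      exact ht1 (isConj_one_left.1 h.1)
  exact (Nat.not_even_iff_odd.2 hodd) (even_iff_two_dvd.2 hev)

/-- Sylow 5-counts `6`, `16`, `36`, `96` cannot occur for `|G| = 5 m` with the usual small-order facts. -/
theorem card_sylow_five_cases (hG : ¬ IsMulCommutative G) [Fact (Nat.Prime 5)] {m : ℕ}
    (hn : Nat.card G = 5 * m) (hm : ¬ 5 ∣ m) (h720 : ¬ 5 * m ∣ 720) (hn0 : Nat.card (Sylow 5 G) ∣ m) :
    Nat.card (Sylow 5 G) ≠ 6 ∧ (9 ∣ m → Nat.card (Sylow 5 G) ≠ 16) ∧
      (8 ∣ m / 36 → Nat.card (Sylow 5 G) ≠ 36) ∧ (Odd (m / 96) → Nat.card (Sylow 5 G) ≠ 96) := by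
  obtain ⟨P⟩ : Nonempty (Sylow 5 G) := inferInstance
  have hP : Nat.card (P : Subgroup G) = 5 := by
    rw [card_sylow_subgroup (k := 1) (m := m) (by rw [pow_one, hn]) hm P, pow_one]
  have hdvd : 5 ∣ Nat.card G := hn ▸ dvd_mul_right 5 m
  set N := Subgroup.normalizer ((P : Subgroup G) : Set G) with hNdef
  set C := Subgroup.centralizer ((P : Subgroup G) : Set G) with hCdef
  have hNC : Nat.card N ∣ Nat.card C * 4 := card_normalizer_dvd P hP
  have hN : ∀ n, Nat.card (Sylow 5 G) = n → n ∣ m ∧ Nat.card N = 5 * (m / n) := by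
    intro n h
    have h1 := card_sylow_mul_card_normalizer P
    rw [h, hn] at h1
    obtain ⟨k, rfl⟩ := h ▸ hn0
    refine ⟨dvd_mul_right n k, ?_⟩
    rcases Nat.eq_zero_or_pos n with rfl | hpos
    · simp at hm
    rw [Nat.mul_div_cancel_left _ hpos]
    exact Nat.eq_of_mul_eq_mul_left hpos (h1.trans (by ring))
  refine ⟨fun h => h720 ?_, fun h9 h => ?_, fun h8 h => ?_, fun hodd h => ?_⟩
  · have hidx : N.index = 6 := (Sylow.card_eq_index_normalizer P).symm.trans h
    have hne : N ≠ ⊤ := fun ht => by rw [ht, Subgroup.index_top] at hidx; norm_num at hidx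
    have := card_dvd_factorial hne
    rw [hidx, hn] at this
    exact this
  · obtain ⟨h16, hN16⟩ := hN 16 h
    haveI : Fact (Nat.Prime 3) := ⟨Nat.prime_three⟩
    refine not_dvd_centralizer hG (by decide) hdvd P hP (k := 3) (by rw [h]) (r := 3) (n := 2) (by norm_num)
      (by rw [nat_card_alternatingGroup]; norm_num [Nat.factorial]) ?_
    have h9' : 9 ∣ m / 16 := by
      obtain ⟨k, rfl⟩ := h16
      rw [Nat.mul_div_cancel_left _ (by norm_num : 0 < 16)]
      exact (Nat.Coprime.dvd_of_dvd_mul_left (by norm_num) h9)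
    have : 9 ∣ Nat.card C * 4 := dvd_trans (hN16 ▸ dvd_mul_of_dvd_right h9' 5) hNC
    exact (Nat.Coprime.dvd_of_dvd_mul_right (by norm_num : Nat.Coprime 9 4) this)
  · obtain ⟨-, hN36⟩ := hN 36 h
    refine false_of_thirtysix hG P hP h ?_
    obtain ⟨k, hk⟩ := dvd_trans (hN36 ▸ dvd_mul_of_dvd_right h8 5) hNC
    change 2 ∣ Nat.card C
    omega
  · obtain ⟨-, hN96⟩ := hN 96 h
    apply not_hasNormalPComplement hG hdvd
    refine Transfer.hasNormalPComplement_of_normalizer_le_centralizer P ?_
    have hd : Nat.card N ∣ Nat.card C := by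
      refine Nat.Coprime.dvd_of_dvd_mul_right ?_ hNC
      rw [hN96]
      exact Nat.Coprime.mul_left (by norm_num) ((Nat.coprime_two_right.2 hodd).pow_right 2)
    exact (Subgroup.eq_of_le_of_card_ge (centralizer_le_normalizer _)
      (Nat.le_of_dvd Nat.card_pos hd)).ge

end Cfsg.Agent.SmallSimple
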