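import Mathlib

/-!
# Abelian Sylow 2-subgroups with exactly three involutions
-/

set_option autoImplicit false

namespace Cfsg.Agent.SmallSimple

open Subgroup

theorem perm_three_of_cube {X : Type*} [Finite X] (hX : Nat.card X = 3) (σ : Equiv.Perm X)
    (h3 : σ ^ 3 = 1) (h1 : σ ≠ 1) :
    (∀ x, σ x ≠ x) ∧ ∀ x y, x = y ∨ σ x = y ∨ σ (σ x) = y := by
  have key : ∀ τ : Equiv.Perm (Fin 3), τ ^ 3 = 1 → τ ≠ 1 →
      (∀ x, τ x ≠ x) ∧ ∀ x y, x = y ∨ τ x = y ∨ τ (τ x) = y := by decide
  let e : X ≃ Fin 3 := Finite.equivFinOfCardEq hX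
  have h := key (e.permCongrHom σ) (by rw [← map_pow, h3, map_one])
    (fun hc => h1 ((MulEquiv.map_eq_one_iff _).mp hc))
  have happ : ∀ x, e.permCongrHom σ (e x) = e (σ x) := fun x => by simp [Equiv.permCongrHom]
  refine ⟨fun x hx => h.1 (e x) (by rw [happ, hx]), fun x y => ?_⟩
  rcases h.2 (e x) (e y) with h' | h' | h'
  · exact Or.inl (e.injective h')
  · rw [happ] at h'
    exact Or.inr (Or.inl (e.injective h'))
  · rw [happ, happ] at h'
    exact Or.inr (Or.inr (e.injective h'))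

/-- An element of odd order fixing the involutions of an abelian 2-group centralizes it. -/
theorem odd_fix_involutions {G : Type*} [Group G] (P : Subgroup G)
    (hP : IsPGroup 2 P) (hab : ∀ x ∈ P, ∀ y ∈ P, x * y = y * x) (k : G)
    (hk : k ∈ normalizer (P : Set G)) (hodd : ∃ m : ℕ, Odd m ∧ k ^ m = 1)
    (hfix : ∀ x ∈ P, orderOf x = 2 → k * x = x * k) : k ∈ centralizer (P : Set G) := by
  obtain ⟨m, hm, hkm⟩ := hodd
  have key : ∀ a : ℕ, ∀ x ∈ P, x ^ 2 ^ a = 1 → k * x * k⁻¹ = x := by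
    intro a
    induction a with
    | zero => intro x _ hx; simp only [pow_zero, pow_one] at hx; simp [hx]
    | succ a ih =>
      intro x hx hx2
      have hxk : k * x * k⁻¹ ∈ P := (mem_normalizer_iff.mp hk x).mp hx
      set w := x⁻¹ * (k * x * k⁻¹) with hw
      have hwP : w ∈ P := mul_mem (inv_mem hx) hxk
      have hsq : k * x ^ 2 * k⁻¹ = x ^ 2 :=
        ih (x ^ 2) (pow_mem hx 2) (by rw [← pow_mul, ← pow_succ']; exact hx2)
      have hw2 : w ^ 2 = 1 := by
        rw [hw, (show Commute x⁻¹ (k * x * k⁻¹) from hab _ (inv_mem hx) _ hxk).mul_pow, conj_pow, hsq,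
          inv_pow, inv_mul_cancel]
      have hwfix : k * w * k⁻¹ = w := by
        by_cases h1 : w = 1
        · simp [h1]
        · rw [hfix w hwP (orderOf_eq_prime hw2 h1)]; group
      have hiter : ∀ i : ℕ, k ^ i * x * (k ^ i)⁻¹ = x * w ^ i := by
        intro i
        induction i with
        | zero => simp
        | succ i ihi =>
          calc k ^ (i + 1) * x * (k ^ (i + 1))⁻¹ = k * (k ^ i * x * (k ^ i)⁻¹) * k⁻¹ := by
                rw [pow_succ']; group
            _ = k * x * k⁻¹ * (k * w * k⁻¹) ^ i := by rw [ihi, conj_pow]; group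
            _ = x * (w * w ^ i) := by
              rw [hwfix, show k * x * k⁻¹ = x * w by rw [hw, mul_inv_cancel_left], mul_assoc]
            _ = x * w ^ (i + 1) := by rw [pow_succ']
      have hwm := hiter m
      rw [hkm] at hwm
      simp only [one_mul, inv_one, mul_one, left_eq_mul] at hwm
      obtain ⟨j, hj⟩ := hm
      rw [hj, pow_succ, pow_mul, hw2, one_pow, one_mul] at hwm
      have := mul_inv_cancel_left x (k * x * k⁻¹)
      rw [← hw, hwm, mul_one] at this
      exact this.symm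
  rw [mem_centralizer_iff]
  intro x hx
  obtain ⟨a, ha⟩ := hP ⟨x, hx⟩
  have h := key a x hx (by simpa using congrArg Subtype.val ha)
  calc x * k = (k * x * k⁻¹) * k := by rw [h]
    _ = k * x := by group

section
variable {G : Type*} [Group G] [Finite G] (P : Sylow 2 G)
  (hab : ∀ x ∈ (P : Subgroup G), ∀ y ∈ (P : Subgroup G), x * y = y * x)

theorem le_centralizer_of_comm' {G : Type*} [Group G] (P : Subgroup G)
    (hab : ∀ x ∈ P, ∀ y ∈ P, x * y = y * x) : P ≤ centralizer (P : Set G) :=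
  fun x hx => mem_centralizer_iff.mpr fun y hy => hab y hy x hx

include hab in
theorem odd_relIndex : Odd ((centralizer ((P : Subgroup G) : Set G)).relIndex
    (normalizer ((P : Subgroup G) : Set G))) := by
  rw [← Nat.not_even_iff_odd, even_iff_two_dvd]
  intro h
  exact P.not_dvd_index (h.trans ((relIndex_dvd_of_le_left _ (le_centralizer_of_comm' _ hab)).trans
    (relIndex_dvd_index_of_le le_normalizer)))

variable (h3 : Nat.card {x : G // x ∈ (P : Subgroup G) ∧ orderOf x = 2} = 3)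

include hab in
theorem mem_centralizer_of_fix (n : G) (hn : n ∈ normalizer ((P : Subgroup G) : Set G))
    (hfix : ∀ x ∈ (P : Subgroup G), orderOf x = 2 → n * x = x * n) :
    n ∈ centralizer ((P : Subgroup G) : Set G) := by
  obtain ⟨a, m, hm, hd⟩ := Nat.exists_eq_two_pow_mul_odd (orderOf_pos n).ne'
  have h1 : n ^ 2 ^ a ∈ centralizer ((P : Subgroup G) : Set G) := by
    refine odd_fix_involutions _ P.isPGroup' hab _ (pow_mem hn _) ⟨m, hm, ?_⟩ ?_
    · rw [← pow_mul, ← hd, pow_orderOf_eq_one]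
    · intro x hx hx2
      exact ((show Commute n x from hfix x hx hx2).pow_left _).eq
  obtain ⟨r, hr⟩ := odd_relIndex P hab
  have : ((centralizer ((P : Subgroup G) : Set G)).subgroupOf
      (normalizer ((P : Subgroup G) : Set G))).Normal := by
    rw [← normalizerMonoidHom_ker]
    exact MonoidHom.normal_ker _
  have h2 : n ^ (2 * r + 1) ∈ centralizer ((P : Subgroup G) : Set G) := by
    have := Subgroup.pow_index_mem ((centralizer ((P : Subgroup G) : Set G)).subgroupOf
      (normalizer ((P : Subgroup G) : Set G))) ⟨n, hn⟩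
    rw [← relIndex, hr] at this
    simpa [mem_subgroupOf] using this
  have hc : Nat.Coprime (2 ^ a) (2 * r + 1) :=
    Nat.Coprime.pow_left _ (Nat.coprime_two_left.mpr ⟨r, rfl⟩)
  have hb := Int.gcd_eq_gcd_ab (2 ^ a : ℕ) (2 * r + 1 : ℕ)
  rw [Int.gcd_natCast_natCast, hc] at hb
  have := mul_mem (zpow_mem h1 (Int.gcdA (2 ^ a : ℕ) (2 * r + 1 : ℕ)))
    (zpow_mem h2 (Int.gcdB (2 ^ a : ℕ) (2 * r + 1 : ℕ)))
  rwa [← zpow_natCast n, ← zpow_natCast n, ← zpow_mul, ← zpow_mul, ← zpow_add, ← hb,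
    Nat.cast_one, zpow_one] at this

include hab h3 in
/-- `|N(P) : C(P)| ∈ {1,3}`; when it is 3 the normalizer moves every involution of `P` transitively
and every element outside `C(P)` is fixed-point-free on `P`. -/
theorem automizer_three :
    ((centralizer ((P : Subgroup G) : Set G)).relIndex (normalizer ((P : Subgroup G) : Set G)) = 1 ∨
      (centralizer ((P : Subgroup G) : Set G)).relIndex (normalizer ((P : Subgroup G) : Set G)) = 3) ∧
    ((centralizer ((P : Subgroup G) : Set G)).relIndex (normalizer ((P : Subgroup G) : Set G)) ≠ 1 →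
      (∀ s ∈ (P : Subgroup G), ∀ t ∈ (P : Subgroup G), orderOf s = 2 → orderOf t = 2 →
        ∃ n ∈ normalizer ((P : Subgroup G) : Set G), n * s * n⁻¹ = t) ∧
      ∀ z ∈ (P : Subgroup G), z ≠ 1 → ∀ n ∈ normalizer ((P : Subgroup G) : Set G),
        n * z = z * n → n ∈ centralizer ((P : Subgroup G) : Set G)) := by
  classical
  set N := normalizer ((P : Subgroup G) : Set G) with hN
  set X := {x : G // x ∈ (P : Subgroup G) ∧ orderOf x = 2}
  have hinv : ∀ n : N, ∀ x : X, (n : G) * x.1 * (n : G)⁻¹ ∈ (P : Subgroup G) ∧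
      orderOf ((n : G) * x.1 * (n : G)⁻¹) = 2 := fun n x =>
    ⟨(mem_normalizer_iff.mp n.2 _).mp x.2.1, by rw [← MulAut.conj_apply, MulEquiv.orderOf_eq]; exact x.2.2⟩
  let act : MulAction N X :=
    { smul := fun n x => ⟨(n : G) * x.1 * (n : G)⁻¹, hinv n x⟩
      mul_smul := fun a b x => Subtype.ext (by
        show (↑(a * b) : G) * x.1 * (↑(a * b) : G)⁻¹ = (a : G) * ((b : G) * x.1 * (b : G)⁻¹) * (a : G)⁻¹
        simp [mul_assoc])
      one_smul := fun x => Subtype.ext (by
        show ((1 : N) : G) * x.1 * ((1 : N) : G)⁻¹ = x.1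
        simp) }
  set φ := MulAction.toPermHom N X
  have happ : ∀ (n : N) (x : X), (φ n x).1 = (n : G) * x.1 * (n : G)⁻¹ := fun n x => rfl
  have hker : φ.ker = (centralizer ((P : Subgroup G) : Set G)).subgroupOf N := by
    ext n
    rw [MonoidHom.mem_ker, mem_subgroupOf]
    constructor
    · intro h
      refine mem_centralizer_of_fix P hab n n.2 fun x hx hx2 => ?_
      have := happ n ⟨x, hx, hx2⟩
      rw [h] at this
      exact (mul_inv_eq_iff_eq_mul.mp this.symm)
    · intro h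
      ext x
      show (φ n x).1 = x.1
      rw [happ, ← mem_centralizer_iff.mp h _ x.2.1, mul_inv_cancel_right]
  have hrel : (centralizer ((P : Subgroup G) : Set G)).relIndex N = Nat.card φ.range := by
    rw [relIndex, ← hker, index_ker]
  have hd : (centralizer ((P : Subgroup G) : Set G)).relIndex N ∣ 6 := by
    rw [hrel]
    have h := card_subgroup_dvd_card φ.range
    have e : X ≃ Fin 3 := Finite.equivFinOfCardEq h3
    rwa [Nat.card_congr e.permCongr, Nat.card_perm, Nat.card_fin] at h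
  have hor : (centralizer ((P : Subgroup G) : Set G)).relIndex N = 1 ∨
      (centralizer ((P : Subgroup G) : Set G)).relIndex N = 3 := by
    have hle := Nat.le_of_dvd (by norm_num) hd
    have hodd : Odd ((centralizer ((P : Subgroup G) : Set G)).relIndex N) := odd_relIndex P hab
    obtain ⟨r, hr⟩ := hodd
    have : r ≤ 2 := by omega
    rw [hr] at hd ⊢
    interval_cases r <;> simp_all
  refine ⟨hor, fun hne => ?_⟩
  have h3' : Nat.card φ.range = 3 := hrel ▸ hor.resolve_left hne
  have hfix : ∀ n : N, φ n ≠ 1 → (∀ x, φ n x ≠ x) ∧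
      ∀ x y, x = y ∨ φ n x = y ∨ φ n (φ n x) = y := by
    intro n hn
    refine perm_three_of_cube h3 _ ?_ hn
    have := pow_card_eq_one' (G := φ.range) (x := ⟨φ n, n, rfl⟩)
    rw [h3'] at this
    exact congrArg Subtype.val this
  constructor
  · obtain ⟨n, hn⟩ : ∃ n : N, φ n ≠ 1 := by
      by_contra hc
      push Not at hc
      rw [MonoidHom.range_eq_map] at h3'
      have : Subgroup.map φ ⊤ = ⊥ := by
        rw [eq_bot_iff]
        rintro _ ⟨x, -, rfl⟩
        exact hc x
      rw [this, card_bot] at h3'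
      omega
    intro s hs t ht hs2 ht2
    rcases (hfix n hn).2 ⟨s, hs, hs2⟩ ⟨t, ht, ht2⟩ with h | h | h
    · exact ⟨1, one_mem _, by simpa using congrArg Subtype.val h⟩
    · exact ⟨n, n.2, (happ n ⟨s, hs, hs2⟩).symm.trans (congrArg Subtype.val h)⟩
    · refine ⟨(n * n : N), (n * n).2, ?_⟩
      rw [show φ n (φ n ⟨s, hs, hs2⟩) = φ (n * n) ⟨s, hs, hs2⟩ by rw [map_mul]; rfl] at h
      exact (happ (n * n) ⟨s, hs, hs2⟩).symm.trans (congrArg Subtype.val h)
  · intro z hz hz1 n hn hcomm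
    by_contra hnc
    have hφ : φ ⟨n, hn⟩ ≠ 1 := fun hc => hnc (by
      have : (⟨n, hn⟩ : N) ∈ φ.ker := hc
      rwa [hker, mem_subgroupOf] at this)
    obtain ⟨a, ha⟩ : ∃ a : ℕ, orderOf z = 2 ^ (a + 1) := by
      obtain ⟨k, hk⟩ := (IsPGroup.iff_orderOf.mp P.isPGroup') ⟨z, hz⟩
      rw [← orderOf_coe] at hk
      rcases k with _ | k
      · rw [pow_zero, orderOf_eq_one_iff] at hk; exact absurd hk hz1
      · exact ⟨k, hk⟩
    have ho : orderOf (z ^ 2 ^ a) = 2 := by
      rw [orderOf_pow' z (by positivity), ha,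
        Nat.gcd_eq_right (pow_dvd_pow 2 (Nat.le_succ a)), pow_succ,
        Nat.mul_div_cancel_left _ (by positivity)]
    refine (hfix ⟨n, hn⟩ hφ).1 ⟨z ^ 2 ^ a, pow_mem hz _, ho⟩ (Subtype.ext ?_)
    rw [happ]
    show n * z ^ 2 ^ a * n⁻¹ = z ^ 2 ^ a
    rw [((show Commute n z from hcomm).pow_right _).eq, mul_inv_cancel_right]

include hab h3 in
/-- Either a normal 2-complement or a single class of involutions. -/
theorem complement_or_one_class :
    (∃ N : Subgroup G, N.Normal ∧ IsComplement' N (P : Subgroup G)) ∨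
      ∀ s t : G, orderOf s = 2 → orderOf t = 2 → IsConj s t := by
  by_cases h1 : (centralizer ((P : Subgroup G) : Set G)).relIndex (normalizer ((P : Subgroup G) : Set G)) = 1
  · exact Or.inl ⟨_, MonoidHom.normal_ker _,
      MonoidHom.ker_transferSylow_isComplement' P (relIndex_eq_one.mp h1)⟩
  · refine Or.inr fun s t hs ht => ?_
    have into : ∀ u : G, orderOf u = 2 → ∃ g : G, g * u * g⁻¹ ∈ (P : Subgroup G) := by
      intro u hu
      obtain ⟨Q, hQ⟩ := (IsPGroup.of_card (p := 2) (n := 1) (G := zpowers u)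
        (by rw [Nat.card_zpowers, hu, pow_one])).exists_le_sylow
      obtain ⟨g, hg⟩ := MulAction.exists_smul_eq G Q P
      refine ⟨g, ?_⟩
      rw [← hg, Sylow.coe_subgroup_smul, mem_pointwise_smul_iff_inv_smul_mem]
      simpa [MulAut.smul_def, mul_assoc] using hQ (mem_zpowers u)
    obtain ⟨a, ha⟩ := into s hs
    obtain ⟨b, hb⟩ := into t ht
    obtain ⟨n, -, hn⟩ := ((automizer_three P hab h3).2 h1).1 _ ha _ hb
      (by rw [← MulAut.conj_apply, MulEquiv.orderOf_eq, hs])
      (by rw [← MulAut.conj_apply, MulEquiv.orderOf_eq, ht])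
    exact (isConj_iff.mpr ⟨a, rfl⟩).trans ((isConj_iff.mpr ⟨n, hn⟩).trans (isConj_iff.mpr ⟨b, rfl⟩).symm)

end

/-- A homocyclic group of rank two and exponent `2^m`, `m ≥ 1`, has three involutions. -/
theorem homocyclic_two_data {G : Type*} [Group G] (P : Subgroup G) (m : ℕ) (hm : 1 ≤ m)
    (e : P ≃* Multiplicative (ZMod (2 ^ m) × ZMod (2 ^ m))) :
    (∀ x ∈ P, ∀ y ∈ P, x * y = y * x) ∧ Nat.card {x : G // x ∈ P ∧ orderOf x = 2} = 3 := by
  refine ⟨fun x hx y hy => congrArg Subtype.val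
    (e.injective (by rw [map_mul, map_mul, mul_comm]) : (⟨x, hx⟩ * ⟨y, hy⟩ : P) = ⟨y, hy⟩ * ⟨x, hx⟩), ?_⟩
  have e1 : {x : G // x ∈ P ∧ orderOf x = 2} ≃
      {v : ZMod (2 ^ m) × ZMod (2 ^ m) // addOrderOf v = 2} :=
    { toFun := fun x => ⟨Multiplicative.toAdd (e ⟨x.1, x.2.1⟩), by
        rw [← orderOf_ofAdd_eq_addOrderOf, ofAdd_toAdd, MulEquiv.orderOf_eq, ← orderOf_coe]
        exact x.2.2⟩
      invFun := fun v => ⟨(e.symm (Multiplicative.ofAdd v.1)).1, SetLike.coe_mem _, by
        rw [orderOf_coe, MulEquiv.orderOf_eq, orderOf_ofAdd_eq_addOrderOf]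
        exact v.2⟩
      left_inv := fun x => Subtype.ext (by simp)
      right_inv := fun v => Subtype.ext (by simp) }
  rw [Nat.card_congr e1]
  set h : ZMod (2 ^ m) := ((2 ^ (m - 1) : ℕ) : ZMod (2 ^ m)) with hh
  have hpow : 2 * 2 ^ (m - 1) = 2 ^ m := by rw [← pow_succ', Nat.sub_add_cancel hm]
  have hlt : 2 ^ (m - 1) < 2 ^ m := Nat.pow_lt_pow_right (by norm_num) (by omega)
  have hne : h ≠ 0 := fun hc => by
    rw [hh, ZMod.natCast_eq_zero_iff] at hc
    exact absurd (Nat.le_of_dvd (by positivity) hc) (not_le.mpr hlt)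
  have : NeZero (2 ^ m) := ⟨by positivity⟩
  have hsol : ∀ x : ZMod (2 ^ m), x + x = 0 ↔ x = 0 ∨ x = h := by
    intro x
    constructor
    · intro hx
      have h1 : ((2 * x.val : ℕ) : ZMod (2 ^ m)) = 0 := by
        rw [two_mul, Nat.cast_add, ZMod.natCast_zmod_val]; exact hx
      rw [ZMod.natCast_eq_zero_iff] at h1
      obtain ⟨c, hc⟩ := h1
      have hx2 := ZMod.val_lt x
      have hc2 : c < 2 := by nlinarith
      interval_cases c
      · left; exact (ZMod.val_eq_zero x).mp (by omega)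
      · right; rw [hh, ← ZMod.natCast_zmod_val x]; congr 1; omega
    · rintro (rfl | rfl)
      · simp
      · rw [hh, ← Nat.cast_add, ← two_mul, hpow, ZMod.natCast_self]
  have hchar : ∀ v : ZMod (2 ^ m) × ZMod (2 ^ m),
      addOrderOf v = 2 ↔ v ∈ ({(h, 0), (0, h), (h, h)} : Finset (ZMod (2 ^ m) × ZMod (2 ^ m))) := by
    rintro ⟨a, b⟩
    simp only [Finset.mem_insert, Finset.mem_singleton, Prod.mk.injEq]
    constructor
    · intro hv
      have h2 := addOrderOf_nsmul_eq_zero (a, b)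
      rw [hv, two_nsmul, Prod.mk_add_mk, Prod.mk_eq_zero] at h2
      have hz : ¬ (a = 0 ∧ b = 0) := by
        rintro ⟨rfl, rfl⟩
        simp [Prod.mk_zero_zero] at hv
      rcases (hsol a).mp h2.1 with rfl | rfl <;> rcases (hsol b).mp h2.2 with rfl | rfl <;> simp_all
    · intro hv
      refine addOrderOf_eq_prime ?_ ?_
      · rw [two_nsmul, Prod.mk_add_mk, Prod.mk_eq_zero, hsol, hsol]
        tauto
      · rw [ne_eq, Prod.mk_eq_zero]
        rintro ⟨rfl, rfl⟩
        simp [hne.symm] at hv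
  rw [Nat.card_congr (Equiv.subtypeEquivRight hchar), Nat.card_eq_fintype_card, Fintype.card_coe]
  simp [hne, hne.symm]

end Cfsg.Agent.SmallSimple
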