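import Mathlib

/-!
# The permutations of degree 10 in a simple group of order 360

Points `0..8` are the elements `(a, b) = (i % 3, i / 3)` of `𝔽₃²`, the point `9` is `∞`.
-/

set_option autoImplicit false

namespace Cfsg.Agent.SmallSimple.D360

/-- `(a, b) ↦ a + 3 b`. -/
def enc (a b : ℕ) : Fin 10 := ⟨a % 3 + 3 * (b % 3), by omega⟩

/-- Translation by `c`. -/
def tf (c i : Fin 10) : Fin 10 :=
  if i.val = 9 then i else enc (i.val % 3 + c.val % 3) (i.val / 3 + c.val / 3)

/-- The element of order four, `(a, b) ↦ (-b, a)`. -/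
def hf (i : Fin 10) : Fin 10 := if i.val = 9 then i else enc (2 * (i.val / 3)) (i.val % 3)

/-- The negative of a point. -/
def neg (i : Fin 10) : Fin 10 := if i.val = 9 then i else enc (2 * (i.val % 3)) (2 * (i.val / 3))

/-- The elements of the point stabiliser. -/
def nf (c : Fin 10) (j : Fin 4) (i : Fin 10) : Fin 10 := tf c (hf^[j.val] i)

/-- The basic swap of `0` and `∞`. -/
def w0f : Fin 10 → Fin 10 := ![9, 1, 2, 6, 5, 4, 3, 8, 7, 0]

/-- The map determined by the images of `1` and `4` and by semi-commutation with `hf`. -/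
def mk (ε : Bool) (p q : Fin 10) (i : Fin 10) : Fin 10 :=
  if i.val = 0 then 9 else if i.val = 9 then 0 else
    match (List.finRange 4).find? (fun k => hf^[k.val] 1 == i) with
    | some k => hf^[(cond ε 1 3) * k.val] p
    | none => match (List.finRange 4).find? (fun k => hf^[k.val] 4 == i) with
      | some k => hf^[(cond ε 1 3) * k.val] q
      | none => 0

/-- The consistency condition on a candidate swap. -/
def good (w : Fin 10 → Fin 10) : Bool :=
  (List.finRange 10).all fun u => u.val == 0 || u.val == 9 ||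
    ((List.finRange 10).any fun c => (List.finRange 4).any fun j =>
      (List.finRange 10).all fun i => tf (neg (w u)) (w (tf u (w i))) == w (nf c j i))

theorem classify : ∀ (ε : Bool) (p q : Fin 10), ((List.finRange 10).map (mk ε p q)).Nodup →
    good (mk ε p q) = true → ∃ j : Fin 4, ∀ i, mk ε p q i = w0f (hf^[j.val] i) := by
  decide +kernel

theorem mk_spec : ∀ i : Fin 10, i.val ≠ 0 → i.val ≠ 9 →
    (∃ k : Fin 4, (List.finRange 4).find? (fun k => hf^[k.val] 1 == i) = some k ∧
      hf^[k.val] 1 = i) ∨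
    ((List.finRange 4).find? (fun k => hf^[k.val] 1 == i) = none ∧
      ∃ k : Fin 4, (List.finRange 4).find? (fun k => hf^[k.val] 4 == i) = some k ∧
        hf^[k.val] 4 = i) := by
  decide +kernel

theorem tf_neg : ∀ c i : Fin 10, tf (neg c) (tf c i) = i ∧ tf c (tf (neg c) i) = i := by
  decide +kernel

theorem hf_four : ∀ i : Fin 10, hf (hf (hf (hf i))) = i := by decide +kernel

theorem w0f_sq : ∀ i : Fin 10, w0f (w0f i) = i := by decide +kernel

/-- Translation as a permutation. -/
def T (c : Fin 10) : Equiv.Perm (Fin 10) :=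
  ⟨tf c, tf (neg c), fun i => (tf_neg c i).1, fun i => (tf_neg c i).2⟩

/-- The element of order four. -/
def H : Equiv.Perm (Fin 10) :=
  ⟨hf, fun i => hf (hf (hf i)), fun i => hf_four i, fun i => hf_four i⟩

/-- The basic swap. -/
def W : Equiv.Perm (Fin 10) := ⟨w0f, w0f, w0f_sq, w0f_sq⟩

theorem T_apply (c i : Fin 10) : T c i = tf c i := rfl
theorem H_pow_apply (k : ℕ) (i : Fin 10) : (H ^ k) i = hf^[k] i := by
  induction k generalizing i with
  | zero => rfl
  | succ k ih => rw [pow_succ, Equiv.Perm.mul_apply, ih, Function.iterate_succ_apply]; rfl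

/-- A permutation swapping `0`, `∞` and semi-commuting with `H` is some `mk`. -/
theorem eq_mk {w : Equiv.Perm (Fin 10)} (h0 : w 0 = 9) (h9 : w 9 = 0) (ε : Bool)
    (hc : w * H = H ^ (cond ε 1 3) * w) : ∀ i, w i = mk ε (w 1) (w 4) i := by
  have hk : ∀ (k : ℕ) (i : Fin 10), w (hf^[k] i) = hf^[(cond ε 1 3) * k] (w i) := by
    intro k i
    have h1 : w * H ^ k = (H ^ (cond ε 1 3)) ^ k * w := SemiconjBy.pow_right hc k
    have h2 := Equiv.ext_iff.1 h1 i
    rw [Equiv.Perm.mul_apply, Equiv.Perm.mul_apply, ← pow_mul, H_pow_apply, H_pow_apply] at h2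
    exact h2
  intro i
  by_cases hi0 : i.val = 0
  · rw [mk, if_pos hi0, show i = 0 from Fin.ext hi0, h0]
  by_cases hi9 : i.val = 9
  · rw [mk, if_neg hi0, if_pos hi9, show i = 9 from Fin.ext hi9, h9]
  rw [mk, if_neg hi0, if_neg hi9]
  rcases mk_spec i hi0 hi9 with ⟨k, hf1, hk1⟩ | ⟨hn, k, hf4, hk4⟩
  · rw [hf1]
    conv_lhs => rw [← hk1, hk]
  · rw [hn, hf4]
    conv_lhs => rw [← hk4, hk]

theorem classify_perm {w : Equiv.Perm (Fin 10)} (h0 : w 0 = 9) (h9 : w 9 = 0) (ε : Bool)
    (hc : w * H = H ^ (cond ε 1 3) * w)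
    (hgood : ∀ u : Fin 10, u.val ≠ 0 → u.val ≠ 9 →
      ∃ (c : Fin 10) (j : Fin 4), T (neg (w u)) * w * T u * w = w * (T c * H ^ j.val)) :
    ∃ j : Fin 4, w = W * H ^ j.val := by
  have hw := eq_mk h0 h9 ε hc
  have hfun : mk ε (w 1) (w 4) = w := funext fun i => (hw i).symm
  obtain ⟨j, hj⟩ := classify ε (w 1) (w 4)
    (by rw [hfun]; exact (List.nodup_finRange 10).map w.injective) (by
      rw [hfun, good, List.all_eq_true]
      intro u _
      by_cases h1 : u.val = 0
      · simp [h1]
      by_cases h2 : u.val = 9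
      · simp [h2]
      obtain ⟨c, j, hcj⟩ := hgood u h1 h2
      simp only [Bool.or_eq_true, List.any_eq_true, List.all_eq_true, beq_iff_eq]
      refine Or.inr ⟨c, List.mem_finRange c, j, List.mem_finRange j, fun i _ => ?_⟩
      have := Equiv.ext_iff.1 hcj i
      simp only [Equiv.Perm.mul_apply, T_apply, H_pow_apply] at this
      exact this)
  refine ⟨j, Equiv.ext fun i => ?_⟩
  rw [hw, hj, Equiv.Perm.mul_apply, H_pow_apply]
  rfl

/-- The standard group. -/
def K : Subgroup (Equiv.Perm (Fin 10)) := Subgroup.closure {T 1, T 3, H, W}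

end Cfsg.Agent.SmallSimple.D360
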