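import Cfsg.Agent.Lib.SmallSimple.Tools
import Cfsg.Agent.Lib.SmallSimple.Order360Data

/-!
# Simple groups of order 360

Such a group acts two-transitively on its ten Sylow 3-subgroups, and the resulting permutation
group is determined up to the numbering; hence all of them are isomorphic to `A_6`.
-/

set_option autoImplicit false
set_option linter.style.haveILetI false

namespace Cfsg.Agent.SmallSimple

open MulAction

variable {G : Type*} [Group G] [Finite G] [IsSimpleGroup G]

theorem noncomm_of_card_360 (h : Nat.card G = 360) : ¬ IsMulCommutative G := fun hc => by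
  have := CharInt.card_prime_of_simple_comm (G := G) (fun a b => hc.is_comm.comm a b)
  rw [h] at this
  norm_num at this

theorem commute_sylow_three (h : Nat.card G = 360) [Fact (Nat.Prime 3)] (P : Sylow 3 G) :
    ∀ x ∈ P, ∀ y ∈ P, x * y = y * x := by
  intro x hx y hy
  have hP : Nat.card (P : Subgroup G) = 3 ^ 2 :=
    card_sylow_subgroup (m := 40) (by rw [h]; norm_num) (by norm_num) P
  exact congrArg Subtype.val (IsPGroup.commGroupOfCardEqPrimeSq hP |>.mul_comm ⟨x, hx⟩ ⟨y, hy⟩)

theorem card_sylow_three_360 (h : Nat.card G = 360) [Fact (Nat.Prime 3)] :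
    Nat.card (Sylow 3 G) = 10 := by
  have hG := noncomm_of_card_360 h
  obtain ⟨P⟩ := (inferInstance : Nonempty (Sylow 3 G))
  have hP : Nat.card (P : Subgroup G) = 3 ^ 2 :=
    card_sylow_subgroup (m := 40) (by rw [h]; norm_num) (by norm_num) P
  have hd : Nat.card (Sylow 3 G) ∣ 40 := by
    have h1 := P.card_dvd_index
    have h2 := (P : Subgroup G).card_mul_index
    rw [hP, h] at h2
    rwa [show (P : Subgroup G).index = 40 by omega] at h1
  have hm : Nat.card (Sylow 3 G) % 3 = 1 := card_sylow_modEq_one 3 G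
  have h5 := five_le_card_sylow hG (p := 3) (by rw [h]; norm_num)
  have hle := Nat.le_of_dvd (by norm_num) hd
  have h40 : Nat.card (Sylow 3 G) ≠ 40 := by
    intro h40
    have hN := card_sylow_mul_card_normalizer P
    rw [h40, h] at hN
    refine not_hasNormalPComplement hG (p := 3) (by rw [h]; norm_num)
      (Transfer.hasNormalPComplement_of_normalizer_le_centralizer P ?_)
    have hEq := Subgroup.eq_of_le_of_card_ge
      (Subgroup.le_normalizer (H := (P : Subgroup G))) (by rw [hP]; omega)
    intro x hx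
    rw [Subgroup.mem_centralizer_iff]
    exact fun y hy => commute_sylow_three h P y hy x (hEq.ge hx)
  interval_cases Nat.card (Sylow 3 G) <;> omega

/-- Two Sylow `3`-subgroups meet trivially. -/
theorem sylow_three_inf_360 (h : Nat.card G = 360) [Fact (Nat.Prime 3)] {P Q : Sylow 3 G}
    (hPQ : P ≠ Q) {x : G} (hxP : x ∈ P) (hxQ : x ∈ Q) : x = 1 := by
  by_contra hx
  have hG := noncomm_of_card_360 h
  set C := Subgroup.centralizer ({x} : Set G) with hC
  have hPC : (P : Subgroup G) ≤ C := fun a ha =>
    Subgroup.mem_centralizer_singleton_iff.2 (commute_sylow_three h P a ha x hxP)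
  have hQC : (Q : Subgroup G) ≤ C := fun a ha =>
    Subgroup.mem_centralizer_singleton_iff.2 (commute_sylow_three h Q a ha x hxQ)
  have hP : ∀ R : Sylow 3 G, Nat.card (R : Subgroup G) = 3 ^ 2 := fun R =>
    card_sylow_subgroup (m := 40) (by rw [h]; norm_num) (by norm_num) R
  have hi : 5 ≤ C.index := five_le_index hG (centralizer_singleton_ne_top hG hx)
  have hi5 : C.index ≠ 5 := by
    intro h5
    have := card_dvd_factorial (centralizer_singleton_ne_top hG hx)
    rw [← hC, h5, h] at this
    norm_num [Nat.factorial] at this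
  have hmul := C.card_mul_index
  rw [h] at hmul
  obtain ⟨k, hk⟩ := (hP P) ▸ Subgroup.card_dvd_of_le hPC
  rw [hk] at hmul
  have hki : k * C.index = 40 := by linarith
  -- the Sylow 3-subgroups of `C`
  have hn : Nat.card (Sylow 3 C) ∣ k ∧ Nat.card (Sylow 3 C) ≠ 1 := by
    refine ⟨?_, fun h1 => ?_⟩
    · have h1 := (P.subtype hPC).card_dvd_index
      have h2 := ((P.subtype hPC) : Subgroup C).card_mul_index
      rw [hk, Sylow.coe_subtype, Nat.card_congr (Subgroup.subgroupOfEquivOfLe hPC).toEquiv, hP]
        at h2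
      rw [Sylow.coe_subtype] at h1
      rwa [mul_left_cancel₀ (by norm_num) h2] at h1
    · haveI : Subsingleton (Sylow 3 C) := (Nat.card_eq_one_iff_unique.1 h1).1
      exact hPQ (Sylow.subtype_injective (hP := hPC) (hQ := hQC) (Subsingleton.elim _ _))
  have hm : Nat.card (Sylow 3 C) % 3 = 1 := card_sylow_modEq_one 3 C
  have hkle : k ≤ 40 := Nat.le_of_dvd (by norm_num) ⟨C.index, hki.symm⟩
  have hnle : Nat.card (Sylow 3 C) ≤ k :=
    Nat.le_of_dvd (Nat.pos_of_ne_zero (by rintro rfl; omega)) hn.1
  have hcard : k = 4 ∧ Nat.card (Sylow 3 C) = 4 := by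
    have hI : C.index ≤ 40 := Nat.le_of_dvd (by norm_num) ⟨k, by linarith⟩
    obtain ⟨⟨d, hd⟩, h1⟩ := hn
    rcases Nat.lt_or_ge k 8 with hk8 | hk8
    · have hk0 : 0 < k := Nat.pos_of_ne_zero (by rintro rfl; omega)
      interval_cases k <;> interval_cases Nat.card (Sylow 3 C) <;> omega
    · exfalso
      have : C.index ≤ 5 := by nlinarith
      have h5 : C.index = 5 := by omega
      exact hi5 h5
  -- `C` has a normal 3-complement of order 4
  set P' := P.subtype hPC with hP'
  have hP'card : Nat.card (P' : Subgroup C) = 9 := by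
    rw [hP', Sylow.coe_subtype, Nat.card_congr (Subgroup.subgroupOfEquivOfLe hPC).toEquiv, hP]
    norm_num
  have hcomp : Cfsg.HasNormalPComplement 3 C := by
    apply Transfer.hasNormalPComplement_of_normalizer_le_centralizer P'
    have hN := card_sylow_mul_card_normalizer P'
    rw [hcard.2, hk, hcard.1] at hN
    have hEq := Subgroup.eq_of_le_of_card_ge
      (Subgroup.le_normalizer (H := (P' : Subgroup C))) (by rw [hP'card]; omega)
    intro y hy
    rw [Subgroup.mem_centralizer_iff]
    intro z hz
    exact Subtype.ext (commute_sylow_three h P z hz y (hEq.ge hy))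
  obtain ⟨P'', N, hN, hcompl⟩ := hcomp
  have hcardN : Nat.card N = 4 := by
    have := hcompl.card_mul
    rw [Sylow.card_eq_multiplicity, ← P'.card_eq_multiplicity, hP'card, hk, hcard.1] at this
    omega
  haveI := hN
  set V := N.map C.subtype with hV
  have hVcard : Nat.card V = 4 := by
    rw [hV, Subgroup.card_map_of_injective C.subtype_injective, hcardN]
  haveI : Fact (Nat.Prime 2) := ⟨Nat.prime_two⟩
  have hV2 : IsPGroup 2 V := IsPGroup.of_card (n := 2) (by rw [hVcard]; norm_num)
  have hCN : C ≤ Subgroup.normalizer (V : Set G) := by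
    intro g hg
    rw [Subgroup.mem_normalizer_iff]
    intro v
    constructor
    · rintro ⟨w, hw, rfl⟩
      exact ⟨⟨g, hg⟩ * w * ⟨g, hg⟩⁻¹, hN.conj_mem w hw _, rfl⟩
    · rintro ⟨w, hw, hwe⟩
      refine ⟨⟨g, hg⟩⁻¹ * w * ⟨g, hg⟩⁻¹⁻¹, hN.conj_mem w hw _, ?_⟩
      show g⁻¹ * (w : G) * g⁻¹⁻¹ = v
      rw [show (w : G) = g * v * g⁻¹ from hwe]; group
  obtain ⟨S, hS⟩ := hV2.exists_le_sylow
  have hS8 : Nat.card (S : Subgroup G) = 8 :=
    card_sylow_subgroup (k := 3) (m := 45) (by rw [h]; norm_num) (by norm_num) S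
  have hlt := lt_inf_normalizer S.isPGroup' (lt_of_le_of_ne hS fun he => by
    rw [← he, hVcard] at hS8; omega)
  have h8 : 8 ∣ Nat.card (Subgroup.normalizer (V : Set G)) := by
    have hle : (S : Subgroup G) ⊓ Subgroup.normalizer (V : Set G) ≤ S := inf_le_left
    have hd := Subgroup.card_dvd_of_le hle
    rw [hS8] at hd
    obtain ⟨i, hi3, hcard'⟩ := (Nat.dvd_prime_pow Nat.prime_two).1 (show _ ∣ 2 ^ 3 from hd)
    have hgt : 4 < 2 ^ i := by
      rw [← hcard', ← hVcard]
      by_contra hge
      exact hlt.ne (Subgroup.eq_of_le_of_card_ge hlt.le (by omega))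
    have h3 : i = 3 := by
      by_contra hne
      have : 2 ^ i ≤ 2 ^ 2 := Nat.pow_le_pow_right two_pos (by omega)
      omega
    rw [h3] at hcard'
    exact (show (8 : ℕ) = Nat.card ((S : Subgroup G) ⊓ Subgroup.normalizer (V : Set G) :
      Subgroup G) by rw [hcard']; norm_num) ▸ Subgroup.card_dvd_of_le inf_le_right
  have h9 : 9 ∣ Nat.card (Subgroup.normalizer (V : Set G)) :=
    dvd_trans ⟨k, by rw [hk]; rfl⟩ (Subgroup.card_dvd_of_le hCN)
  have hne : Subgroup.normalizer (V : Set G) ≠ ⊤ := by
    refine normalizer_ne_top hG (fun hb => ?_) ?_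
    · rw [hb, Subgroup.card_bot] at hVcard; omega
    · haveI := hV2.isNilpotent; infer_instance
  have h5 := five_le_index hG hne
  have h72 : 72 ∣ Nat.card (Subgroup.normalizer (V : Set G)) :=
    Nat.Coprime.mul_dvd_of_dvd_of_dvd (m := 8) (n := 9) (by norm_num) h8 h9
  obtain ⟨d, hd⟩ := h72
  have hm2 := (Subgroup.normalizer (V : Set G)).card_mul_index
  rw [hd, h] at hm2
  have hd0 : d ≠ 0 := by rintro rfl; simp at hm2
  have h5' : (Subgroup.normalizer (V : Set G)).index = 5 := by
    have hdi : d * (Subgroup.normalizer (V : Set G)).index = 5 := by linarith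
    rcases Nat.Prime.eq_one_or_self_of_dvd (by norm_num : Nat.Prime 5)
      (Subgroup.normalizer (V : Set G)).index ⟨d, by linarith⟩ with h1 | h1 <;> omega
  have := card_dvd_factorial hne
  rw [h5', h] at this
  norm_num [Nat.factorial] at this

/-- A simple group of order 360 embeds in `Perm (Fin 10)` with image the standard group. -/
theorem exists_embedding_360 (h : Nat.card G = 360) :
    ∃ f : G →* Equiv.Perm (Fin 10), Function.Injective f ∧ f.range = D360.K := by
  classical
  haveI : Fact (Nat.Prime 3) := ⟨Nat.prime_three⟩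
  have hG := noncomm_of_card_360 h
  have h10 := card_sylow_three_360 h
  have hP9 : ∀ R : Sylow 3 G, Nat.card (R : Subgroup G) = 3 ^ 2 := fun R =>
    card_sylow_subgroup (m := 40) (by rw [h]; norm_num) (by norm_num) R
  obtain ⟨P, Q, hPQ⟩ : ∃ P Q : Sylow 3 G, P ≠ Q :=
    (nontrivial_iff.1 (Finite.one_lt_card_iff_nontrivial.1 (by omega)))
  have hfixP : ∀ x ∈ P, x • P = P := fun x hx =>
    smul_sylow_eq_iff.2 (Subgroup.le_normalizer hx)
  -- `P` is regular on the other nine points
  let orb : Option (P : Subgroup G) → Sylow 3 G := fun o =>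
    o.elim P (fun x => (x : G) • Q)
  have horb : Function.Bijective orb := by
    have hne : ∀ x : (P : Subgroup G), (x : G) • Q ≠ P := fun x hx => hPQ (by
      have : (x : G) • Q = (x : G) • P := hx.trans (hfixP x x.2).symm
      exact (smul_left_cancel _ this).symm)
    refine (Nat.bijective_iff_injective_and_card orb).2 ⟨?_, ?_⟩
    · rintro (_ | x) (_ | y) hxy
      · rfl
      · exact absurd hxy.symm (hne y)
      · exact absurd hxy (hne x)
      · have h1 : ((y : G)⁻¹ * x) • Q = Q := by
          rw [mul_smul, inv_smul_eq_iff]; exact hxy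
        have h2 : (y : G)⁻¹ * x ∈ P := P.mul_mem (P.inv_mem y.2) x.2
        have h3 := sylow_three_inf_360 h hPQ h2 (mem_of_smul_sylow_eq h2 h1)
        exact congrArg some (Subtype.ext (inv_mul_eq_one.1 h3).symm)
    · rw [h10, Finite.card_option, hP9 P]; norm_num
  -- faithfulness
  have hfaith : ∀ g : G, (∀ R : Sylow 3 G, g • R = R) → g = 1 := by
    intro g hg
    have hinj : Function.Injective (toPermHom G (Sylow 3 G)) := by
      refine injective_of_simple _ ?_
      by_contra hcon
      push Not at hcon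
      refine normalizer_ne_top hG (H := (P : Subgroup G)) ?_ ?_ ?_
      · intro hb
        have := hP9 P
        rw [hb, Subgroup.card_bot] at this
        norm_num at this
      · haveI := P.isPGroup'.isNilpotent; infer_instance
      · rw [eq_top_iff]
        intro a _
        exact smul_sylow_eq_iff.1 (Equiv.ext_iff.1 (hcon a) P)
    refine hinj ?_
    rw [map_one]
    exact Equiv.ext hg
  -- the two-point stabiliser
  set H := stabilizer G P ⊓ stabilizer G Q with hHdef
  have hmemH : ∀ g, g ∈ H ↔ g • P = P ∧ g • Q = Q := fun g => Iff.rfl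
  have hN36 : Nat.card (stabilizer G P) = 36 := by
    have hst : stabilizer G P = Subgroup.normalizer ((P : Subgroup G) : Set G) :=
      Subgroup.ext fun g => smul_sylow_eq_iff
    have hN := card_sylow_mul_card_normalizer P
    rw [h10, h] at hN
    rw [hst]; omega
  have hH4 : Nat.card H = 4 := by
    have hprod : Nat.card (↥(P : Subgroup G) × ↥H) = Nat.card (stabilizer G P) := by
      let F : ↥(P : Subgroup G) × ↥H → stabilizer G P := fun xy =>
        ⟨(xy.1 : G) * xy.2, mul_mem (show (xy.1 : G) ∈ stabilizer G P from hfixP _ xy.1.2) xy.2.2.1⟩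
      refine Nat.card_congr (Equiv.ofBijective F ⟨?_, ?_⟩)
      · rintro ⟨x, a⟩ ⟨y, b⟩ hxy
        have h1 : (x : G) * a = y * b := congrArg Subtype.val hxy
        have h2 : (y : G)⁻¹ * x = (b : G) * (a : G)⁻¹ := by
          rw [eq_mul_inv_iff_mul_eq, mul_assoc, h1, inv_mul_cancel_left]
        have hmem : (y : G)⁻¹ * x ∈ P := P.mul_mem (P.inv_mem y.2) x.2
        have h3 := sylow_three_inf_360 h hPQ hmem (mem_of_smul_sylow_eq hmem
          (by rw [h2]; exact ((hmemH _).1 (H.mul_mem b.2 (H.inv_mem a.2))).2))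
        obtain rfl : x = y := Subtype.ext (inv_mul_eq_one.1 h3).symm
        exact Prod.ext rfl (Subtype.ext (mul_left_cancel h1))
      · rintro ⟨g, hg⟩
        obtain ⟨o, ho⟩ := horb.2 (g • Q)
        cases o with
        | none => exact absurd (smul_left_cancel g ((show g • P = P from hg).trans ho)) hPQ
        | some x =>
          refine ⟨(x, ⟨(x : G)⁻¹ * g, (hmemH _).2 ⟨?_, ?_⟩⟩), Subtype.ext (mul_inv_cancel_left _ _)⟩
          · exact mul_mem (inv_mem (show (x : G) ∈ stabilizer G P from hfixP _ x.2)) hg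
          · rw [mul_smul, inv_smul_eq_iff]; exact ho.symm
    rw [Nat.card_prod, hP9 P, hN36] at hprod
    omega
  -- each involution of `H` inverts `P`
  have hconjP : ∀ g ∈ H, ∀ x ∈ P, g * x * g⁻¹ ∈ P := fun g hg x hx =>
    ((Subgroup.mem_normalizer_iff.1 (smul_sylow_eq_iff.1 ((hmemH g).1 hg).1)) x).1 hx
  have hmove : ∀ g ∈ H, ∀ x ∈ P, g • ((x : G) • Q) = (g * x * g⁻¹) • Q := by
    intro g hg x _
    conv_rhs => rw [← ((hmemH g).1 hg).2]
    rw [← mul_smul, ← mul_smul, inv_mul_cancel_right]
  have hinv : ∀ t ∈ H, orderOf t = 2 → ∀ x ∈ P, t * x * t⁻¹ = x⁻¹ := by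
    intro t ht ho
    have ht2 : t * t = 1 := by rw [← sq, ← ho, pow_orderOf_eq_one]
    let Fix : Subgroup G := (P : Subgroup G) ⊓ Subgroup.centralizer ({t} : Set G)
    have hFix : ∀ x, x ∈ Fix ↔ x ∈ P ∧ t * x * t⁻¹ = x := by
      intro x
      simp only [Fix, Subgroup.mem_inf, Subgroup.mem_centralizer_singleton_iff]
      exact and_congr_right fun _ => ⟨fun e => mul_inv_eq_iff_eq_mul.2 e.symm,
        fun e => (mul_inv_eq_iff_eq_mul.1 e).symm⟩
    have hd : Nat.card Fix ∣ 3 ^ 2 := hP9 P ▸ Subgroup.card_dvd_of_le inf_le_left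
    obtain ⟨i, hi, hFc⟩ := (Nat.dvd_prime_pow Nat.prime_three).1 hd
    interval_cases i
    · intro x hx
      have hy : x * (t * x * t⁻¹) ∈ Fix := by
        refine (hFix _).2 ⟨P.mul_mem hx (hconjP t ht x hx), ?_⟩
        have hi : t⁻¹ = t := inv_eq_of_mul_eq_one_left ht2
        rw [commute_sylow_three h P x hx _ (hconjP t ht x hx)]
        conv_rhs => rw [← commute_sylow_three h P x hx _ (hconjP t ht x hx)]
        rw [hi]
        have ttc : ∀ y : G, t * (t * y) = y := fun y => by rw [← mul_assoc, ht2, one_mul]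
        simp [mul_assoc, ttc, ht2]
      rw [Subgroup.eq_bot_of_card_eq Fix (by rw [hFc, pow_zero]), Subgroup.mem_bot] at hy
      exact eq_inv_of_mul_eq_one_right hy
    · exfalso
      set σ := toPermHom G (Sylow 3 G) t with hσ
      haveI := Fintype.ofFinite (Sylow 3 G)
      have hσ2 : σ * σ = 1 := by rw [hσ, ← map_mul, ht2, map_one]
      have hσ1 : σ ≠ 1 := fun e => by
        have h1 := hfaith t (fun R => Equiv.ext_iff.1 e R)
        rw [h1, orderOf_one] at ho
        norm_num at ho
      have hcardfix : Nat.card {R : Sylow 3 G // t • R = R} = 4 := by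
        let F : Option Fix → {R : Sylow 3 G // t • R = R} := fun o => o.elim ⟨P, ((hmemH t).1 ht).1⟩
          (fun x : Fix => ⟨(x : G) • Q, by rw [hmove t ht _ x.2.1, ((hFix _).1 x.2).2]⟩)
        have hF : Function.Bijective F := by
          constructor
          · intro a b hab
            have h1 : orb (a.map fun x : Fix => (⟨x, x.2.1⟩ : (P : Subgroup G))) = orb (b.map fun x : Fix => (⟨x, x.2.1⟩ : (P : Subgroup G))) := by
              have h0 := congrArg Subtype.val hab
              cases a <;> cases b <;> exact h0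
            have h2 := horb.1 h1
            exact Option.map_injective (fun x y e => Subtype.ext (Subtype.mk.inj e)) h2
          · rintro ⟨R, hR⟩
            obtain ⟨o, rfl⟩ := horb.2 R
            cases o with
            | none => exact ⟨none, rfl⟩
            | some x =>
              refine ⟨some ⟨x, (hFix _).2 ⟨x.2, ?_⟩⟩, rfl⟩
              have h1 : orb (some ⟨_, hconjP t ht _ x.2⟩) = orb (some x) :=
                (hmove t ht _ x.2).symm.trans hR
              exact congrArg Subtype.val (Option.some.inj (horb.1 h1))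
        rw [← Nat.card_congr (Equiv.ofBijective F hF), Finite.card_option, hFc]
        norm_num
      have hord : orderOf σ = 2 := orderOf_eq_prime (by rw [sq, hσ2]) hσ1
      obtain ⟨m, hm⟩ := Equiv.Perm.cycleType_prime_order (by rw [hord]; exact Nat.prime_two)
      rw [hord] at hm
      have hsum := σ.sum_cycleType
      have hsupp : σ.support.card = 6 := by
        have h4 : (Finset.univ.filter fun R : Sylow 3 G => t • R = R).card = 4 := by
          rw [← hcardfix, Nat.card_eq_fintype_card, Fintype.card_subtype]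
        have h6 := Finset.card_filter_add_card_filter_not (s := Finset.univ)
          (p := fun R : Sylow 3 G => t • R = R)
        rw [Finset.card_univ, ← Nat.card_eq_fintype_card, h10, h4] at h6
        have : σ.support = Finset.univ.filter fun R : Sylow 3 G => ¬ t • R = R := by
          ext R
          rw [Equiv.Perm.mem_support, Finset.mem_filter]
          exact ⟨fun e => ⟨Finset.mem_univ R, e⟩, fun e => e.2⟩
        rw [this]; omega
      rw [hsupp, hm, Multiset.sum_replicate, smul_eq_mul] at hsum
      have hsign := Equiv.Perm.mem_alternatingGroup.1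
        (mem_alternating_of_simple hG (toPermHom G (Sylow 3 G)) t)
      rw [← hσ, Equiv.Perm.sign_of_cycleType, hm, Multiset.sum_replicate, Multiset.card_replicate,
        smul_eq_mul, show m + 1 = 3 by omega] at hsign
      exact absurd hsign (by decide)
    · exfalso
      have h1 := hfaith t fun R => by
        obtain ⟨o, rfl⟩ := horb.2 R
        cases o with
        | none => exact ((hmemH t).1 ht).1
        | some x =>
          have hx : (x : G) ∈ Fix := by
            exact (Subgroup.eq_of_le_of_card_ge (inf_le_left : Fix ≤ P) (by rw [hP9 P, hFc])).ge x.2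
          show t • ((x : G) • Q) = _
          rw [hmove t ht _ x.2, ((hFix _).1 hx).2]
          rfl
      rw [h1, orderOf_one] at ho
      norm_num at ho
  -- `H` is cyclic, generated by `a` of order four
  obtain ⟨a, haH, ha4⟩ : ∃ a ∈ H, orderOf a = 4 := by
    by_contra hcon
    push Not at hcon
    have htwo : ∀ a ∈ H, a ≠ 1 → orderOf a = 2 := by
      intro a ha ha1
      have hd := Subgroup.orderOf_dvd_natCard H ha
      rw [hH4] at hd
      obtain ⟨i, hi, hio⟩ := (Nat.dvd_prime_pow Nat.prime_two).1 (show orderOf a ∣ 2 ^ 2 from hd)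
      interval_cases i
      · exact absurd (orderOf_eq_one_iff.1 hio) ha1
      · simpa using hio
      · exact absurd hio (hcon a ha)
    have huniq : ∀ a ∈ H, ∀ b ∈ H, a ≠ 1 → b ≠ 1 → a = b := by
      intro a ha b hb ha1 hb1
      have hia := hinv a ha (htwo a ha ha1)
      have hib := hinv b hb (htwo b hb hb1)
      apply eq_of_div_eq_one
      refine hfaith _ fun R => ?_
      obtain ⟨o, rfl⟩ := horb.2 R
      have hab : a / b ∈ H := H.div_mem ha hb
      cases o with
      | none => exact ((hmemH _).1 hab).1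
      | some x =>
        show (a / b) • ((x : G) • Q) = _
        rw [hmove _ hab _ x.2]
        have h1 : b⁻¹ * (x : G) * b = (x : G)⁻¹ := by
          have h2 := hib _ (P.inv_mem x.2)
          rw [inv_inv] at h2
          conv_lhs => rw [← h2]
          group
        rw [div_eq_mul_inv, mul_inv_rev, inv_inv,
          show a * b⁻¹ * (x : G) * (b * a⁻¹) = a * (b⁻¹ * (x : G) * b) * a⁻¹ by group, h1,
          hia _ (P.inv_mem x.2), inv_inv]
        rfl
    have hle : Nat.card H ≤ 2 := by
      have hinj : Function.Injective (fun a : H => decide ((a : G) = 1)) := by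
        intro a b hab
        simp only [decide_eq_decide] at hab
        by_cases h1 : (a : G) = 1
        · exact Subtype.ext (h1.trans (hab.1 h1).symm)
        · exact Subtype.ext (huniq _ a.2 _ b.2 h1 (fun e => h1 (hab.2 e)))
      simpa using Nat.card_le_card_of_injective _ hinj
    omega
  have hHz : ∀ g ∈ H, ∃ k : Fin 4, g = a ^ k.val := by
    intro g hg
    have hEq : Subgroup.zpowers a = H := Subgroup.eq_of_le_of_card_ge
      (Subgroup.zpowers_le.2 haH) (by rw [Nat.card_zpowers, ha4, hH4])
    rw [← hEq] at hg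
    obtain ⟨k, hk⟩ := (Submonoid.mem_powers_iff g a).1 ((isOfFinOrder_of_finite a).mem_powers_iff_mem_zpowers.2 hg)
    refine ⟨⟨k % 4, Nat.mod_lt _ (by norm_num)⟩, ?_⟩
    rw [← hk, ← pow_mod_orderOf a k, ha4]
  have ha2 : ∀ x ∈ P, a * (a * x * a⁻¹) * a⁻¹ = x⁻¹ := fun x hx => by
    have := hinv (a ^ 2) (H.pow_mem haH 2) (by
      rw [orderOf_pow' a (by norm_num), ha4]; norm_num) x hx
    rw [← this, sq]; group
  -- the coordinates on `P`
  obtain ⟨u, huP, hu3⟩ : ∃ u ∈ P, orderOf u = 3 := by
    obtain ⟨u, hu⟩ := exists_prime_orderOf_dvd_card' (G := (P : Subgroup G)) 3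
      (by rw [hP9 P]; norm_num)
    exact ⟨u, u.2, by rwa [Subgroup.orderOf_coe]⟩
  set v := a * u * a⁻¹ with hvdef
  have hvP : v ∈ P := hconjP a haH u huP
  have hu33 : u ^ 3 = 1 := hu3 ▸ pow_orderOf_eq_one u
  have hv33 : v ^ 3 = 1 := by rw [hvdef, conj_pow, hu33, mul_one, mul_inv_cancel]
  have hav : a * v * a⁻¹ = u⁻¹ := ha2 u huP
  have hcuv : Commute u v := commute_sylow_three h P u huP v hvP
  have hu1 : u ≠ 1 := fun e => by rw [e, orderOf_one] at hu3; norm_num at hu3
  have hvu : ∀ k : ℕ, v ≠ u ^ k := by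
    intro k e
    have h1 : a * v * a⁻¹ = u ^ (k * k) := by
      rw [e, ← conj_pow, ← hvdef, e, ← pow_mul]
    rw [hav, eq_comm, eq_inv_iff_mul_eq_one, ← pow_succ] at h1
    have hd : 3 ∣ k * k + 1 := hu3 ▸ orderOf_dvd_of_pow_eq_one h1
    have key : ∀ r : Fin 3, (r.val * r.val + 1) % 3 ≠ 0 := by decide
    have := key ⟨k % 3, Nat.mod_lt _ (by norm_num)⟩
    apply this
    show (k % 3 * (k % 3) + 1) % 3 = 0
    have h0 := Nat.mod_eq_zero_of_dvd hd
    simpa [Nat.add_mod, Nat.mul_mod] using h0
  let pt : Fin 3 × Fin 3 → (P : Subgroup G) := fun ab =>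
    ⟨u ^ ab.1.val * v ^ ab.2.val, P.mul_mem ((P : Subgroup G).pow_mem huP _) ((P : Subgroup G).pow_mem hvP _)⟩
  have hpow : ∀ {z : G}, z ^ 3 = 1 → ∀ k : ℕ, z ^ k = z ^ (k % 3) := fun hz k => by
    conv_lhs => rw [← Nat.mod_add_div k 3, pow_add, pow_mul, hz, one_pow, mul_one]
  have hpt : Function.Bijective pt := by
    refine (Nat.bijective_iff_injective_and_card pt).2 ⟨?_, by rw [hP9 P]; simp⟩
    intro x y hxy
    have h1 : u ^ x.1.val * v ^ x.2.val = u ^ y.1.val * v ^ y.2.val := congrArg Subtype.val hxy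
    have hb : x.2 = y.2 := by
      by_contra hne
      -- `v ^ e` is a power of `u` for some `e ≢ 0`
      have h2 : v ^ (x.2.val + (3 - y.2.val)) = u ^ (y.1.val + (3 - x.1.val)) := by
        have h3 : u ^ (3 - x.1.val) * (u ^ x.1.val * v ^ x.2.val) * v ^ (3 - y.2.val) =
            u ^ (3 - x.1.val) * (u ^ y.1.val * v ^ y.2.val) * v ^ (3 - y.2.val) := by rw [h1]
        rw [← mul_assoc, ← pow_add, show 3 - x.1.val + x.1.val = 3 by omega, hu33, one_mul,
          ← pow_add, ← mul_assoc, ← pow_add, mul_assoc, ← pow_add,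
          show y.2.val + (3 - y.2.val) = 3 by omega, hv33, mul_one] at h3
        rw [h3, add_comm]
      have hne' : (x.2.val + (3 - y.2.val)) % 3 ≠ 0 := by
        revert hne; generalize x.2 = p; generalize y.2 = q; revert p q; decide
      rw [hpow hv33] at h2
      have hlt : (x.2.val + (3 - y.2.val)) % 3 < 3 := Nat.mod_lt _ (by norm_num)
      rcases (show (x.2.val + (3 - y.2.val)) % 3 = 1 ∨ (x.2.val + (3 - y.2.val)) % 3 = 2 by omega)
        with e | e <;> rw [e] at h2
      · rw [pow_one] at h2; exact hvu _ h2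
      · apply hvu (2 * (y.1.val + (3 - x.1.val)))
        rw [mul_comm, pow_mul, ← h2, ← pow_mul, show 2 * 2 = 3 + 1 from rfl, pow_succ, hv33, one_mul]
    refine Prod.ext (Fin.ext (pow_injOn_Iio_orderOf (x := u) ?_ ?_ ?_)) hb
    · rw [Set.mem_Iio, hu3]; exact x.1.isLt
    · rw [Set.mem_Iio, hu3]; exact y.1.isLt
    · rw [hb] at h1; exact mul_right_cancel h1
  let ι : Fin 10 → Sylow 3 G := fun i =>
    if i.val = 9 then P else (u ^ (i.val % 3) * v ^ (i.val / 3)) • Q
  have hι : Function.Bijective ι := by
    refine (Nat.bijective_iff_injective_and_card ι).2 ⟨?_, by rw [h10]; simp⟩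
    let θ : Fin 10 → Option (P : Subgroup G) := fun i =>
      if hi : i.val = 9 then none else some (pt (⟨i.val % 3, by omega⟩, ⟨i.val / 3, by omega⟩))
    have hθ : ∀ i, ι i = orb (θ i) := by
      intro i; simp only [ι, θ]; split_ifs <;> rfl
    intro i j hij
    rw [hθ, hθ] at hij
    have h1 := horb.1 hij
    by_cases hi : i.val = 9 <;> by_cases hj : j.val = 9 <;>
      simp only [θ, hi, hj, dif_pos, dif_neg, not_false_eq_true] at h1
    · exact Fin.ext (hi.trans hj.symm)
    · cases h1
    · cases h1
    · have h2 := hpt.1 (Option.some.inj h1)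
      have e1 : i.val % 3 = j.val % 3 := congrArg (fun p : Fin 3 × Fin 3 => p.1.val) h2
      have e2 : i.val / 3 = j.val / 3 := congrArg (fun p : Fin 3 × Fin 3 => p.2.val) h2
      exact Fin.ext (by omega)
  let e : Fin 10 ≃ Sylow 3 G := Equiv.ofBijective ι hι
  let f : G →* Equiv.Perm (Fin 10) :=
    (Equiv.permCongrHom e.symm).toMonoidHom.comp (toPermHom G (Sylow 3 G))
  have hf : ∀ g i, ι (f g i) = g • ι i := by
    intro g i
    show e (e.symm.permCongr (toPermHom G (Sylow 3 G) g) i) = g • e i
    rw [Equiv.permCongr_apply, Equiv.apply_symm_apply, Equiv.symm_symm]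
    rfl
  have heq : ∀ g (σ : Equiv.Perm (Fin 10)), (∀ i, g • ι i = ι (σ i)) → f g = σ :=
    fun g σ hσ => Equiv.ext fun i => hι.1 ((hf g i).trans (hσ i))
  have hfinj : Function.Injective f := by
    rw [injective_iff_map_eq_one]
    intro g hg
    refine hfaith g fun R => ?_
    obtain ⟨i, rfl⟩ := hι.2 R
    rw [← hf g i, hg]; rfl
  have henc : ∀ A B : ℕ, ι (D360.enc A B) = (u ^ A * v ^ B) • Q := by
    intro A B
    simp only [ι, D360.enc]
    rw [if_neg (by omega), hpow hu33 A, hpow hv33 B]
    congr 3 <;> omega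
  -- the generators
  have hfT : ∀ c : Fin 10, c.val ≠ 9 → f (u ^ (c.val % 3) * v ^ (c.val / 3)) = D360.T c := by
    intro c hc
    refine heq _ _ fun i => ?_
    rw [D360.T_apply, D360.tf]
    by_cases hi : i.val = 9
    · rw [if_pos hi]
      simp only [ι, if_pos hi]
      exact hfixP _ (P.mul_mem ((P : Subgroup G).pow_mem huP _) ((P : Subgroup G).pow_mem hvP _))
    · rw [if_neg hi, henc]
      simp only [ι, if_neg hi]
      rw [← mul_smul]
      congr 1
      rw [mul_assoc, ← mul_assoc (v ^ (c.val / 3)), ← (hcuv.pow_pow (i.val % 3) (c.val / 3)).eq,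
        mul_assoc (u ^ (i.val % 3)), ← mul_assoc, ← pow_add, ← pow_add, add_comm (c.val % 3),
        add_comm (c.val / 3)]
  have hfH : f a = D360.H := by
    refine heq _ _ fun i => ?_
    show _ = ι (D360.hf i)
    rw [D360.hf]
    by_cases hi : i.val = 9
    · rw [if_pos hi]
      simp only [ι, if_pos hi]
      exact ((hmemH a).1 haH).1
    · rw [if_neg hi, henc]
      simp only [ι, if_neg hi]
      rw [hmove a haH _ (P.mul_mem ((P : Subgroup G).pow_mem huP _) ((P : Subgroup G).pow_mem hvP _))]
      congr 1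
      rw [← conj_mul, ← conj_pow, ← conj_pow, hav, ← hvdef, pow_mul,
        show u ^ 2 = u⁻¹ from eq_inv_of_mul_eq_one_left (by rw [← pow_succ]; exact hu33)]
      exact ((hcuv.symm.inv_right).pow_pow _ _).eq
  have hι0 : ι 0 = Q := by simp [ι]
  have hι9 : ι 9 = P := by simp [ι]
  -- an element swapping the two base points
  obtain ⟨w, hw0, hw9⟩ : ∃ w : G, w • Q = P ∧ w • P = Q := by
    obtain ⟨g, hg⟩ := MulAction.exists_smul_eq G Q P
    -- move `g • P` to `Q` inside the stabiliser of `P`
    obtain ⟨o, ho⟩ := horb.2 (g • P)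
    cases o with
    | none => exact absurd (smul_left_cancel g (ho.symm.trans hg.symm)) hPQ
    | some x =>
      refine ⟨(x : G)⁻¹ * g, ?_, ?_⟩
      · rw [mul_smul, hg]; exact hfixP _ (P.inv_mem x.2)
      · rw [mul_smul, inv_smul_eq_iff]; exact ho.symm
  have hfw0 : f w 0 = 9 := hι.1 (by rw [hf, hι0, hw0, hι9])
  have hfw9 : f w 9 = 0 := hι.1 (by rw [hf, hι9, hw9, hι0])
  have hwa : w * a * w⁻¹ ∈ H := by
    have hwP : w⁻¹ • P = Q := inv_smul_eq_iff.2 hw0.symm
    have hwQ : w⁻¹ • Q = P := inv_smul_eq_iff.2 hw9.symm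
    refine (hmemH _).2 ⟨?_, ?_⟩
    · rw [mul_smul, mul_smul, hwP, ((hmemH a).1 haH).2, hw0]
    · rw [mul_smul, mul_smul, hwQ, ((hmemH a).1 haH).1, hw9]
  obtain ⟨k, hk⟩ := hHz _ hwa
  obtain ⟨ε, hε⟩ : ∃ ε : Bool, w * a = a ^ (cond ε 1 3) * w := by
    have hok : orderOf (a ^ k.val) = 4 := by
      rw [← hk, ← ha4]; exact orderOf_injective (MulAut.conj w).toMonoidHom (MulAut.conj w).injective a
    have hk' : k.val = 1 ∨ k.val = 3 := by
      rcases Nat.eq_zero_or_pos k.val with hk0 | hkpos
      · rw [hk0, pow_zero, orderOf_one] at hok; norm_num at hok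
      rw [orderOf_pow' a hkpos.ne', ha4] at hok
      have := k.isLt
      interval_cases k.val <;> simp_all
    have hk2 : w * a = a ^ k.val * w := mul_inv_eq_iff_eq_mul.1 hk
    rcases hk' with e | e <;> rw [e] at hk2
    · exact ⟨true, hk2⟩
    · exact ⟨false, hk2⟩
  have hgood : ∀ c : Fin 10, c.val ≠ 0 → c.val ≠ 9 → ∃ (d : Fin 10) (j : Fin 4),
      D360.T (D360.neg (f w c)) * f w * D360.T c * f w = f w * (D360.T d * D360.H ^ j.val) := by
    intro c hc0 hc9
    set p := f w c with hp
    have hp9 : p.val ≠ 9 := by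
      intro e
      have e9 : f w c = f w 0 := (Fin.ext e : p = 9).trans hfw0.symm
      exact hc0 (congrArg Fin.val ((f w).injective e9))
    have hneg : (D360.neg p).val ≠ 9 := by
      have key : ∀ q : Fin 10, q.val ≠ 9 → (D360.neg q).val ≠ 9 := by decide
      exact key p hp9
    set s := u ^ ((D360.neg p).val % 3) * v ^ ((D360.neg p).val / 3) with hs
    set t := u ^ (c.val % 3) * v ^ (c.val / 3) with ht
    set n := w⁻¹ * s * w * t * w with hn
    have hsimp : f w * f n = D360.T (D360.neg p) * f w * D360.T c * f w := by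
      rw [← hfT c hc9, ← hfT _ hneg, ← map_mul, ← map_mul, ← map_mul, ← map_mul, ← hs, ← ht, hn]
      congr 1
      group
    have hn9 : f n 9 = 9 := by
      have h0 := Equiv.ext_iff.1 hsimp 9
      simp only [Equiv.Perm.mul_apply, D360.T_apply] at h0
      rw [hfw9] at h0
      have hc0' : D360.tf c 0 = c := by
        have key : ∀ q : Fin 10, q.val ≠ 9 → D360.tf q 0 = q := by decide
        exact key c hc9
      rw [hc0', ← hp] at h0
      have hz : D360.tf (D360.neg p) p = 0 := by
        have key : ∀ q : Fin 10, q.val ≠ 9 → D360.tf (D360.neg q) q = 0 := by decide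
        exact key p hp9
      rw [hz, ← hfw9] at h0
      exact (f w).injective h0
    have hnP : n • P = P := by rw [← hι9, ← hf, hn9]
    obtain ⟨o, ho⟩ := horb.2 (n • Q)
    cases o with
    | none => exact absurd (smul_left_cancel n (hnP.trans ho)) hPQ
    | some x =>
      obtain ⟨⟨A, B⟩, hAB⟩ := hpt.2 x
      have hxH : (x : G)⁻¹ * n ∈ H := by
        refine (hmemH _).2 ⟨?_, ?_⟩
        · rw [mul_smul, hnP]; exact hfixP _ (P.inv_mem x.2)
        · rw [mul_smul, inv_smul_eq_iff]; exact ho.symm
      obtain ⟨j, hj⟩ := hHz _ hxH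
      let d : Fin 10 := ⟨A.val + 3 * B.val, by omega⟩
      refine ⟨d, j, ?_⟩
      rw [← hsimp]
      congr 1
      have hd9 : d.val ≠ 9 := by show A.val + 3 * B.val ≠ 9; omega
      rw [← hfT d hd9, ← hfH, ← map_pow, ← map_mul, ← hj]
      congr 1
      have hx : (x : G) = u ^ (d.val % 3) * v ^ (d.val / 3) := by
        rw [← hAB]
        show u ^ A.val * v ^ B.val = _
        congr 2 <;> (simp only [d]; omega)
      rw [← hx, mul_inv_cancel_left]
  obtain ⟨j, hj⟩ := D360.classify_perm hfw0 hfw9 ε
    (by rw [← hfH, ← map_pow, ← map_mul, ← map_mul, hε]) hgood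
  refine ⟨f, hfinj, ?_⟩
  -- `u`, `v`, `a`, `w` generate
  set S := Subgroup.closure ({u, v, a, w} : Set G) with hS
  have htop : S = ⊤ := by
    by_contra hne
    have hu' : u ∈ S := Subgroup.subset_closure (by simp)
    have hv' : v ∈ S := Subgroup.subset_closure (by simp)
    have hst : stabilizer G P ≤ S := by
      intro g hg
      obtain ⟨o, ho⟩ := horb.2 (g • Q)
      cases o with
      | none => exact absurd (smul_left_cancel g ((show g • P = P from hg).trans ho)) hPQ
      | some x =>
        obtain ⟨⟨A, B⟩, hAB⟩ := hpt.2 x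
        have hxH : (x : G)⁻¹ * g ∈ H := (hmemH _).2 ⟨by
          rw [mul_smul, show g • P = P from hg]; exact hfixP _ (P.inv_mem x.2), by
          rw [mul_smul, inv_smul_eq_iff]; exact ho.symm⟩
        obtain ⟨i, hi⟩ := hHz _ hxH
        rw [show g = (x : G) * ((x : G)⁻¹ * g) by group, hi, ← hAB]
        exact mul_mem (mul_mem (pow_mem hu' _) (pow_mem hv' _))
          (pow_mem (Subgroup.subset_closure (by simp)) _)
    have hwS : w ∈ S := Subgroup.subset_closure (by simp)
    have hlt : Nat.card (stabilizer G P) < Nat.card S := by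
      refine lt_of_le_of_ne (Subgroup.card_le_of_le hst) fun e => ?_
      have hEq := Subgroup.eq_of_le_of_card_ge hst e.ge
      rw [← hEq] at hwS
      exact hPQ ((show w • P = P from hwS).symm.trans hw9)
    have h5 := five_le_index hG hne
    have hm := S.card_mul_index
    obtain ⟨q, hq⟩ := hN36 ▸ Subgroup.card_dvd_of_le hst
    rw [hq, h] at hm
    rw [hN36, hq] at hlt
    have hqi : q * S.index = 10 := by linarith
    have hq2 : 2 ≤ q := by omega
    have hi5 : S.index = 5 := by
      have : q ≤ 10 := Nat.le_of_dvd (by norm_num) ⟨_, hqi.symm⟩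
      interval_cases q <;> omega
    have := card_dvd_factorial hne
    rw [hi5, h] at this
    norm_num [Nat.factorial] at this
  have hfu : f u = D360.T 1 := by
    have := hfT 1 (by decide)
    simpa using this
  have hfv : f v = D360.T 3 := by
    have := hfT 3 (by decide)
    simpa using this
  rw [MonoidHom.range_eq_map, ← htop, hS, MonoidHom.map_closure]
  have himg : f '' ({u, v, a, w} : Set G) = {D360.T 1, D360.T 3, D360.H, D360.W * D360.H ^ j.val} := by
    simp only [Set.image_insert_eq, Set.image_singleton, hfu, hfv, hfH, hj]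
  rw [himg, D360.K]
  apply le_antisymm <;> rw [Subgroup.closure_le]
  · rintro x (rfl | rfl | rfl | rfl)
    · exact Subgroup.subset_closure (by simp)
    · exact Subgroup.subset_closure (by simp)
    · exact Subgroup.subset_closure (by simp)
    · exact mul_mem (Subgroup.subset_closure (by simp))
        (pow_mem (Subgroup.subset_closure (by simp)) _)
  · rintro x (rfl | rfl | rfl | rfl)
    · exact Subgroup.subset_closure (by simp)
    · exact Subgroup.subset_closure (by simp)
    · exact Subgroup.subset_closure (by simp)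
    · have hW : D360.W = (D360.W * D360.H ^ j.val) * (D360.H ^ j.val)⁻¹ := by group
      rw [SetLike.mem_coe, hW]
      exact mul_mem (Subgroup.subset_closure (by simp))
        (inv_mem (pow_mem (Subgroup.subset_closure (by simp)) _))

/-- A simple group of order 360 is `A_6`. -/
theorem iso_alternating_six (h : Nat.card G = 360) : Nonempty (G ≃* alternatingGroup (Fin 6)) := by
  haveI : IsSimpleGroup (alternatingGroup (Fin 6)) := alternatingGroup.isSimpleGroup (by simp)
  have h6 : Nat.card (alternatingGroup (Fin 6)) = 360 := by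
    rw [nat_card_alternatingGroup, Nat.card_fin]; rfl
  obtain ⟨f, hf, hfr⟩ := exists_embedding_360 (G := G) h
  obtain ⟨g, hg, hgr⟩ := exists_embedding_360 (G := alternatingGroup (Fin 6)) h6
  exact ⟨((MonoidHom.ofInjective hf).trans (MulEquiv.subgroupCongr (hfr.trans hgr.symm))).trans
    (MonoidHom.ofInjective hg).symm⟩

end Cfsg.Agent.SmallSimple
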