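import Cfsg.Agent.S0904
import Cfsg.Agent.Lib.DefectOne.SelfCent
import Cfsg.Agent.Lib.CharInt.Galois
import Cfsg.Agent.Lib.CharInt.Burnside
import Cfsg.Agent.Lib.CharInt.Kazarin
import Cfsg.Agent.Lib.SmallSimple.Criteria
import Mathlib.NumberTheory.Fermat

/-!
# Simple groups of order `p r q^b`

The principal `p`-block contains a character of degree `r`; the degree relations force
`(p, r, q) = (5, 3, 2)` or `(7, 3, 2)`, and the rationality of that character on `2`-elements
bounds the Sylow `2`-subgroup.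
-/

set_option autoImplicit false
set_option linter.style.haveILetI false
set_option linter.unusedSectionVars false

namespace Cfsg.Agent.SmallSimple.PRQPow

open Cfsg Cfsg.Agent
open scoped ComplexConjugate Classical commutatorElement

universe u

/-- Blichfeldt: the order divides the product of the differences `χ(1) - v` over the other values. -/
theorem dvd_prod_sub {Q : Type u} [Group Q] [Fintype Q] {f : Q → ℂ} (hf : IsCharacter Q f) {d : ℕ}
    (hd : f 1 = d) (s : Finset ℤ) (hs : ∀ g : Q, g ≠ 1 → ∃ v ∈ s, f g = v) :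
    (Nat.card Q : ℤ) ∣ ∏ v ∈ s, ((d : ℤ) - v) := by
  have hpow : ∀ k : ℕ, IsCharacter Q (fun g => f g ^ k) := by
    intro k
    induction k with
    | zero => simpa using Char.isCharacter_one (G := Q)
    | succ k ih =>
      have := Char.IsCharacter.mul ih hf
      simp only [pow_succ]
      exact this
  have claim : ∀ T : Finset ℤ, ∀ k : ℕ, ∃ z : ℤ,
      ∑ g : Q, f g ^ k * ∏ v ∈ T, (f g - (v : ℂ)) = (Nat.card Q : ℂ) * z := by
    intro T
    induction T using Finset.induction_on with
    | empty =>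
      intro k
      obtain ⟨n, hn⟩ := Char.IsCharacter.exists_nat_classInner (hpow k)
        (Char.isCharacter_one (G := Q))
      refine ⟨n, ?_⟩
      simp only [classInner, map_one, mul_one] at hn
      push_cast
      rw [← hn, ← mul_assoc, mul_inv_cancel₀ (Nat.cast_ne_zero.2 Nat.card_pos.ne'), one_mul]
      simp
    | insert v T hv ih =>
      intro k
      obtain ⟨z, hz⟩ := ih (k + 1)
      obtain ⟨z', hz'⟩ := ih k
      refine ⟨z - v * z', ?_⟩
      push_cast
      rw [mul_sub, ← hz, show (Nat.card Q : ℂ) * ((v : ℂ) * z') = v * ((Nat.card Q : ℂ) * z') by ring,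
        ← hz', Finset.mul_sum, ← Finset.sum_sub_distrib]
      refine Finset.sum_congr rfl fun g _ => ?_
      rw [Finset.prod_insert hv, pow_succ]
      ring
  obtain ⟨z, hz⟩ := claim s 0
  rw [Finset.sum_eq_single (1 : Q) (fun g _ hg => by
    obtain ⟨v, hv, hgv⟩ := hs g hg
    rw [Finset.prod_eq_zero hv (by rw [hgv, sub_self]), mul_zero])
    (fun h => absurd (Finset.mem_univ _) h)] at hz
  refine ⟨z, ?_⟩
  rw [hd, pow_zero, one_mul] at hz
  exact_mod_cast hz

theorem eq_zero_of_bound {p k x : ℤ} (hk : x = p * k) (h1 : -p < x) (h2 : x < p) : k = 0 := by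
  rcases lt_trichotomy k 0 with h | h | h
  · nlinarith
  · exact h
  · nlinarith

theorem eq_one_of_bound {p k x : ℤ} (hk : x = p * k) (h1 : 0 < x) (h2 : x < 2 * p) : k = 1 := by
  rcases lt_trichotomy k 1 with h | h | h
  · have : k ≤ 0 := by omega
    nlinarith
  · exact h
  · have : 2 ≤ k := by omega
    nlinarith

theorem prime_eq_five {i : ℕ} (hr : (2 ^ i - 1).Prime) (hp : (2 ^ i + 1).Prime) : i = 2 := by
  have hi0 : i ≠ 0 := by rintro rfl; norm_num at hr
  have hi1 : i ≠ 1 := by rintro rfl; norm_num at hr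
  have hi : i.Prime := (Nat.prime_of_pow_sub_one_prime hi1 hr).2
  obtain ⟨k, hk⟩ := Nat.pow_of_pow_add_prime one_lt_two hi0 hp
  have hk0 : k ≠ 0 := by rintro rfl; exact hi1 hk
  have h2 : 2 ∣ i := hk ▸ dvd_pow_self 2 hk0
  exact ((Nat.prime_dvd_prime_iff_eq Nat.prime_two hi).1 h2).symm

theorem consecutive_fermat {i : ℕ} (hi : i ≠ 0) (h : (2 ^ i + 1).Prime)
    (h' : (2 ^ (i + 1) + 1).Prime) : i = 1 := by
  obtain ⟨a, ha⟩ := Nat.pow_of_pow_add_prime one_lt_two hi h
  obtain ⟨b, hb⟩ := Nat.pow_of_pow_add_prime one_lt_two (Nat.succ_ne_zero i) h'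
  rcases Nat.eq_zero_or_pos a with rfl | hapos
  · simpa using ha
  rcases Nat.eq_zero_or_pos b with rfl | hbpos
  · simp at hb; omega
  have h1 : 2 ∣ 2 ^ a := dvd_pow_self 2 hapos.ne'
  have h2 : 2 ∣ 2 ^ b := dvd_pow_self 2 hbpos.ne'
  omega

theorem consecutive_mersenne {j : ℕ} (hj : j ≠ 1) (h : (2 ^ j - 1).Prime)
    (h' : (2 ^ (j + 1) - 1).Prime) : j = 2 := by
  have hj' : j.Prime := (Nat.prime_of_pow_sub_one_prime hj h).2
  have hj1 : (j + 1).Prime := (Nat.prime_of_pow_sub_one_prime (n := j + 1) (by have := hj'.two_le; omega) h').2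
  rcases hj'.eq_two_or_odd with e | e
  · exact e
  · rcases hj1.eq_two_or_odd with e' | e' <;> omega

variable {G : Type u} [Group G] [Finite G] [IsSimpleGroup G]

theorem degree_one_eq_trivial [Fintype G] (hnc : ¬ ∀ a b : G, a * b = b * a) (χ : IrrCharacter G)
    (h : Char.degree χ = 1) : χ = Char.trivialChar G := by
  have hcomm : commutator G = ⊤ := by
    refine ((inferInstance : (commutator G).Normal).eq_bot_or_eq_top).resolve_left
      fun e => hnc fun a b => ?_
    have : ⁅a, b⁆ ∈ commutator G := by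
      rw [commutator_def]
      exact Subgroup.commutator_mem_commutator (Subgroup.mem_top a) (Subgroup.mem_top b)
    rw [e, Subgroup.mem_bot] at this
    exact commutatorElement_eq_one_iff_mul_comm.1 this
  have h1 : Nat.card {χ : IrrCharacter G // χ.1 1 = 1} = 1 := by
    rw [Char.card_linear, hcomm, Subgroup.index_top]
  haveI := (Nat.card_eq_one_iff_unique.1 h1).1
  have := Subsingleton.elim
    (⟨χ, by rw [Char.apply_one_eq_degree, h, Nat.cast_one]⟩ : {χ : IrrCharacter G // χ.1 1 = 1})
    ⟨Char.trivialChar G, rfl⟩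
  exact congrArg Subtype.val this

set_option maxHeartbeats 1000000 in
/-- The order of a simple group of order `p r q ^ b` with `r < p`. -/
theorem card_eq (hG : ¬ IsCyclic G) {p r q b : ℕ} (hp : p.Prime) (hr : r.Prime) (hq : q.Prime)
    (hpr : r < p) (hpq : p ≠ q) (hrq : r ≠ q) (hcard : Nat.card G = p * r * q ^ b) :
    (p = 5 ∧ Nat.card G = 60) ∨ (p = 7 ∧ Nat.card G = 168) := by
  haveI := Fintype.ofFinite G
  haveI := Fact.mk hp
  have hnc : ¬ ∀ a b : G, a * b = b * a := fun h => hG (by
    haveI : Fact (Nat.card G).Prime := ⟨CharInt.card_prime_of_simple_comm h⟩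
    exact isCyclic_of_prime_card rfl)
  -- `r` is odd
  have hr2 : r ≠ 2 := by
    rintro rfl
    refine false_of_min_exponent_one (G := G) (m := p * q ^ b) Nat.prime_two (by rw [hcard]; ring)
      (Nat.one_lt_mul_iff.2 ⟨hp.pos, pow_pos hq.pos _, Or.inl hp.one_lt⟩) fun s hs hsd => ?_
    rcases hs.dvd_mul.1 hsd with h | h
    · rw [(Nat.prime_dvd_prime_iff_eq hs hp).1 h]; exact hpr
    · rw [(Nat.prime_dvd_prime_iff_eq hs hq).1 (hs.dvd_of_dvd_pow h)]
      have := hq.two_le; omega
  have hr3 : 3 ≤ r := by have := hr.two_le; omega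
  have hrodd : r % 2 = 1 := hr.eq_two_or_odd.resolve_left hr2
  have hp2 : p % 2 = 1 := hp.eq_two_or_odd.resolve_left (by omega)
  have hrp1 : r < p - 1 := by omega
  -- the Sylow subgroup
  obtain ⟨P⟩ := (inferInstance : Nonempty (Sylow p G))
  have hndvd : ¬ p ∣ r * q ^ b := fun h => by
    rcases hp.dvd_mul.1 h with h | h
    · exact absurd ((Nat.prime_dvd_prime_iff_eq hp hr).1 h) (by omega)
    · exact hpq ((Nat.prime_dvd_prime_iff_eq hp hq).1 (hp.dvd_of_dvd_pow h))
  have hP : Nat.card P = p := by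
    have := card_sylow_eq_pow P 1 (r * q ^ b) (by rw [hcard, pow_one, mul_assoc]) hndvd
    rwa [pow_one] at this
  have hC : Subgroup.centralizer ((P : Subgroup G) : Set G) = (P : Subgroup G) :=
    Cfsg.Agent.S0904.result q r p b 1 hq hr (Ne.symm hrq) (Ne.symm hpq) (by omega)
      (by rw [hcard]; ring) P
  have hSC : DefectOne.SelfCent P := ⟨hP, hC⟩
  obtain ⟨Mi, hM⟩ := CharInt.exists_isPModular_of_prime hp
  haveI := hM.2.1
  obtain ⟨e, he⟩ : ∃ e, (Subgroup.centralizer ((P : Subgroup G) : Set G)).relIndex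
      (Subgroup.normalizer ((P : Subgroup G) : Set G)) = e := ⟨_, rfl⟩
  obtain ⟨S⟩ := DefectOne.primeShape (P := P) (M := Mi) hM.2.2 hP he
  have hN : Nat.card (Subgroup.normalizer ((P : Subgroup G) : Set G)) = p * e := by
    rw [← he, hC]
    have h1 := Subgroup.card_mul_index ((P : Subgroup G).subgroupOf
      (Subgroup.normalizer ((P : Subgroup G) : Set G)))
    rw [Nat.card_congr (Subgroup.subgroupOfEquivOfLe Subgroup.le_normalizer).toEquiv] at h1
    rw [← h1, show Nat.card (P : Subgroup G) = p from hP]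
    rfl
  have hsyl : Nat.card G = Nat.card (Sylow p G) * (p * e) := by
    rw [P.card_eq_index_normalizer, ← hN, mul_comm]
    exact (Subgroup.card_mul_index _).symm
  have he0 : 0 < e := Nat.pos_of_ne_zero fun h0 => by
    rw [h0, mul_zero, mul_zero] at hsyl
    exact Nat.card_pos.ne' hsyl
  have hedvd : e ∣ r * q ^ b := by
    have h1 : p * e ∣ p * (r * q ^ b) := by
      rw [← mul_assoc, ← hcard, hsyl]; exact Dvd.intro_left _ rfl
    exact Nat.dvd_of_mul_dvd_mul_left hp.pos h1
  obtain ⟨t, ht⟩ : ∃ t, t * e = p - 1 := ⟨(p - 1) / e, Nat.div_mul_cancel S.m_dvd⟩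
  have hcY : S.Y.card = t := by rw [S.cardY, ← ht, Nat.mul_div_cancel _ he0]
  have hep : e ≤ p - 1 := Nat.le_of_dvd (by omega) S.m_dvd
  -- a non-trivial character of degree `r`
  set T := Char.trivialChar G with hT
  have hlin := degree_one_eq_trivial (G := G) hnc
  obtain ⟨y, hyP, -, hyord⟩ := DefectOne.exists_gen hP
  have hy1 : y ≠ 1 := fun h => by rw [h, orderOf_one] at hyord; exact hp.one_lt.ne hyord
  have hdvdG : ∀ χ : IrrCharacter G, Char.degree χ ∣ p * (r * q ^ b) := fun χ => by
    rw [← Char.charDegree_eq_degree, ← mul_assoc, ← hcard]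
    exact Char.charDegree_dvd_card χ
  have hblock : ∀ χ ∈ principalBlock Mi G, ¬ p ∣ Char.degree χ := by
    intro χ hχ hd
    have hd' : (Char.degree χ : ℤ) ≡ 0 [ZMOD p] :=
      Int.modEq_zero_iff_dvd.2 (by exact_mod_cast hd)
    rcases S.mem_XY hχ with h | h
    · have := ((S.X_deg' h).symm.trans hd')
      rw [Int.modEq_zero_iff_dvd] at this
      rcases S.hεX χ h with e' | e' <;> rw [e'] at this
      · exact hp.not_dvd_one (by exact_mod_cast this)
      · exact hp.not_dvd_one (by exact_mod_cast (dvd_neg.1 this))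
    · have := ((S.Y_deg' h).symm.trans hd')
      rw [Int.modEq_zero_iff_dvd] at this
      have h' : (p : ℤ) ∣ (e : ℤ) := by
        rcases S.hε with e' | e' <;> rw [e'] at this
        · simpa using this
        · simpa using this
      have := Nat.le_of_dvd he0 (by exact_mod_cast h')
      omega
  have hqfree : ∀ χ : IrrCharacter G, ¬ p ∣ Char.degree χ → ¬ q ∣ Char.degree χ →
      Char.degree χ = 1 ∨ Char.degree χ = r := by
    intro χ h1 h2
    have h3 : Char.degree χ ∣ r * q ^ b :=
      ((hp.coprime_iff_not_dvd.2 h1).symm.dvd_of_dvd_mul_left (hdvdG χ))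
    exact (Nat.dvd_prime hr).1
      ((Nat.Coprime.pow_right b (hq.coprime_iff_not_dvd.2 h2).symm).dvd_of_dvd_mul_right h3)
  obtain ⟨θ, hθT, hθr⟩ : ∃ θ : IrrCharacter G, θ ≠ T ∧ Char.degree θ = r := by
    by_contra hno
    push Not at hno
    have hz : ∀ χ ∈ Finset.univ.erase T, χ.1 y = 0 ∨ q ∣ Char.degree χ := by
      intro χ hχ
      by_contra hcon
      push Not at hcon
      have hb : χ ∈ principalBlock Mi G := by
        by_contra hb
        exact hcon.1 (hSC.vanish hM.2.2 hb hyP hy1)
      rcases hqfree χ (hblock χ hb) hcon.2 with h | h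
      · exact (Finset.mem_erase.1 hχ).1 (hlin χ h)
      · exact hno χ (Finset.mem_erase.1 hχ).1 h
    have hsum := Char.sum_irr_degree_mul y
    rw [if_neg hy1, ← Finset.add_sum_erase _ _ (Finset.mem_univ T), hT, Char.trivialChar_apply,
      Char.trivialChar_apply, one_mul, ← hT] at hsum
    let w : IrrCharacter G → ℂ := fun χ =>
      if q ∣ Char.degree χ then χ.1 y * ((Char.degree χ / q : ℕ) : ℂ) else 0
    have hw : ∀ χ ∈ Finset.univ.erase T, χ.1 1 * χ.1 y = (q : ℂ) * w χ := by
      intro χ hχ
      by_cases hd : q ∣ Char.degree χ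
      · simp only [w, if_pos hd]
        rw [mul_left_comm, ← Nat.cast_mul, Nat.mul_div_cancel' hd, Char.apply_one_eq_degree,
          mul_comm]
      · simp only [w, if_neg hd]
        rw [(hz χ hχ).resolve_right hd]
        simp
    rw [Finset.sum_congr rfl hw, ← Finset.mul_sum] at hsum
    set sw := ∑ χ ∈ Finset.univ.erase T, w χ with hsw
    have hint : IsIntegral ℤ sw := by
      refine IsIntegral.sum _ fun χ _ => ?_
      simp only [w]
      split_ifs
      · exact (CharInt.isIntegral_char (Char.irr_isCharacter χ) y).mul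
          (isIntegral_algebraMap (R := ℤ) (A := ℂ) (x := ((Char.degree χ / q : ℕ) : ℤ)))
      · exact isIntegral_zero
    have hs : sw = algebraMap ℚ ℂ (-1 / (q : ℚ)) := by
      have hq0 : (q : ℂ) ≠ 0 := Nat.cast_ne_zero.2 hq.ne_zero
      rw [eq_ratCast]
      push_cast
      field_simp
      linear_combination hsum
    rw [hs, isIntegral_algebraMap_iff (algebraMap ℚ ℂ).injective] at hint
    obtain ⟨z, hz'⟩ := IsIntegrallyClosed.isIntegral_iff.1 hint
    rw [eq_intCast, eq_div_iff (Nat.cast_ne_zero.2 hq.ne_zero)] at hz'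
    have hz'' : z * (q : ℤ) = -1 := by exact_mod_cast hz'
    have : (q : ℤ) ∣ 1 := ⟨-z, by linear_combination hz''⟩
    exact hq.not_dvd_one (by exact_mod_cast this)
  have small_mem : ∀ χ : IrrCharacter G, Char.degree χ = r → χ ∈ S.Y := by
    intro χ hχ
    have hb := hSC.mem_block hM.2.2 (χ := χ) (fun hd => by
      rw [hχ] at hd
      have := Nat.le_of_dvd hr.pos hd
      omega)
    refine (S.mem_XY hb).resolve_left fun hX => ?_
    have h1 := (Int.modEq_iff_dvd.1 (S.X_deg' hX).symm)
    rw [hχ] at h1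
    obtain ⟨k, hk⟩ := h1
    rcases S.hεX χ hX with e' | e' <;> rw [e'] at hk <;>
      obtain rfl := eq_zero_of_bound hk (by omega) (by omega) <;> omega
  have hθY := small_mem θ hθr
  have hdeg : ∀ χ ∈ S.Y, Char.degree χ = r := fun χ hχ => (S.degree_eq hχ hθY).trans hθr
  have hre : (S.ε = 1 ∧ e = r) ∨ (S.ε = -1 ∧ p = r + e) := by
    have h1 := Int.modEq_iff_dvd.1 (S.Y_deg' hθY).symm
    rw [hθr] at h1
    obtain ⟨k, hk⟩ := h1
    have hpz : (3 : ℤ) ≤ p := by omega
    rcases S.hε with e' | e' <;> rw [e'] at hk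
    · refine Or.inl ⟨e', ?_⟩
      obtain rfl := eq_zero_of_bound hk (by omega) (by omega)
      omega
    · refine Or.inr ⟨e', ?_⟩
      obtain rfl := eq_one_of_bound hk (by omega) (by omega)
      omega
  have he2 : 2 ≤ e := by
    rcases hre with ⟨-, h⟩ | ⟨-, h⟩
    · omega
    · by_contra hcon
      omega
  have ht2 : 2 ≤ t := by
    by_contra hcon
    interval_cases t
    · omega
    · rcases hre with ⟨-, h⟩ | ⟨-, h⟩ <;> omega
  -- the non-trivial non-exceptional characters
  have hTX : T ∈ S.X := by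
    refine (S.mem_XY (hSC.mem_block hM.2.2 fun hd => ?_)).resolve_right fun h => ?_
    · rw [show Char.degree T = 1 by
        have := Char.apply_one_eq_degree T
        rw [hT, Char.trivialChar_apply] at this
        exact_mod_cast this.symm] at hd
      exact hp.not_dvd_one hd
    · have := hdeg T h
      have h1 := Char.apply_one_eq_degree T
      rw [hT, Char.trivialChar_apply] at h1
      have : Char.degree T = 1 := by exact_mod_cast h1.symm
      omega
  have hT1 : Char.degree T = 1 := by
    have := Char.apply_one_eq_degree T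
    rw [hT, Char.trivialChar_apply] at this
    exact_mod_cast this.symm
  have hεT : S.εX T = 1 := by
    have := S.X_val T hTX ⟨y, hyP⟩ (fun h => hy1 (congrArg Subtype.val h))
    rw [hT, Char.trivialChar_apply] at this
    exact_mod_cast this.symm
  have hXq : ∀ χ ∈ S.X.erase T, q ∣ Char.degree χ := by
    intro χ hχ
    obtain ⟨hne, hX⟩ := Finset.mem_erase.1 hχ
    by_contra hnq
    rcases hqfree χ (hblock χ (by rw [S.union]; exact Or.inl hX)) hnq with h | h
    · exact hne (hlin χ h)
    · exact Finset.disjoint_left.1 S.disj hX (small_mem χ h)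
  have hrel : S.ε * (r : ℤ) = 1 + ∑ χ ∈ S.X.erase T, S.εX χ * (Char.degree χ : ℤ) := by
    rw [← hθr, S.degree_relation hθY, ← Finset.add_sum_erase _ _ hTX, hεT, hT1]
    norm_num
  have hqr : (q : ℤ) ∣ S.ε * r - 1 := by
    rw [hrel, add_sub_cancel_left]
    exact Finset.dvd_sum fun χ hχ => Dvd.dvd.mul_left (by exact_mod_cast hXq χ hχ) _
  -- the shape
  have hcases : q = 2 ∧ r = 3 ∧ ((p = 5 ∧ e = 2) ∨ (p = 7 ∧ e = 3)) := by
    rcases hre with ⟨hε, her⟩ | ⟨hε, hpe⟩
    · obtain ⟨ht', -, χ, hχ, hχd⟩ := hSC.exceptional_small hM.2.2 hlin S hε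
        (fun θ' h => (hdeg θ' h).trans her.symm) he2 ht hcY ht2
      have hpr2 : p + 1 = 2 * (r + 1) := by rw [ht', her] at ht; omega
      have hc1 : Nat.Coprime (p + 1) (p * r) := by
        refine Nat.Coprime.mul_right ?_ ?_
        · simp
        · refine ((hr.coprime_iff_not_dvd).2 fun h => ?_).symm
          rw [hpr2] at h
          rcases hr.dvd_mul.1 h with h | h
          · exact hr2 ((Nat.prime_dvd_prime_iff_eq hr Nat.prime_two).1 h)
          · exact hr.not_dvd_one ((Nat.dvd_add_right (dvd_refl r)).1 h)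
      have h3 : p + 1 ∣ q ^ b := by
        refine hc1.dvd_of_dvd_mul_left ?_
        rw [mul_assoc, ← hχd]
        exact hdvdG χ
      obtain ⟨i, -, hi⟩ := (Nat.dvd_prime_pow hq).1 h3
      have hi0 : i ≠ 0 := by rintro rfl; simp at hi; omega
      have hq2 : q = 2 := by
        have : 2 ∣ q ^ i := by rw [← hi]; omega
        exact ((Nat.prime_dvd_prime_iff_eq Nat.prime_two hq).1 (Nat.prime_two.dvd_of_dvd_pow this)).symm
      subst hq2
      obtain ⟨j, rfl⟩ := Nat.exists_eq_succ_of_ne_zero hi0
      have hrj : r = 2 ^ j - 1 := by rw [pow_succ] at hi; omega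
      have hpj : p = 2 ^ (j + 1) - 1 := by rw [show j.succ = j + 1 from rfl] at hi; omega
      have hj1 : j ≠ 1 := by rintro rfl; norm_num at hrj; omega
      have hj := consecutive_mersenne hj1 (hrj ▸ hr) (hpj ▸ hp)
      subst hj
      norm_num at hrj hpj
      exact ⟨rfl, hrj, Or.inr ⟨hpj, by omega⟩⟩
    · have hce : Nat.Coprime e r := ((hr.coprime_iff_not_dvd).2 fun h => by
        have h' : r ∣ p := hpe ▸ dvd_add (dvd_refl r) h
        exact absurd ((Nat.prime_dvd_prime_iff_eq hr hp).1 h') (by omega)).symm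
      obtain ⟨α, -, hα⟩ := (Nat.dvd_prime_pow hq).1 (hce.dvd_of_dvd_mul_left hedvd)
      have hα0 : α ≠ 0 := by rintro rfl; simp at hα; omega
      have hq2 : q = 2 := by
        have h1 : q ∣ r + 1 := by
          rw [hε] at hqr
          have : (q : ℤ) ∣ (r : ℤ) + 1 := by
            have := hqr.neg_right
            rwa [show -((-1 : ℤ) * r - 1) = (r : ℤ) + 1 by ring] at this
          exact_mod_cast this
        have h2 : q ∣ p - 1 := (hα ▸ dvd_pow_self q hα0 : q ∣ e).trans S.m_dvd
        have h3 : q ∣ e := hα ▸ dvd_pow_self q hα0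
        have h4 : q ∣ p + 1 := by rw [hpe, Nat.add_right_comm]; exact dvd_add h1 h3
        have h5 : q ∣ 2 := by
          have := Nat.dvd_sub h4 h2
          rwa [show p + 1 - (p - 1) = 2 by omega] at this
        exact (Nat.prime_dvd_prime_iff_eq hq Nat.prime_two).1 h5
      subst hq2
      by_cases hα1 : α = 1
      · subst hα1
        norm_num at hα
        have hX1 : (S.X.erase T).card = 1 := by
          rw [Finset.card_erase_of_mem hTX, S.cardX, hα]
        obtain ⟨χ, hχ⟩ := Finset.card_eq_one.1 hX1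
        rw [hχ, Finset.sum_singleton, hε] at hrel
        have hχX : χ ∈ S.X := Finset.erase_subset _ _ (hχ ▸ Finset.mem_singleton_self χ)
        have hd : Char.degree χ = p - 1 := by
          rcases S.hεX χ hχX with e' | e' <;> rw [e'] at hrel <;> omega
        have h3 : p - 1 ∣ 2 ^ b := by
          refine (Nat.Coprime.mul_right ?_ ?_ : Nat.Coprime (p - 1) (p * r)).dvd_of_dvd_mul_left ?_
          · refine ((hp.coprime_iff_not_dvd).2 fun h => ?_).symm
            have := Nat.le_of_dvd (by omega) h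
            omega
          · rw [show p - 1 = r + 1 by omega]
            simp
          · rw [mul_assoc, ← hd]
            exact hdvdG χ
        obtain ⟨i, -, hi⟩ := (Nat.dvd_prime_pow Nat.prime_two).1 h3
        have hri : r = 2 ^ i - 1 := by omega
        have hpi : p = 2 ^ i + 1 := by omega
        have := prime_eq_five (hri ▸ hr) (hpi ▸ hp)
        subst this
        norm_num at hri hpi
        exact ⟨rfl, hri, Or.inl ⟨hpi, hα⟩⟩
      · exfalso
        have he4 : 4 ∣ e := by
          rw [hα]
          exact pow_dvd_pow 2 (by omega : 2 ≤ α)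
        obtain ⟨e', he'⟩ := he4
        have hr4 : r % 4 = 1 := by
          have : r = (t - 1) * e + 1 := by
            have h1 : (t - 1) * e + e = t * e := by
              rw [← Nat.succ_mul]; congr 1; omega
            omega
          rw [this, he', show (t - 1) * (4 * e') = 4 * ((t - 1) * e') by ring]
          omega
        obtain ⟨χ, hχ, hχ4⟩ : ∃ χ ∈ S.X.erase T, ¬ 4 ∣ Char.degree χ := by
          by_contra hcon
          push Not at hcon
          have h4 : (4 : ℤ) ∣ S.ε * r - 1 := by
            rw [hrel, add_sub_cancel_left]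
            exact Finset.dvd_sum fun χ hχ => Dvd.dvd.mul_left (by exact_mod_cast hcon χ hχ) _
          rw [hε] at h4
          omega
        obtain ⟨d, hd⟩ := hXq χ hχ
        obtain ⟨hne, hX⟩ := Finset.mem_erase.1 hχ
        have hdr : d ∣ r := by
          have hd2 : Nat.Coprime d 2 := ((Nat.prime_two.coprime_iff_not_dvd).2 fun h => hχ4 (by
            rw [hd]; exact Nat.mul_dvd_mul_left 2 h)).symm
          have hdp : Nat.Coprime d p := ((hp.coprime_iff_not_dvd).2 fun h =>
            hblock χ (by rw [S.union]; exact Or.inl hX) (hd ▸ h.mul_left 2)).symm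
          have h1 : d ∣ p * (r * 2 ^ b) := (Dvd.intro_left 2 hd.symm).trans (hdvdG χ)
          exact (hd2.pow_right b).dvd_of_dvd_mul_right (hdp.dvd_of_dvd_mul_left h1)
        have hmod := Int.modEq_iff_dvd.1 (S.X_deg' hX).symm
        rw [hd] at hmod
        obtain ⟨k, hk⟩ := hmod
        push_cast at hk
        rcases (Nat.dvd_prime hr).1 hdr with rfl | rfl
        · rcases S.hεX χ hX with e'' | e'' <;> rw [e''] at hk <;>
            obtain rfl := eq_zero_of_bound hk (by omega) (by omega) <;> omega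
        · have hk1 : k = 1 := by
            rcases S.hεX χ hX with e'' | e'' <;> rw [e''] at hk <;>
              exact eq_one_of_bound hk (by omega) (by omega)
          subst hk1
          have hte : 2 * e ≤ t * e := Nat.mul_le_mul_right e ht2
          rcases S.hεX χ hX with e'' | e'' <;> rw [e''] at hk
          · have hpr' : p = 2 * 2 ^ α + 1 ∧ d = 2 ^ α + 1 := by rw [← hα]; omega
            exact hα1 (consecutive_fermat hα0 (hpr'.2 ▸ hr)
              (by rw [pow_succ', ← hpr'.1]; exact hp))
          · omega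
  obtain ⟨hq2, hr3', hpe⟩ := hcases
  subst hq2
  -- the character of degree three is rational on `2`-elements
  obtain ⟨Q⟩ := (inferInstance : Nonempty (Sylow 2 G))
  haveI : Fact (Nat.Prime 2) := ⟨Nat.prime_two⟩
  have hQ : Nat.card Q = 2 ^ b := by
    refine card_sylow_eq_pow Q b (p * r) (by rw [hcard]; ring) fun h => ?_
    rcases Nat.prime_two.dvd_mul.1 h with h | h <;> omega
  have hreg : ∀ u : G, u ∈ (Q : Subgroup G) → IsPRegular p u := by
    intro u hu hd
    have h1 : orderOf u ∣ 2 ^ b := hQ ▸ Subgroup.orderOf_dvd_natCard _ hu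
    exact hpq ((Nat.prime_dvd_prime_iff_eq hp Nat.prime_two).1 (hp.dvd_of_dvd_pow (hd.trans h1)))
  have hrat : ∀ u : G, u ∈ (Q : Subgroup G) → u ≠ 1 →
      ∃ v ∈ Finset.Ico (-3 : ℤ) 3, θ.1 u = v := by
    intro u hu hu1
    obtain ⟨v, hv⟩ : ∃ v : ℤ, θ.1 u = v := by
      obtain ⟨a, ha⟩ := CharInt.exists_rat_of_forall_pow (Char.irr_isCharacter θ) u fun k hk => by
        obtain ⟨k', hk', hku⟩ := CharInt.exists_coprime_pow_eq u hk
        let θ' : IrrCharacter G := ⟨_, CharInt.isIrrCharacter_pow θ.2 hk'⟩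
        have hd' : Char.degree θ' = r := by
          have h1 := Char.apply_one_eq_degree θ'
          simp only [θ', one_pow, Char.apply_one_eq_degree] at h1
          have : Char.degree θ = Char.degree θ' := by exact_mod_cast h1
          exact this.symm.trans hθr
        rw [← hku]
        exact S.agree θ' (small_mem θ' hd') θ hθY u (hreg u hu)
      have hint := CharInt.isIntegral_char (Char.irr_isCharacter θ) u
      rw [ha, ← eq_ratCast (algebraMap ℚ ℂ),
        isIntegral_algebraMap_iff (algebraMap ℚ ℂ).injective] at hint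
      obtain ⟨z, hz⟩ := IsIntegrallyClosed.isIntegral_iff.1 hint
      exact ⟨z, by rw [ha, ← hz]; simp⟩
    refine ⟨v, Finset.mem_Ico.2 ?_, hv⟩
    have hn := CharInt.norm_char_le (Char.irr_isCharacter θ) u
    rw [hv, Char.apply_one_eq_degree, hθr, hr3', Complex.norm_intCast, Complex.norm_natCast] at hn
    have hv3 : v ≠ 3 := by
      rintro rfl
      have hker : u ∈ CharInt.charKernel (Char.irr_isCharacter θ) := by
        rw [CharInt.mem_charKernel, hv, Char.apply_one_eq_degree, hθr, hr3']
        norm_num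
      rcases (CharInt.charKernel_normal (Char.irr_isCharacter θ)).eq_bot_or_eq_top with h | h
      · rw [h, Subgroup.mem_bot] at hker; exact hu1 hker
      · have hall : ∀ g : G, θ.1 g = θ.1 1 := fun g =>
          (CharInt.mem_charKernel (Char.irr_isCharacter θ)).1 (h ▸ Subgroup.mem_top g)
        have h2 := Char.sum_apply_eq_zero hθT
        rw [Finset.sum_congr rfl fun g _ => hall g, Finset.sum_const, nsmul_eq_mul,
          Finset.card_univ, Char.apply_one_eq_degree] at h2
        rcases mul_eq_zero.1 h2 with h3 | h3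
        · exact Fintype.card_ne_zero (Nat.cast_eq_zero.1 h3)
        · exact (Char.degree_pos θ).ne' (Nat.cast_eq_zero.1 h3)
    obtain ⟨hlo, hhi⟩ := abs_le.1 (show |v| ≤ 3 by exact_mod_cast hn)
    exact ⟨hlo, lt_of_le_of_ne hhi hv3⟩
  have hb : 2 ^ b ∣ 720 := by
    have h := dvd_prod_sub (Q := (Q : Subgroup G)) (f := fun g => θ.1 g)
      (Char.IsCharacter.restrict (Char.irr_isCharacter θ) _) (d := 3)
      (by rw [Subgroup.coe_one, Char.apply_one_eq_degree, hθr, hr3'])
      (Finset.Ico (-3 : ℤ) 3) fun g hg => hrat g g.2 fun h => hg (Subtype.ext h)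
    rw [show ∏ v ∈ Finset.Ico (-3 : ℤ) 3, (((3 : ℕ) : ℤ) - v) = ((720 : ℕ) : ℤ) by decide] at h
    rw [← hQ]
    exact_mod_cast h
  have hb4 : b ≤ 4 := by
    by_contra hcon
    have : 2 ^ 5 ∣ 720 := (pow_dvd_pow 2 (by omega : 5 ≤ b)).trans hb
    norm_num at this
  have hmod : Nat.card (Sylow p G) % p = 1 := by
    have := card_sylow_modEq_one p G
    rwa [Nat.ModEq, Nat.one_mod_eq_one.2 hp.ne_one] at this
  have hn1 : Nat.card (Sylow p G) ≠ 1 := by
    intro h1
    haveI := (Nat.card_eq_one_iff_unique.1 h1).1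
    rcases P.normal_of_subsingleton.eq_bot_or_eq_top with hb' | ht'
    · have : Nat.card (P : Subgroup G) = 1 := by rw [hb', Subgroup.card_bot]
      have := hP; omega
    · have : Nat.card (P : Subgroup G) = Nat.card G := by rw [ht', Subgroup.card_top]
      exact hnc fun a c => by
        haveI : Fact (Nat.card G).Prime := ⟨by rw [← this, show Nat.card (P : Subgroup G) = p from hP]; exact hp⟩
        haveI := isCyclic_of_prime_card (α := G) rfl
        exact IsMulCommutative.is_comm.comm a c
  rw [hcard, hr3'] at hsyl ⊢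
  generalize Nat.card (Sylow p G) = n at hsyl hmod hn1
  rcases hpe with ⟨rfl, rfl⟩ | ⟨rfl, rfl⟩
  · refine Or.inl ⟨rfl, ?_⟩
    interval_cases b <;> norm_num at hsyl ⊢ <;> omega
  · refine Or.inr ⟨rfl, ?_⟩
    interval_cases b <;> norm_num at hsyl ⊢ <;> omega

end Cfsg.Agent.SmallSimple.PRQPow
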