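import Cfsg.Agent.Lib.OddOrder.SelfCentralizing
import Cfsg.Agent.Lib.Char.PRegular
import Cfsg.Agent.Lib.SmallSimple.Tools
import Cfsg.Agent.Lib.BlockCount.Involve
import Cfsg.Agent.Lib.SmallSimple.Criteria

/-!
# Degree equation for a self-centralising Sylow subgroup of prime order

`G` simple, `A` of prime order `p`, self-centralising, `e = [N(A):A] ≤ 4` with at least `e + 2`
exceptional characters: the principal block gives `e - 1` signed degrees `Z i ≡ 1 (mod p)` with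
`1 + ∑ Z i ≡ e (mod p)` and all of them dividing the group order.
-/

set_option autoImplicit false
set_option linter.style.haveILetI false
set_option linter.unusedSectionVars false

open scoped ComplexConjugate

namespace Cfsg.Agent.SmallSimple

open Cfsg Cfsg.Agent.Char Cfsg.Agent.OddOrder

variable {G : Type*} [Group G] [Finite G] [IsSimpleGroup G]

theorem eq_trivialChar_of_degree_one (hG : ¬ IsMulCommutative G) (χ : IrrCharacter G)
    (h : χ.1 1 = 1) : χ = trivialChar G := by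
  obtain ⟨f, hf⟩ := IsCharacter.exists_monoidHom (irr_isCharacter χ) h
  rcases f.normal_ker.eq_bot_or_eq_top with h' | h'
  · exact absurd (isMulCommutative_iff.2 fun a b => (MonoidHom.ker_eq_bot_iff f).1 h'
      (by rw [map_mul, map_mul, mul_comm])) hG
  · refine Subtype.ext (funext fun g => ?_)
    rw [← hf]
    exact f.mem_ker.1 (h' ▸ Subgroup.mem_top g)

theorem sum_over_nontrivial {A : Type*} [Group A] [Fintype A] [DecidableEq A] (f : A → ℂ) (c : ℂ)
    (h : ∀ x : A, x ≠ 1 → f x = c) : ∑ x, f x = f 1 + ((Fintype.card A : ℂ) - 1) * c := by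
  rw [← Finset.add_sum_erase Finset.univ f (Finset.mem_univ 1),
    Finset.sum_congr rfl (fun x hx => h x (Finset.ne_of_mem_erase hx)), Finset.sum_const,
    Finset.card_erase_of_mem (Finset.mem_univ _), Finset.card_univ, nsmul_eq_mul,
    Nat.cast_sub Fintype.card_pos, Nat.cast_one]

/-- The principal block data at a self-centralising subgroup of prime order. -/
theorem exists_block [Fintype G] (hG : ¬ IsMulCommutative G) {p e s : ℕ} [hp : Fact p.Prime]
    {A : Subgroup G} (hA : IsSelfCent A) (hcard : Nat.card A = p)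
    (he : (A.subgroupOf (Subgroup.normalizer (A : Set G))).index = e)
    (hs : s * e = p - 1) (hes : e + 1 ≤ s) (hs3 : 3 ≤ s) (he4 : e ≤ 4) :
    ∃ (D : ExceptionalData A e s) (T : Finset (IrrCharacter G)) (z : IrrCharacter G → ℤ),
      D.δ = 0 ∧ T.card + 1 = e ∧
      (∀ χ ∈ T, χ ≠ trivialChar G ∧ χ ∉ Set.range D.θ ∧ (z χ = 1 ∨ z χ = -1)) ∧
      (∀ χ, χ ∉ Set.range D.θ → ∀ y : A, y ≠ 1 → χ.1 (y : G) = z χ) ∧
      trivialChar G ∉ Set.range D.θ ∧ z (trivialChar G) = 1 ∧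
      ∀ χ, χ ∉ Set.range D.θ → χ ≠ trivialChar G → χ ∉ T → z χ = 0 := by
  classical
  obtain ⟨D⟩ := exists_exceptionalData hA he (by rw [hcard]; exact hs) (by omega)
  obtain ⟨x, hx⟩ : ∃ x : A, x ≠ 1 := by
    haveI : Nontrivial A := Finite.one_lt_card_iff_nontrivial.1 (hcard ▸ hp.out.one_lt)
    exact exists_ne 1
  have hxG : (x : G) ≠ 1 := fun h => hx (Subtype.ext h)
  set S : Finset (IrrCharacter G) := Finset.univ.image D.θ with hS
  have hmemS : ∀ χ, χ ∈ S ↔ χ ∈ Set.range D.θ := fun χ => by simp [hS]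
  have hconst : ∀ χ : IrrCharacter G, ∃ z : ℤ, χ ∉ S → ∀ y : A, y ≠ 1 → χ.1 (y : G) = z := by
    intro χ
    by_cases h : χ ∈ S
    · exact ⟨0, fun h' => absurd h h'⟩
    · obtain ⟨z, hz⟩ := D.const χ (by rwa [← hmemS])
      exact ⟨z, fun _ => hz⟩
  choose z hz using hconst
  -- column orthogonality at `x`
  have hsq := sum_irr_mul_conj (x : G) (x : G)
  rw [if_pos (IsConj.refl _), hA _ x.2 hxG, ← Finset.sum_add_sum_compl S] at hsq
  have hε2 : (D.ε : ℂ) * D.ε = 1 := by rcases D.ε_eq with h | h <;> simp [h]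
  have hexc : ∑ χ ∈ S, χ.1 (x : G) * conj (χ.1 (x : G)) =
      (s : ℂ) * D.δ ^ 2 - 2 * D.ε * D.δ + ((p : ℂ) - e) := by
    rw [hS, Finset.sum_image (fun a _ b _ h => D.inj h)]
    simp only [D.value _ x hx, map_add, map_mul, map_intCast]
    have h1 : ∀ i, ((D.δ : ℂ) + D.ε * D.P i x) * (D.δ + D.ε * conj (D.P i x)) =
        D.δ ^ 2 + D.ε * D.δ * D.P i x + D.ε * D.δ * conj (D.P i x) +
          D.P i x * conj (D.P i x) := fun i => by
      linear_combination (D.P i x * conj (D.P i x)) * hε2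
    simp only [h1, Finset.sum_add_distrib, ← Finset.mul_sum, Finset.sum_const, Finset.card_univ,
      Fintype.card_fin, nsmul_eq_mul, D.sum_P x hx, D.sum_sq_col x hx, ← map_sum]
    rw [map_neg, map_one, hcard]
    ring
  have hnon : ∑ χ ∈ Sᶜ, χ.1 (x : G) * conj (χ.1 (x : G)) = ((∑ χ ∈ Sᶜ, z χ ^ 2 : ℤ) : ℂ) := by
    push_cast
    refine Finset.sum_congr rfl fun χ hχ => ?_
    rw [hz χ (Finset.mem_compl.1 hχ) x hx, map_intCast]; ring
  rw [hexc, hnon, hcard] at hsq
  have hsqZ : (s : ℤ) * D.δ ^ 2 - 2 * D.ε * D.δ + ∑ χ ∈ Sᶜ, z χ ^ 2 = e := by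
    have h : ((((s : ℤ) * D.δ ^ 2 - 2 * D.ε * D.δ + ∑ χ ∈ Sᶜ, z χ ^ 2 : ℤ)) : ℂ) = ((e : ℤ) : ℂ) := by
      push_cast at hsq ⊢; linear_combination hsq
    exact_mod_cast h
  have htriv : trivialChar G ∉ S := by
    rw [hmemS]; rintro ⟨i, hi⟩
    obtain ⟨j, hj⟩ : ∃ j, j ≠ i := by
      haveI : Nontrivial (Fin s) := Fin.nontrivial_iff_two_le.2 (by omega)
      exact exists_ne i
    have h := D.off_one j i
    rw [hi, trivialChar_apply] at h
    exact hj (D.inj ((eq_trivialChar_of_degree_one hG _ h).trans hi.symm))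
  have hz1 : z (trivialChar G) = 1 := by
    have := hz _ htriv x hx
    rw [trivialChar_apply] at this
    exact_mod_cast this.symm
  have hrest : 1 + ∑ χ ∈ (Sᶜ).erase (trivialChar G), z χ ^ 2 = ∑ χ ∈ Sᶜ, z χ ^ 2 := by
    rw [← Finset.add_sum_erase _ _ (Finset.mem_compl.2 htriv), hz1]; norm_num
  have hnn : 0 ≤ ∑ χ ∈ (Sᶜ).erase (trivialChar G), z χ ^ 2 :=
    Finset.sum_nonneg fun χ _ => sq_nonneg _
  have hδ : D.δ = 0 := by
    by_contra hδ
    have hd : 1 ≤ D.δ ^ 2 := by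
      rcases lt_or_gt_of_ne hδ with h | h <;> nlinarith
    have hes' : (e : ℤ) + 1 ≤ s := by exact_mod_cast hes
    have hs3' : (3 : ℤ) ≤ s := by exact_mod_cast hs3
    -- only `ε δ = 1` with vanishing remainder survives, and then the degree relation fails
    have h2 : D.ε * D.δ ≤ D.δ ^ 2 := by
      rcases D.ε_eq with h | h <;> rcases lt_or_gt_of_ne hδ with h' | h' <;> rw [h] <;> nlinarith
    have hd1 : D.δ ^ 2 = 1 := by
      by_contra h
      have : 2 ≤ D.δ ^ 2 := by omega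
      nlinarith
    have hεδ : D.ε * D.δ = 1 := by
      rcases sq_eq_one_iff.1 hd1 with h | h <;> rcases D.ε_eq with h' | h' <;> rw [h, h'] <;>
        first | (norm_num; done) | (exfalso; rw [h, h'] at hsqZ; nlinarith)
    have hzero : ∑ χ ∈ (Sᶜ).erase (trivialChar G), z χ ^ 2 = 0 := by nlinarith
    have hz0 : ∀ χ ∈ (Sᶜ).erase (trivialChar G), z χ = 0 := fun χ hχ =>
      pow_eq_zero_iff (n := 2) (by norm_num) |>.1
        ((Finset.sum_eq_zero_iff_of_nonneg fun χ _ => sq_nonneg (z χ)).1 hzero χ hχ)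
    have hcol := sum_irr_degree_mul (G := G) (x : G)
    rw [if_neg hxG, ← Finset.sum_add_sum_compl S,
      ← Finset.add_sum_erase _ _ (Finset.mem_compl.2 htriv), trivialChar_apply, trivialChar_apply,
      Finset.sum_eq_zero (s := (Sᶜ).erase (trivialChar G)) (fun χ hχ => by
        rw [hz χ (Finset.mem_compl.1 (Finset.mem_of_mem_erase hχ)) x hx, hz0 χ hχ]; simp),
      hS, Finset.sum_image (fun a _ b _ h => D.inj h)] at hcol
    let i₀ : Fin s := ⟨0, by omega⟩
    simp only [fun i => D.off_one i i₀, D.value _ x hx, mul_add, Finset.sum_add_distrib,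
      ← Finset.mul_sum, D.sum_P x hx, Finset.sum_const, Finset.card_univ, Fintype.card_fin,
      nsmul_eq_mul, apply_one_eq_degree] at hcol
    have hd : (D.δ : ℂ) = D.ε := by
      exact_mod_cast (show D.δ = D.ε by
        rcases D.ε_eq with h | h <;> rw [h] at hεδ ⊢ <;> linarith)
    rw [hd] at hcol
    have hcolZ : (degree (D.θ i₀) : ℤ) * D.ε * ((s : ℤ) - 1) = -1 := by
      have h : (((degree (D.θ i₀) : ℤ) * D.ε * ((s : ℤ) - 1) : ℤ) : ℂ) = ((-1 : ℤ) : ℂ) := by
        push_cast; linear_combination hcol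
      exact_mod_cast h
    have : ((s : ℤ) - 1) ∣ 1 := ⟨-((degree (D.θ i₀) : ℤ) * D.ε), by linarith⟩
    have := Int.le_of_dvd one_pos this
    omega
  -- the non-exceptional characters not vanishing on `A`
  set T := ((Sᶜ).erase (trivialChar G)).filter (fun χ => z χ ≠ 0) with hT
  have hTsum : ∑ χ ∈ T, z χ ^ 2 = (e : ℤ) - 1 := by
    rw [hT, Finset.sum_filter_of_ne (p := fun χ => z χ ≠ 0) (fun χ _ h hz0 => h (by simp [hz0]))]
    rw [hδ] at hsqZ
    linarith
  have hsign : ∀ χ ∈ T, z χ = 1 ∨ z χ = -1 := by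
    intro χ hχ
    have h0 : z χ ≠ 0 := (Finset.mem_filter.1 hχ).2
    have hle : z χ ^ 2 ≤ (e : ℤ) - 1 := by
      rw [← hTsum]
      exact Finset.single_le_sum (f := fun χ => z χ ^ 2) (fun χ _ => sq_nonneg _) hχ
    have he4' : (e : ℤ) ≤ 4 := by exact_mod_cast he4
    have h1 : z χ ≤ 1 := by nlinarith
    have h2 : -1 ≤ z χ := by nlinarith
    omega
  have hTcard : T.card + 1 = e := by
    have : ∑ χ ∈ T, z χ ^ 2 = T.card := by
      rw [Finset.sum_congr rfl fun χ hχ => show z χ ^ 2 = 1 by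
        rcases hsign χ hχ with h | h <;> rw [h] <;> norm_num]
      simp
    omega
  refine ⟨D, T, z, hδ, hTcard, fun χ hχ => ?_, fun χ hχ => hz χ (by rwa [hmemS]), by rwa [← hmemS],
    hz1, fun χ h1 h2 h3 => ?_⟩
  · have h1 := Finset.mem_erase.1 (Finset.mem_filter.1 hχ).1
    exact ⟨h1.1, fun h => Finset.mem_compl.1 h1.2 ((hmemS χ).2 h), hsign χ hχ⟩
  · by_contra h
    exact h3 (Finset.mem_filter.2 ⟨Finset.mem_erase.2 ⟨h2, Finset.mem_compl.2 fun h' =>
      h1 ((hmemS χ).1 h')⟩, h⟩)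

/-- A column sum at a non-trivial element of `A` only sees the principal block. -/
theorem block_sum [Fintype G] {p e s : ℕ} [hp : Fact p.Prime] {A : Subgroup G}
    {D : ExceptionalData A e s} {T : Finset (IrrCharacter G)} {z : IrrCharacter G → ℤ}
    (hδ : D.δ = 0) (hT : ∀ χ ∈ T, χ ≠ trivialChar G ∧ χ ∉ Set.range D.θ ∧ (z χ = 1 ∨ z χ = -1))
    (hz : ∀ χ, χ ∉ Set.range D.θ → ∀ y : A, y ≠ 1 → χ.1 (y : G) = z χ)
    (htriv : trivialChar G ∉ Set.range D.θ)
    (hrest : ∀ χ, χ ∉ Set.range D.θ → χ ≠ trivialChar G → χ ∉ T → z χ = 0)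
    (F : IrrCharacter G → ℂ) (i₀ : Fin s) (hF : ∀ i, F (D.θ i) = F (D.θ i₀)) {y : A} (hy : y ≠ 1) :
    ∑ χ, F χ * χ.1 (y : G) =
      F (trivialChar G) + ∑ χ ∈ T, (z χ : ℂ) * F χ - (D.ε : ℂ) * F (D.θ i₀) := by
  classical
  set S : Finset (IrrCharacter G) := Finset.univ.image D.θ with hS
  have hmemS : ∀ χ, χ ∈ S ↔ χ ∈ Set.range D.θ := fun χ => by simp [hS]
  have hsub : T ⊆ (Sᶜ).erase (trivialChar G) := fun χ hχ =>
    Finset.mem_erase.2 ⟨(hT χ hχ).1, Finset.mem_compl.2 fun h => (hT χ hχ).2.1 ((hmemS χ).1 h)⟩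
  rw [← Finset.sum_add_sum_compl S,
    ← Finset.add_sum_erase _ _ (Finset.mem_compl.2 (mt (hmemS _).1 htriv)), trivialChar_apply,
    ← Finset.sum_subset hsub (fun χ hχ hχT => by
      have h1 := Finset.mem_erase.1 hχ
      have h2 : χ ∉ Set.range D.θ := fun h => Finset.mem_compl.1 h1.2 ((hmemS χ).2 h)
      rw [hz χ h2 y hy, hrest χ h2 h1.1 hχT]; simp),
    hS, Finset.sum_image (fun a _ b _ h => D.inj h)]
  have h1 : ∑ i, F (D.θ i) * (D.θ i).1 (y : G) = -((D.ε : ℂ) * F (D.θ i₀)) := by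
    rw [Finset.sum_congr rfl fun i _ => show F (D.θ i) * (D.θ i).1 (y : G) =
        (D.ε : ℂ) * F (D.θ i₀) * D.P i y by
          rw [hF i, D.value i y hy, hδ]; push_cast; ring,
      ← Finset.mul_sum, D.sum_P y hy]
    ring
  rw [h1, Finset.sum_congr rfl (s₁ := T) fun χ hχ => show F χ * χ.1 (y : G) = (z χ : ℂ) * F χ by
    rw [hz χ (hT χ hχ).2.1 y hy]; ring]
  ring

theorem exists_degrees (hG : ¬ IsMulCommutative G) {p e s : ℕ} [hp : Fact p.Prime] {A : Subgroup G}
    (hA : IsSelfCent A) (hcard : Nat.card A = p)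
    (he : (A.subgroupOf (Subgroup.normalizer (A : Set G))).index = e)
    (hs : s * e = p - 1) (hes : e + 1 ≤ s) (hs3 : 3 ≤ s) (he4 : e ≤ 4) :
    ∃ Z : Fin (e - 1) → ℤ,
      (∀ i, (Z i).natAbs ∣ Nat.card G ∧ 2 ≤ (Z i).natAbs ∧ (p : ℤ) ∣ Z i - 1) ∧
        (1 + ∑ i, Z i).natAbs ∣ Nat.card G ∧ (p : ℤ) ∣ 1 + ∑ i, Z i - e := by
  classical
  haveI := Fintype.ofFinite G
  obtain ⟨D, T, z, hδ, hTcard', hT, hz, htriv, -, hrest⟩ :=
    exists_block hG hA hcard he hs hes hs3 he4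
  obtain ⟨x, hx⟩ : ∃ x : A, x ≠ 1 := by
    haveI : Nontrivial A := Finite.one_lt_card_iff_nontrivial.1 (hcard ▸ hp.out.one_lt)
    exact exists_ne 1
  have hxG : (x : G) ≠ 1 := fun h => hx (Subtype.ext h)
  have hTcard : T.card = e - 1 := by omega
  let ι := (T.equivFin.trans (finCongr hTcard)).symm
  refine ⟨fun i => z (ι i).1 * (degree (ι i).1 : ℤ), fun i => ?_, ?_⟩
  · obtain ⟨hne, hnr, hsgn⟩ := hT _ (ι i).2
    have habs : (z (ι i).1 * (degree (ι i).1 : ℤ)).natAbs = degree (ι i).1 := by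
      rcases hsgn with h | h <;> simp [h]
    rw [habs]
    refine ⟨degree_dvd_natCard _, ?_, ?_⟩
    · have := degree_pos (ι i).1
      by_contra hc
      exact hne (eq_trivialChar_of_degree_one hG _ (by
        rw [apply_one_eq_degree, show degree (ι i).1 = 1 by omega, Nat.cast_one]))
    · obtain ⟨k, hk⟩ := IsCharacter.exists_nat_classInner
        (IsCharacter.restrict (irr_isCharacter (ι i).1) A) (irr_isCharacter (trivialChar A))
      simp only [classInner, trivialChar_apply, map_one, mul_one, hcard] at hk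
      rw [sum_over_nontrivial (fun y : A => (ι i).1.1 (y : G)) (z (ι i).1)
        (fun y hy => hz _ hnr y hy), Subgroup.coe_one,
        apply_one_eq_degree, ← Nat.card_eq_fintype_card, hcard,
        inv_mul_eq_iff_eq_mul₀ (Nat.cast_ne_zero.2 hp.out.ne_zero)] at hk
      have hkZ : (degree (ι i).1 : ℤ) + ((p : ℤ) - 1) * z (ι i).1 = (p : ℤ) * k := by
        exact_mod_cast hk
      refine ⟨z (ι i).1 * (k - z (ι i).1), ?_⟩
      show z (ι i).1 * (degree (ι i).1 : ℤ) - 1 = _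
      rcases hsgn with h | h <;> rw [h] at hkZ ⊢
      · linear_combination hkZ
      · linear_combination -hkZ
  · -- the degree relation
    let i₀ : Fin s := ⟨0, by omega⟩
    have hcol := block_sum (p := p) hδ hT hz htriv hrest (fun χ => χ.1 1) i₀
      (fun i => D.off_one i i₀) hx
    rw [sum_irr_degree_mul, if_neg hxG] at hcol
    have hB : (1 + ∑ i, z (ι i).1 * (degree (ι i).1 : ℤ)) = D.ε * (degree (D.θ i₀) : ℤ) := by
      rw [Equiv.sum_comp ι (fun χ : T => z χ.1 * (degree χ.1 : ℤ)),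
        Finset.sum_coe_sort T (fun χ => z χ * (degree χ : ℤ))]
      simp only [trivialChar_apply, apply_one_eq_degree] at hcol
      have h : (((1 + ∑ χ ∈ T, z χ * (degree χ : ℤ)) : ℤ) : ℂ) =
          ((D.ε * (degree (D.θ i₀) : ℤ) : ℤ) : ℂ) := by
        push_cast; linear_combination -hcol
      exact_mod_cast h
    rw [hB]
    refine ⟨?_, ?_⟩
    · rcases D.ε_eq with h | h <;> rw [h] <;> simpa using degree_dvd_natCard (D.θ i₀)
    · obtain ⟨k, hk⟩ := IsCharacter.exists_nat_classInner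
        (IsCharacter.restrict (irr_isCharacter (D.θ i₀)) A) (irr_isCharacter (trivialChar A))
      simp only [classInner, trivialChar_apply, map_one, mul_one, hcard] at hk
      rw [← Finset.add_sum_erase Finset.univ _ (Finset.mem_univ (1 : A)),
        Finset.sum_congr rfl (fun y hy => show (D.θ i₀).1 ((y : A) : G) = (D.ε : ℂ) * D.P i₀ y by
          rw [D.value i₀ y (Finset.ne_of_mem_erase hy), hδ]; push_cast; ring),
        ← Finset.mul_sum, D.sum_P_row i₀ _ (fun y => by simp), Subgroup.coe_one,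
        apply_one_eq_degree, inv_mul_eq_iff_eq_mul₀ (Nat.cast_ne_zero.2 hp.out.ne_zero)] at hk
      have hkZ : (degree (D.θ i₀) : ℤ) - D.ε * e = (p : ℤ) * k := by
        have h : (((degree (D.θ i₀) : ℤ) - D.ε * e : ℤ) : ℂ) = (((p : ℤ) * k : ℤ) : ℂ) := by
          push_cast; linear_combination hk
        exact_mod_cast h
      refine ⟨D.ε * k, ?_⟩
      rcases D.ε_eq with h | h <;> rw [h] at hkZ ⊢
      · linear_combination hkZ
      · linear_combination -hkZ

/-- Class multiplication: the number of `y` with `u (y u y⁻¹)` conjugate to `x`, for an involution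
`u` inverting a self-centralising element `x` of odd order with `[N:⟨x⟩] = 2`. -/
theorem card_inverting_pairs {p : ℕ} [hp : Fact p.Prime] (hp2 : p ≠ 2)
    {A : Subgroup G} (hA : IsSelfCent A) (hcard : Nat.card A = p) {x u : G} (hx : x ∈ A)
    (hx1 : x ≠ 1) (hu2 : u * u = 1) (hinv : u * x * u⁻¹ = x⁻¹) :
    Nat.card {y : G // IsConj (u * (y * u * y⁻¹)) x} =
      Nat.card (Subgroup.centralizer ({u} : Set G)) ^ 2 := by
  classical
  haveI := Fintype.ofFinite G
  set C := Subgroup.centralizer ({u} : Set G)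
  have huinv : u⁻¹ = u := inv_eq_of_mul_eq_one_right hu2
  have hgen : Subgroup.zpowers x = A := by
    refine Subgroup.eq_of_le_of_card_ge (Subgroup.zpowers_le.2 hx) ?_
    rw [Nat.card_zpowers, hcard]
    rcases hp.out.eq_one_or_self_of_dvd _
      ((Subgroup.orderOf_dvd_natCard _ hx).trans hcard.dvd : orderOf x ∣ p) with h | h
    · exact absurd (orderOf_eq_one_iff.1 h) hx1
    · exact h.ge
  have hinvA : ∀ a ∈ A, u * a * u⁻¹ = a⁻¹ := by
    intro a ha
    rw [← hgen] at ha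
    obtain ⟨m, rfl⟩ := Subgroup.mem_zpowers_iff.1 ha
    rw [← conj_zpow, hinv, inv_zpow]
  have hsq : ∀ a ∈ A, ∃ b ∈ A, b * b = a := by
    intro a ha
    refine ⟨a ^ ((p + 1) / 2), pow_mem ha _, ?_⟩
    have hap : a ^ p = 1 := by
      have h1 : (⟨a, ha⟩ : A) ^ Nat.card A = 1 := pow_card_eq_one'
      rw [hcard] at h1
      exact congrArg Subtype.val h1
    have hodd : p % 2 = 1 := (hp.out.eq_two_or_odd).resolve_left hp2
    rw [← pow_add, show (p + 1) / 2 + (p + 1) / 2 = p + 1 by omega, pow_succ, hap, one_mul]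
  have huniq : ∀ a ∈ A, a * u = u * a → a = 1 := by
    intro a ha h
    have h1 : a⁻¹ = a := by
      rw [← hinvA a ha, ← h, mul_inv_cancel_right]
    by_contra ha1
    have h2 : orderOf a = p := by
      rcases hp.out.eq_one_or_self_of_dvd _
        ((Subgroup.orderOf_dvd_natCard _ ha).trans hcard.dvd : orderOf a ∣ p) with h | h
      · exact absurd (orderOf_eq_one_iff.1 h) ha1
      · exact h
    have : p ∣ 2 := h2 ▸ orderOf_dvd_of_pow_eq_one (by rw [pow_two]; nth_rw 1 [← h1]; rw [inv_mul_cancel])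
    exact hp2 ((Nat.prime_dvd_prime_iff_eq hp.out Nat.prime_two).1 this)
  -- the involutions inverting `x` are the conjugates of `u` under `A`
  have hI : ∀ i : G, i * i = 1 ∧ i * x * i⁻¹ = x⁻¹ ↔ ∃ b ∈ A, b * u * b⁻¹ = i := by
    intro i
    constructor
    · rintro ⟨hi2, hix⟩
      have hc : u⁻¹ * i ∈ A := by
        rw [← hA x hx hx1, Subgroup.mem_centralizer_singleton_iff]
        have h1 : i * x = u * x * u⁻¹ * i := by rw [hinv, ← hix, inv_mul_cancel_right]
        rw [mul_assoc, h1]; group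
      obtain ⟨b, hb, hbb⟩ := hsq _ (inv_mem hc)
      refine ⟨b, hb, ?_⟩
      have h2 : b * u = u * b⁻¹ := by
        rw [← hinvA b hb, ← mul_assoc, ← mul_assoc, hu2, one_mul, huinv]
      rw [h2, mul_assoc, ← mul_inv_rev, hbb, inv_inv, mul_inv_cancel_left]
    · rintro ⟨b, hb, rfl⟩
      refine ⟨by rw [show b * u * b⁻¹ * (b * u * b⁻¹) = b * (u * u) * b⁻¹ by group, hu2]; group, ?_⟩
      have hbx : Commute b x := hA.comm hb hx
      rw [mul_inv_rev, mul_inv_rev, inv_inv,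
        show b * u * b⁻¹ * x * (b * (u⁻¹ * b⁻¹)) = b * u * (b⁻¹ * (x * b)) * u⁻¹ * b⁻¹ by group,
        ← hbx.eq, inv_mul_cancel_left, mul_assoc b u x, mul_assoc b (u * x), hinv,
        (hbx.inv_right).eq, mul_inv_cancel_right]
  -- two descriptions of the triples
  let X : Type _ := {w : G × G // w.1 * x * w.1⁻¹ = u * (w.2 * u * w.2⁻¹)}
  have e1 : Nat.card X = Nat.card {y : G // IsConj (u * (y * u * y⁻¹)) x} * p := by
    have hfib : ∀ y : {y : G // IsConj (u * (y * u * y⁻¹)) x},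
        Nat.card {g : G // g * x * g⁻¹ = u * (y.1 * u * y.1⁻¹)} = p := by
      rintro ⟨y, hy⟩
      obtain ⟨g₀, hg₀⟩ := isConj_iff.1 hy.symm
      rw [← hcard]
      refine Nat.card_congr
        { toFun := fun g => ⟨g₀⁻¹ * g.1, ?_⟩
          invFun := fun a => ⟨g₀ * a.1, ?_⟩
          left_inv := fun g => Subtype.ext (mul_inv_cancel_left _ _)
          right_inv := fun a => Subtype.ext (inv_mul_cancel_left _ _) }
      · refine (hA x hx hx1).le (Subgroup.mem_centralizer_singleton_iff.2 ?_)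
        have h : g.1 * x * g.1⁻¹ = g₀ * x * g₀⁻¹ := g.2.trans hg₀.symm
        calc g₀⁻¹ * g.1 * x = g₀⁻¹ * (g.1 * x * g.1⁻¹) * g.1 := by group
          _ = x * (g₀⁻¹ * g.1) := by rw [h]; group
      · have ha : Commute a.1 x := hA.comm a.2 hx
        rw [← hg₀, mul_inv_rev, show g₀ * a.1 * x * (a.1⁻¹ * g₀⁻¹) =
          g₀ * (a.1 * x * a.1⁻¹) * g₀⁻¹ by group, ha.eq, mul_inv_cancel_right]
    haveI := Fintype.ofFinite {y : G // IsConj (u * (y * u * y⁻¹)) x}
    rw [Nat.card_congr (β := Σ y : {y : G // IsConj (u * (y * u * y⁻¹)) x},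
        {g : G // g * x * g⁻¹ = u * (y.1 * u * y.1⁻¹)})
      { toFun := fun w => ⟨⟨w.1.2, (isConj_iff.2 ⟨w.1.1, w.2⟩).symm⟩, ⟨w.1.1, w.2⟩⟩
        invFun := fun w => ⟨(w.2.1, w.1.1), w.2.2⟩
        left_inv := fun w => rfl
        right_inv := fun w => rfl },
      Nat.card_sigma, Finset.sum_congr rfl fun y _ => hfib y, Finset.sum_const, Finset.card_univ,
      smul_eq_mul, ← Nat.card_eq_fintype_card]
  have e2 : Nat.card X = p * Nat.card C ^ 2 := by
    rw [← hcard, pow_two, ← Nat.card_prod, ← Nat.card_prod]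
    have hg : ∀ w : X, ∃ b ∈ A, b * u * b⁻¹ = w.1.1⁻¹ * u * w.1.1 := by
      rintro ⟨⟨g, y⟩, hw⟩
      refine (hI _).1 ⟨by rw [show g⁻¹ * u * g * (g⁻¹ * u * g) = g⁻¹ * (u * u) * g by group, hu2];
                          group, ?_⟩
      dsimp only at hw ⊢
      have h1 : u * (g * x * g⁻¹) * u⁻¹ = (g * x * g⁻¹)⁻¹ := by
        rw [hw]; simp only [mul_inv_rev, inv_inv, huinv, ← mul_assoc, hu2, one_mul]
      calc g⁻¹ * u * g * x * (g⁻¹ * u * g)⁻¹ = g⁻¹ * (u * (g * x * g⁻¹) * u⁻¹) * g := by group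
        _ = x⁻¹ := by rw [h1]; group
    choose b hbA hb using hg
    -- the conjugate of `u` attached to `b`
    have hc : ∀ a ∈ A, ∃ c ∈ A, c * u * c⁻¹ = a * u * a⁻¹ * x := by
      intro a ha
      obtain ⟨-, h1⟩ := (hI (a * u * a⁻¹)).2 ⟨a, ha, rfl⟩
      set i := a * u * a⁻¹
      have hi2 : i * i = 1 := ((hI i).2 ⟨a, ha, rfl⟩).1
      have hii : i⁻¹ = i := inv_eq_of_mul_eq_one_right hi2
      rw [hii] at h1
      refine (hI _).1 ⟨?_, ?_⟩
      · calc i * x * (i * x) = i * x * i * x := by group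
          _ = 1 := by rw [h1, inv_mul_cancel]
      · rw [mul_inv_rev, hii, ← mul_assoc, show i * x * x * x⁻¹ * i = i * x * i by group, h1]
    choose c hcA hc using hc
    refine Nat.card_congr
      { toFun := fun w => (⟨b w, hbA w⟩, ⟨w.1.1 * b w, ?_⟩,
          ⟨w.1.2⁻¹ * (w.1.1 * c (b w) (hbA w)), ?_⟩)
        invFun := fun w => ⟨(w.2.1.1 * w.1.1⁻¹,
          w.2.1.1 * w.1.1⁻¹ * c w.1.1 w.1.2 * w.2.2.1⁻¹), ?_⟩
        left_inv := ?_
        right_inv := ?_ }
    · refine Subgroup.mem_centralizer_singleton_iff.2 ?_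
      calc w.1.1 * b w * u = w.1.1 * (b w * u * (b w)⁻¹) * b w := by group
        _ = u * (w.1.1 * b w) := by rw [hb w]; group
    · refine Subgroup.mem_centralizer_singleton_iff.2 ?_
      have h1 : w.1.2 * u * w.1.2⁻¹ =
          (w.1.1 * c (b w) (hbA w)) * u * (w.1.1 * c (b w) (hbA w))⁻¹ := by
        have h2 : w.1.2 * u * w.1.2⁻¹ = u * (w.1.1 * x * w.1.1⁻¹) := by
          rw [w.2, ← mul_assoc, hu2, one_mul]
        rw [h2, mul_inv_rev, show w.1.1 * c (b w) (hbA w) * u * ((c (b w) (hbA w))⁻¹ * w.1.1⁻¹) =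
          w.1.1 * (c (b w) (hbA w) * u * (c (b w) (hbA w))⁻¹) * w.1.1⁻¹ by group, hc, hb w]
        group
      calc w.1.2⁻¹ * (w.1.1 * c (b w) (hbA w)) * u =
          w.1.2⁻¹ * ((w.1.1 * c (b w) (hbA w)) * u * (w.1.1 * c (b w) (hbA w))⁻¹) *
            (w.1.1 * c (b w) (hbA w)) := by group
        _ = u * (w.1.2⁻¹ * (w.1.1 * c (b w) (hbA w))) := by rw [← h1]; group
    · obtain ⟨⟨a, ha⟩, ⟨c₁, hc₁⟩, ⟨c₂, hc₂⟩⟩ := w
      dsimp only
      have h1 : Commute c₁ u := Subgroup.mem_centralizer_singleton_iff.1 hc₁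
      have h2 : Commute c₂⁻¹ u := (show Commute c₂ u from
        Subgroup.mem_centralizer_singleton_iff.1 hc₂).inv_left
      have h3 : c₁ * a⁻¹ * c a ha * c₂⁻¹ * u * (c₁ * a⁻¹ * c a ha * c₂⁻¹)⁻¹ =
          c₁ * a⁻¹ * (c a ha * u * (c a ha)⁻¹) * (c₁ * a⁻¹)⁻¹ := by
        rw [mul_assoc (c₁ * a⁻¹ * c a ha), h2.eq]; group
      have ca : a⁻¹ * x * a = x := by
        rw [mul_assoc, ← (show Commute a x from hA.comm ha hx).eq, inv_mul_cancel_left]
      rw [h3, hc, show u * (c₁ * a⁻¹ * (a * u * a⁻¹ * x) * (c₁ * a⁻¹)⁻¹) =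
          u * c₁ * u * (a⁻¹ * x * a) * c₁⁻¹ by group,
        show c₁ * a⁻¹ * x * (c₁ * a⁻¹)⁻¹ = c₁ * (a⁻¹ * x * a) * c₁⁻¹ by group, ca, ← h1.eq,
        mul_assoc c₁ u u, hu2, mul_one]
    · rintro w
      apply Subtype.ext
      simp [mul_assoc]
    · rintro ⟨⟨a, ha⟩, ⟨c₁, hc₁⟩, ⟨c₂, hc₂⟩⟩
      dsimp only
      have hba : ∀ w : X, w.1.1 = c₁ * a⁻¹ → b w = a := by
        intro w hw
        have h := hb w
        rw [hw, mul_inv_rev, inv_inv, show a * c₁⁻¹ * u * (c₁ * a⁻¹) = a * (c₁⁻¹ * (u * c₁)) * a⁻¹ by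
          group, ← (show Commute c₁ u from Subgroup.mem_centralizer_singleton_iff.1 hc₁).eq,
          inv_mul_cancel_left] at h
        have h' : a⁻¹ * b w * u = u * (a⁻¹ * b w) := by
          calc a⁻¹ * b w * u = a⁻¹ * (b w * u * (b w)⁻¹) * b w := by group
            _ = u * (a⁻¹ * b w) := by rw [h]; group
        exact (inv_mul_eq_one.1 (huniq _ (mul_mem (inv_mem ha) (hbA w)) h')).symm
      have hcongr : ∀ b' hb', b' = a → c b' hb' = c a ha := by rintro b' hb' rfl; rfl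
      refine Prod.ext (Subtype.ext (hba _ rfl)) (Prod.ext (Subtype.ext ?_) (Subtype.ext ?_))
      · show c₁ * a⁻¹ * _ = c₁
        rw [hba _ rfl, inv_mul_cancel_right]
      · show (c₁ * a⁻¹ * c a ha * c₂⁻¹)⁻¹ * (c₁ * a⁻¹ * _) = c₂
        rw [hcongr _ _ (hba _ rfl)]
        group
  exact Nat.eq_of_mul_eq_mul_left hp.out.pos (by rw [← e2, e1, mul_comm])

/-- `e = 2`: the signed degree `Z` of the principal block satisfies `|G| / p * Z (Z + 1)` square. -/
theorem exists_square (hG : ¬ IsMulCommutative G) {p s m : ℕ} [hp : Fact p.Prime] {A : Subgroup G}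
    (hA : IsSelfCent A) (hcard : Nat.card A = p)
    (he : (A.subgroupOf (Subgroup.normalizer (A : Set G))).index = 2)
    (hs : s * 2 = p - 1) (hs3 : 3 ≤ s) (hn : Nat.card G = p * m) :
    ∃ Z : ℤ, Z.natAbs ∣ Nat.card G ∧ 2 ≤ Z.natAbs ∧ (p : ℤ) ∣ Z - 1 ∧
      (Z + 1).natAbs ∣ Nat.card G ∧ IsSquare ((m : ℤ) * (Z * (Z + 1))) := by
  classical
  haveI := Fintype.ofFinite G
  have hp2 : p ≠ 2 := by omega
  obtain ⟨D, T, z, hδ, hTcard, hT, hz, htriv, -, hrest⟩ :=
    exists_block hG hA hcard he hs (by omega) hs3 (by norm_num)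
  obtain ⟨x', hx'⟩ : ∃ x : A, x ≠ 1 := by
    haveI : Nontrivial A := Finite.one_lt_card_iff_nontrivial.1 (hcard ▸ hp.out.one_lt)
    exact exists_ne 1
  obtain ⟨χ, rfl⟩ := Finset.card_eq_one.1 (show T.card = 1 by omega)
  obtain ⟨hχ1, hχr, hsgn⟩ := hT χ (Finset.mem_singleton_self χ)
  let i₀ : Fin s := ⟨0, by omega⟩
  -- the inverting involution
  set N := Subgroup.normalizer (A : Set G)
  have hN : Nat.card N = 2 * p := by
    rw [card_normalizer hA, he, hcard, mul_comm]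
  haveI : Fact (Nat.Prime 2) := ⟨Nat.prime_two⟩
  obtain ⟨u', hu'⟩ := exists_prime_orderOf_dvd_card' (G := N) 2 (hN ▸ dvd_mul_right 2 p)
  set u : G := (u' : G)
  have hu2 : u * u = 1 := by
    have h := pow_orderOf_eq_one u'
    rw [hu', pow_two] at h
    exact congrArg Subtype.val h
  have hu1 : u ≠ 1 := fun h => by
    rw [show u' = 1 from Subtype.ext h, orderOf_one] at hu'; norm_num at hu'
  have huA : ∀ g : G, g⁻¹ * u * g ∉ A := by
    intro g hg
    have h1 : (g⁻¹ * u * g) ^ 2 = 1 := by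
      rw [pow_two, show g⁻¹ * u * g * (g⁻¹ * u * g) = g⁻¹ * (u * u) * g by group, hu2]; group
    have h2 : orderOf (g⁻¹ * u * g) ∣ p :=
      (Subgroup.orderOf_dvd_natCard _ hg).trans hcard.dvd
    have h3 := orderOf_dvd_of_pow_eq_one h1
    have h4 := orderOf_eq_one_iff.1 (Nat.eq_one_of_dvd_coprimes
      ((Nat.coprime_primes hp.out Nat.prime_two).2 hp2) h2 h3)
    rw [mul_assoc, inv_mul_eq_one] at h4
    exact hu1 (mul_eq_right.1 h4.symm)
  set x : G := (x' : G)
  have hxG : x ≠ 1 := fun h => hx' (Subtype.ext h)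
  have hinv : u * x * u⁻¹ = x⁻¹ := by
    have hy : u * x * u⁻¹ ∈ A := (Subgroup.mem_normalizer_iff.1 u'.2 x).1 x'.2
    set y := u * x * u⁻¹ with hydef
    have huy : u * y * u⁻¹ = x := by
      rw [hydef, show u * (u * x * u⁻¹) * u⁻¹ = (u * u) * x * (u * u)⁻¹ by group, hu2]; group
    -- `u` fixes `x y`, and only `1` in `A` is fixed
    have hxy : Commute (x * y) u := by
      have h : u * (x * y) * u⁻¹ = x * y := by
        rw [show u * (x * y) * u⁻¹ = (u * x * u⁻¹) * (u * y * u⁻¹) by group, huy, ← hydef,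
          hA.comm hy x'.2]
      exact (mul_inv_eq_iff_eq_mul.1 h).symm
    by_contra hne
    have hne' : x * y ≠ 1 := fun h => hne (eq_inv_of_mul_eq_one_right h)
    have := (hA (x * y) (mul_mem x'.2 hy) hne').le
      (Subgroup.mem_centralizer_singleton_iff.2 hxy.eq.symm)
    exact huA 1 (by simpa using this)
  -- column `u` against column `x`
  have hcolu := block_sum (p := p) hδ hT hz htriv hrest (fun ψ => ψ.1 u) i₀
    (fun i => D.off i i₀ u huA) (y := x'⁻¹) (inv_ne_one.2 hx')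
  have hinvval : ∀ ψ : IrrCharacter G, ψ.1 ((x'⁻¹ : A) : G) = conj (ψ.1 x) := fun ψ => by
    rw [Subgroup.coe_inv]
    exact (IsCharacter.conj_apply (irr_isCharacter ψ) _).symm
  have hnc : ¬ IsConj u x := fun h => by
    obtain ⟨g, hg⟩ := isConj_iff.1 h.symm
    apply huA g
    rw [← hg, show g⁻¹ * (g * x * g⁻¹) * g = x by group]
    exact x'.2
  rw [Finset.sum_congr rfl fun ψ _ => show ψ.1 u * ψ.1 ((x'⁻¹ : A) : G) = ψ.1 u * conj (ψ.1 x) by
    rw [hinvval], sum_irr_mul_conj, if_neg hnc, Finset.sum_singleton, trivialChar_apply] at hcolu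
  -- class multiplication at `x`
  have hcls := block_sum (p := p) hδ hT hz htriv hrest (fun ψ => ψ.1 u * ψ.1 u / ψ.1 1) i₀
    (fun i => by rw [D.off i i₀ u huA, D.off_one i i₀]) (y := x'⁻¹) (inv_ne_one.2 hx')
  set c := Nat.card (Subgroup.centralizer ({u} : Set G)) with hc
  have hsum : (Nat.card G : ℂ) * ∑ ψ : IrrCharacter G, ψ.1 u * ψ.1 u / ψ.1 1 *
      ψ.1 ((x'⁻¹ : A) : G) = ((c ^ 2 * p : ℕ) : ℂ) := by
    rw [hc, ← card_inverting_pairs hp2 hA hcard x'.2 hxG hu2 hinv, Finset.mul_sum,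
      Finset.sum_congr rfl fun ψ _ => show (Nat.card G : ℂ) * (ψ.1 u * ψ.1 u / ψ.1 1 *
        ψ.1 ((x'⁻¹ : A) : G)) = ∑ y : G, ψ.1 (u * (y * u * y⁻¹)) * conj (ψ.1 x) by
          rw [← Finset.sum_mul, BlockCount.mul_eq_sum_conj ψ.2, hinvval]; ring,
      Finset.sum_comm, Finset.sum_congr rfl fun y _ => sum_irr_mul_conj (u * (y * u * y⁻¹)) x,
      hA x x'.2 hxG, hcard]
    simp [Finset.sum_ite, Fintype.card_subtype, Nat.card_eq_fintype_card, x]
  rw [hcls, Finset.sum_singleton, trivialChar_apply, trivialChar_apply] at hsum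
  have hdeg := block_sum (p := p) hδ hT hz htriv hrest (fun ψ => ψ.1 1) i₀
    (fun i => D.off_one i i₀) hx'
  rw [sum_irr_degree_mul, if_neg hxG, Finset.sum_singleton, trivialChar_apply] at hdeg
  simp only [apply_one_eq_degree] at hdeg hsum
  obtain ⟨a, ha⟩ : ∃ a : ℤ, χ.1 u = a := by
    obtain ⟨n, μ, h1, hμ, hval⟩ := CharInt.exists_roots (irr_isCharacter χ) u
    have hv := hval 1
    simp only [pow_one] at hv
    have hord : orderOf u = 2 := orderOf_eq_prime (by rw [pow_two]; exact hu2) hu1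
    have hpm : ∀ i, ∃ k : ℤ, μ i = k := fun i => by
      rcases (by simpa [hord] using hμ i : μ i = 1 ∨ μ i = -1) with h | h
      · exact ⟨1, by rw [h]; simp⟩
      · exact ⟨-1, by rw [h]; simp⟩
    choose k hk using hpm
    exact ⟨∑ i, k i, by rw [hv, Int.cast_sum]; exact Finset.sum_congr rfl fun i _ => hk i⟩
  rw [ha] at hcolu hsum
  set d := degree χ
  set f := degree (D.θ i₀)
  obtain ⟨Z', hZ', hB, -⟩ := exists_degrees hG hA hcard he hs (by omega) hs3 (by norm_num)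
  have hd0 : (d : ℂ) ≠ 0 := Nat.cast_ne_zero.2 (degree_pos χ).ne'
  have hf0 : (f : ℂ) ≠ 0 := Nat.cast_ne_zero.2 (degree_pos _).ne'
  have hε2 : (D.ε : ℂ) * D.ε = 1 := by rcases D.ε_eq with h | h <;> simp [h]
  have hz2 : (z χ : ℂ) * z χ = 1 := by rcases hsgn with h | h <;> simp [h]
  set Z : ℤ := z χ * d
  have hfZ : D.ε * (f : ℤ) = 1 + Z := by
    have h : ((D.ε * (f : ℤ) : ℤ) : ℂ) = ((1 + Z : ℤ) : ℂ) := by
      push_cast [Z]; linear_combination hdeg
    exact_mod_cast h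
  set b : ℂ := (D.θ i₀).1 u
  have hb : (D.ε : ℂ) * b = 1 + z χ * a := by linear_combination hcolu
  have hb' : b = D.ε * (1 + z χ * a) := by rw [← hb, ← mul_assoc, hε2, one_mul]
  rw [hb'] at hsum
  -- clear denominators
  have key : ((c ^ 2 * p : ℕ) : ℂ) * ((Z : ℂ) * ((Z : ℂ) + 1)) =
      (Nat.card G : ℂ) * ((Z : ℂ) - z χ * a) ^ 2 := by
    have hfC : (D.ε : ℂ) * f = 1 + Z := by exact_mod_cast hfZ
    have e1 : (Z : ℂ) = z χ * d := by simp [Z]
    have e2 : (Z : ℂ) + 1 = D.ε * f := by rw [hfC]; ring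
    rw [e2, e1]
    have hP : (a : ℂ) * a / d * d = a * a := div_mul_cancel₀ _ hd0
    have hR : (D.ε : ℂ) * (1 + z χ * a) * (D.ε * (1 + z χ * a)) / f * f =
        D.ε * (1 + z χ * a) * (D.ε * (1 + z χ * a)) := div_mul_cancel₀ _ hf0
    have hF : (D.ε : ℂ) * f - (1 + z χ * d) = 0 := by rw [hfC, e1]; ring
    linear_combination (-(z χ : ℂ) * d * D.ε * f) * hsum
      + ((Nat.card G : ℂ) * z χ * z χ * D.ε * f) * hP
      - ((Nat.card G : ℂ) * D.ε * D.ε * z χ * d) * hR
      + ((Nat.card G : ℂ) * (z χ * d + z χ * z χ * a * a)) * hF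
      - ((Nat.card G : ℂ) * z χ * d * (1 + z χ * a) ^ 2 * (D.ε * D.ε + 1)) * hε2
  refine ⟨Z, ?_, ?_, ?_, ?_, ?_⟩
  · have : Z.natAbs = d := by rcases hsgn with h | h <;> simp [Z, h]
    rw [this]; exact degree_dvd_natCard χ
  · have hle : 2 ≤ d := by
      have := degree_pos χ
      by_contra hc
      exact hχ1 (eq_trivialChar_of_degree_one hG _ (by
        rw [apply_one_eq_degree, show degree χ = 1 by omega, Nat.cast_one]))
    rcases hsgn with h | h <;> simp [Z, h] <;> omega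
  · obtain ⟨k, hk⟩ := IsCharacter.exists_nat_classInner
      (IsCharacter.restrict (irr_isCharacter χ) A) (irr_isCharacter (trivialChar A))
    simp only [classInner, trivialChar_apply, map_one, mul_one, hcard] at hk
    rw [sum_over_nontrivial (fun y : A => χ.1 (y : G)) (z χ) (fun y hy => hz _ hχr y hy),
      Subgroup.coe_one, apply_one_eq_degree, ← Nat.card_eq_fintype_card, hcard,
      inv_mul_eq_iff_eq_mul₀ (Nat.cast_ne_zero.2 hp.out.ne_zero)] at hk
    have hkZ : (d : ℤ) + ((p : ℤ) - 1) * z χ = (p : ℤ) * k := by exact_mod_cast hk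
    refine ⟨z χ * (k - z χ), ?_⟩
    show z χ * (d : ℤ) - 1 = _
    rcases hsgn with h | h <;> rw [h] at hkZ ⊢
    · linear_combination hkZ
    · linear_combination -hkZ
  · have : (Z + 1).natAbs = f := by
      rw [add_comm, ← hfZ]
      rcases D.ε_eq with h | h <;> simp [h]
    rw [this]; exact degree_dvd_natCard _
  · have keyZ : ((c : ℤ) ^ 2) * (Z * (Z + 1)) = (m : ℤ) * (Z - z χ * a) ^ 2 := by
      have h : (((c : ℤ) ^ 2 * (p : ℤ) * (Z * (Z + 1)) : ℤ) : ℂ) =
          (((p : ℤ) * (m : ℤ) * (Z - z χ * a) ^ 2 : ℤ) : ℂ) := by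
        rw [hn] at key
        push_cast at key ⊢
        linear_combination key
      have h' : (c : ℤ) ^ 2 * (p : ℤ) * (Z * (Z + 1)) = (p : ℤ) * (m : ℤ) * (Z - z χ * a) ^ 2 := by
        exact_mod_cast h
      refine mul_left_cancel₀ (Int.natCast_ne_zero.2 hp.out.ne_zero) ?_
      linear_combination h'
    have hc0 : (c : ℤ) ≠ 0 := Int.natCast_ne_zero.2 Nat.card_pos.ne'
    have hd : (c : ℤ) ^ 2 ∣ ((m : ℤ) * (Z - z χ * a)) ^ 2 := ⟨(m : ℤ) * (Z * (Z + 1)), by
      linear_combination (-(m : ℤ)) * keyZ⟩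
    obtain ⟨r, hr⟩ := (Int.pow_dvd_pow_iff two_ne_zero).1 hd
    refine ⟨r, mul_left_cancel₀ (pow_ne_zero 2 hc0) ?_⟩
    linear_combination (m : ℤ) * keyZ + ((m : ℤ) * (Z - z χ * a) + c * r) * hr

/-- A Sylow subgroup of prime order with prime normaliser index is self-centralising. -/
theorem isSelfCent_sylow (hG : ¬ IsMulCommutative G) {p e : ℕ} [hp : Fact p.Prime] (he : e.Prime)
    (hdvd : p ∣ Nat.card G) (P : Sylow p G) (hP : Nat.card (P : Subgroup G) = p)
    (hN : Nat.card (Subgroup.normalizer ((P : Subgroup G) : Set G)) = p * e) :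
    IsSelfCent (P : Subgroup G) ∧
      ((P : Subgroup G).subgroupOf (Subgroup.normalizer ((P : Subgroup G) : Set G))).index = e := by
  set A := (P : Subgroup G)
  set N := Subgroup.normalizer (A : Set G)
  set C := Subgroup.centralizer (A : Set G)
  have hCN : C ≤ N := fun c hc => Subgroup.mem_normalizer_iff.2 fun a => by
    constructor
    · intro ha; rw [← hc a ha, mul_inv_cancel_right]; exact ha
    · intro ha
      have h2 := hc _ ha
      rw [inv_mul_cancel_right] at h2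
      rwa [(mul_left_cancel h2.symm : c * a * c⁻¹ = a)] at ha
  haveI : IsCyclic A := isCyclic_of_prime_card hP
  have hAC : A ≤ C := fun a ha b hb => by
    have := IsCyclic.isMulCommutative (α := A)
    exact congrArg Subtype.val (mul_comm' (⟨b, hb⟩ : A) ⟨a, ha⟩)
  have hC : C = A := by
    have h1 : p ∣ Nat.card C := hP ▸ Subgroup.card_dvd_of_le hAC
    have h2 : Nat.card C ∣ p * e := hN ▸ Subgroup.card_dvd_of_le hCN
    obtain ⟨k, hk⟩ := h1
    rw [hk] at h2
    rcases he.eq_one_or_self_of_dvd k (Nat.dvd_of_mul_dvd_mul_left hp.out.pos h2) with rfl | rfl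
    · exact (Subgroup.eq_of_le_of_card_ge hAC (by rw [hk, hP, mul_one])).symm
    · have : N ≤ C := (Subgroup.eq_of_le_of_card_ge hCN (by rw [hk, hN])).ge
      exact absurd (Transfer.hasNormalPComplement_of_normalizer_le_centralizer P this)
        (not_hasNormalPComplement hG hdvd)
  refine ⟨fun x hx hx1 => ?_, ?_⟩
  · have hz : Subgroup.zpowers x = A := by
      refine Subgroup.eq_of_le_of_card_ge (Subgroup.zpowers_le.2 hx) ?_
      rw [Nat.card_zpowers, hP]
      have hd : orderOf x ∣ p := hP ▸ Subgroup.orderOf_dvd_natCard A hx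
      rcases hp.out.eq_one_or_self_of_dvd _ hd with h | h
      · exact absurd (orderOf_eq_one_iff.1 h) hx1
      · exact h.ge
    rw [← hC]
    apply le_antisymm
    · intro c hc
      rw [Subgroup.mem_centralizer_iff]
      intro a ha
      rw [← hz] at ha
      obtain ⟨m, rfl⟩ := Subgroup.mem_zpowers_iff.1 ha
      exact ((show Commute c x from Subgroup.mem_centralizer_singleton_iff.1 hc).zpow_right m).eq.symm
    · exact Subgroup.centralizer_le (by simpa using hx)
  · have h1 := Subgroup.card_mul_index (A.subgroupOf N)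
    rw [Nat.card_congr (Subgroup.subgroupOfEquivOfLe (Subgroup.le_normalizer : A ≤ N)).toEquiv, hP,
      hN] at h1
    exact Nat.eq_of_mul_eq_mul_left hp.out.pos h1

/-- The number of Sylow subgroups from a finite check on divisors. -/
theorem card_sylow_of_divisors (hG : ¬ IsMulCommutative G) {p k n0 m : ℕ} [hp : Fact p.Prime]
    (hn : Nat.card G = p ^ k * m) (hk : 0 < k) (hm : ¬ p ∣ m)
    (hdiv : ∀ d ∈ m.divisors, d % p = 1 → 5 ≤ d → d = n0) : Nat.card (Sylow p G) = n0 := by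
  obtain ⟨P⟩ : Nonempty (Sylow p G) := inferInstance
  have h5 : 5 ≤ Nat.card (Sylow p G) :=
    five_le_card_sylow hG (hn ▸ dvd_mul_of_dvd_left (dvd_pow_self p hk.ne') m)
  refine hdiv _ (Nat.mem_divisors.2 ⟨?_, fun h => hm (h ▸ dvd_zero p)⟩) ?_ h5
  · have h1 := P.card_dvd_index
    have h2 := Subgroup.card_mul_index (P : Subgroup G)
    rw [card_sylow_subgroup hn hm P, hn] at h2
    rwa [Nat.eq_of_mul_eq_mul_left (pow_pos hp.out.pos k) h2] at h1
  · exact Eq.trans (card_sylow_modEq_one p G) (Nat.mod_eq_of_lt hp.out.one_lt)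

/-- No simple group with a self-centralising Sylow `p`-subgroup of normaliser order `2p` or `3p`
unless the degree equation has a solution among the candidates `C`. -/
theorem false_of_degree_check (hG : ¬ IsMulCommutative G) {p e n0 m : ℕ} [hp : Fact p.Prime]
    (he : e = 2 ∨ e = 3) (hn : Nat.card G = p * m) (hm : ¬ p ∣ m) (hpe : e * (e + 2) < p)
    (hediv : e ∣ p - 1) (hn0 : n0 * e = m)
    (hdiv : ∀ d ∈ m.divisors, d % p = 1 → 5 ≤ d → d = n0) (C : List ℤ)
    (hC : ∀ d ∈ m.divisors, 2 ≤ d → (((d : ℤ) - 1) % p = 0 → (d : ℤ) ∈ C) ∧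
      ((-(d : ℤ) - 1) % p = 0 → -(d : ℤ) ∈ C))
    (h2 : e = 2 → ∀ a ∈ C, ¬ (1 + a).natAbs ∣ p * m)
    (h3 : e = 3 → ∀ a ∈ C, ∀ b ∈ C, ¬ (1 + a + b).natAbs ∣ p * m) : False := by
  obtain ⟨P⟩ : Nonempty (Sylow p G) := inferInstance
  have hn1 : Nat.card G = p ^ 1 * m := by rw [pow_one, hn]
  have hP : Nat.card (P : Subgroup G) = p := by rw [card_sylow_subgroup hn1 hm P, pow_one]
  have hns := card_sylow_of_divisors hG hn1 one_pos hm hdiv
  have hN : Nat.card (Subgroup.normalizer ((P : Subgroup G) : Set G)) = p * e := by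
    have h := card_sylow_mul_card_normalizer P
    rw [hns, hn, ← hn0] at h
    refine Nat.eq_of_mul_eq_mul_left (Nat.pos_of_ne_zero fun h0 => ?_) (h.trans (by ring))
    rw [h0, zero_mul] at hn0
    exact hm (hn0 ▸ dvd_zero p)
  have hep : e.Prime := by rcases he with rfl | rfl <;> norm_num
  obtain ⟨hA, hidx⟩ := isSelfCent_sylow hG hep (hn ▸ dvd_mul_right p m) P hP hN
  obtain ⟨s, hs⟩ := hediv
  have hes : e + 2 ≤ s := by
    rcases he with rfl | rfl <;> omega
  obtain ⟨Z, hZ, hB, -⟩ := exists_degrees hG hA hP hidx (s := s) (by rw [hs, mul_comm]) (by omega) (by rcases he with rfl | rfl <;> omega)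
    (by rcases he with rfl | rfl <;> omega)
  have hmem : ∀ i, Z i ∈ C := by
    intro i
    obtain ⟨hdvd, h2le, hmod⟩ := hZ i
    rw [hn] at hdvd
    have hcop : (Z i).natAbs.Coprime p := by
      refine (hp.out.coprime_iff_not_dvd.2 fun h => ?_).symm
      have h' : (p : ℤ) ∣ Z i := Int.ofNat_dvd_left.2 h
      have h1 : (p : ℤ) ∣ 1 := by simpa using dvd_sub h' hmod
      exact hp.out.not_dvd_one (Int.natCast_dvd_natCast.1 (by simpa using h1))
    have hd := hC (Z i).natAbs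
      (Nat.mem_divisors.2 ⟨hcop.dvd_of_dvd_mul_left hdvd, fun h => hm (h ▸ dvd_zero p)⟩) h2le
    rcases Int.natAbs_eq (Z i) with h | h
    · rw [← h] at hd; exact hd.1 (Int.emod_eq_zero_of_dvd hmod)
    · rw [← h] at hd; exact hd.2 (Int.emod_eq_zero_of_dvd hmod)
  rw [hn] at hB
  rcases he with rfl | rfl
  · rw [show (∑ i, Z i) = Z 0 from Fin.sum_univ_one Z] at hB
    exact h2 rfl _ (hmem 0) hB
  · rw [show (∑ i, Z i) = Z 0 + Z 1 from Fin.sum_univ_two Z, ← add_assoc] at hB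
    exact h3 rfl _ (hmem 0) _ (hmem 1) hB

/-- No simple group with a self-centralising Sylow `p`-subgroup, `|N(P)| = 2p`, unless a signed
divisor `Z ≡ 1 (mod p)` with `Z + 1` dividing the order makes `m Z (Z + 1)` a square. -/
theorem false_of_square_check (hG : ¬ IsMulCommutative G) {p m : ℕ} [hp : Fact p.Prime]
    (hn : Nat.card G = p * m) (hm : ¬ p ∣ m) (hp7 : 7 ≤ p) (P : Sylow p G)
    (hN : Nat.card (Subgroup.normalizer ((P : Subgroup G) : Set G)) = p * 2)
    (hcheck : ∀ d ∈ m.divisors, 2 ≤ d →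
      ((((d : ℤ) - 1) % p = 0 ∧ ((d : ℤ) + 1).natAbs ∣ p * m →
          Nat.sqrt (m * (d * (d + 1))) * Nat.sqrt (m * (d * (d + 1))) ≠ m * (d * (d + 1))) ∧
        ((-(d : ℤ) - 1) % p = 0 ∧ (-(d : ℤ) + 1).natAbs ∣ p * m →
          Nat.sqrt (m * (d * (d - 1))) * Nat.sqrt (m * (d * (d - 1))) ≠ m * (d * (d - 1))))) :
    False := by
  have hn1 : Nat.card G = p ^ 1 * m := by rw [pow_one, hn]
  have hP : Nat.card (P : Subgroup G) = p := by rw [card_sylow_subgroup hn1 hm P, pow_one]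
  obtain ⟨hA, hidx⟩ := isSelfCent_sylow hG Nat.prime_two (hn ▸ dvd_mul_right p m) P hP hN
  obtain ⟨s, hs⟩ : 2 ∣ p - 1 := by
    rcases hp.out.eq_two_or_odd with h | h <;> omega
  obtain ⟨Z, hd, h2, hmod, hB, hsq⟩ :=
    exists_square hG hA hP hidx (s := s) (by rw [hs, mul_comm]) (by omega) hn
  rw [hn] at hd hB
  have hcop : Z.natAbs.Coprime p := by
    refine (hp.out.coprime_iff_not_dvd.2 fun h => ?_).symm
    have h' : (p : ℤ) ∣ Z := Int.ofNat_dvd_left.2 h
    have h1 : (p : ℤ) ∣ 1 := by simpa using dvd_sub h' hmod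
    exact hp.out.not_dvd_one (Int.natCast_dvd_natCast.1 (by simpa using h1))
  have hdm := hcheck Z.natAbs
    (Nat.mem_divisors.2 ⟨hcop.dvd_of_dvd_mul_left hd, fun h => hm (h ▸ dvd_zero p)⟩) h2
  obtain ⟨r, hr⟩ := hsq
  rcases Int.natAbs_eq Z with h | h
  · rw [← h] at hdm
    refine hdm.1 ⟨Int.emod_eq_zero_of_dvd hmod, hB⟩ ((Nat.exists_mul_self _).1 ⟨r.natAbs, ?_⟩)
    have hrr : ((r.natAbs * r.natAbs : ℕ) : ℤ) = r * r := by
      rw [Nat.cast_mul]; exact Int.natAbs_mul_self' r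
    rw [h] at hr
    exact_mod_cast (hrr.trans hr.symm)
  · rw [← h] at hdm
    refine hdm.2 ⟨Int.emod_eq_zero_of_dvd hmod, hB⟩ ((Nat.exists_mul_self _).1 ⟨r.natAbs, ?_⟩)
    have hrr : ((r.natAbs * r.natAbs : ℕ) : ℤ) = r * r := by
      rw [Nat.cast_mul]; exact Int.natAbs_mul_self' r
    rw [h] at hr
    have h1 : ((r.natAbs * r.natAbs : ℕ) : ℤ) = ((m * (Z.natAbs * (Z.natAbs - 1)) : ℕ) : ℤ) := by
      rw [hrr, ← hr, Nat.cast_mul, Nat.cast_mul, Nat.cast_sub (by omega), Nat.cast_one]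
      ring
    exact_mod_cast h1

end Cfsg.Agent.SmallSimple
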