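import Cfsg.Agent.Lib.SmallSimple.Tools

/-!
# The centraliser of a Sylow subgroup of odd prime order acting on its orbits

If `|P| = p` is odd and `n_p = 1 + k p`, a `p'`-subgroup of `C(P)` embeds in the alternating group
on the `k` non-trivial `P`-orbits.
-/

set_option autoImplicit false
set_option linter.style.haveILetI false
set_option linter.unusedSectionVars false

namespace Cfsg.Agent.SmallSimple

open MulAction

theorem sign_translation {P : Type*} [Group P] [Fintype P] [DecidableEq P] (hP : Odd (Fintype.card P))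
    (c : P) : Equiv.Perm.sign (Equiv.mulLeft c) = 1 := by
  have h : (Equiv.Perm.sign (Equiv.mulLeft c)) ^ Fintype.card P = 1 := by
    rw [← map_pow, Equiv.pow_mulLeft, pow_card_eq_one, Equiv.mulLeft_one]
    exact map_one _
  rcases Int.units_eq_one_or (Equiv.Perm.sign (Equiv.mulLeft c)) with h1 | h1
  · exact h1
  · rw [h1, hP.neg_one_pow] at h; exact absurd h (by decide)

section Quotient

variable {P H X : Type*} [Group P] [Group H] [MulAction P X] [MulAction H X] [SMulCommClass H P X]

/-- The action of `H` on the orbits of a commuting group `P`. -/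
def orbitMap (h : H) : Quotient (orbitRel P X) → Quotient (orbitRel P X) :=
  Quotient.map (fun x => h • x) fun a b hab => by
    obtain ⟨c, rfl⟩ := hab
    exact ⟨c, (smul_comm h c b).symm⟩

/-- The permutation representation of `H` on the orbits of a commuting group `P`. -/
def orbitPerm : H →* Equiv.Perm (Quotient (orbitRel P X)) where
  toFun h :=
    { toFun := orbitMap h
      invFun := orbitMap h⁻¹
      left_inv := Quotient.ind fun x => congrArg (Quotient.mk _) (inv_smul_smul h x)
      right_inv := Quotient.ind fun x => congrArg (Quotient.mk _) (smul_inv_smul h x) }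
  map_one' := Equiv.ext (Quotient.ind fun x => congrArg (Quotient.mk _) (one_smul H x))
  map_mul' a b := Equiv.ext (Quotient.ind fun x => congrArg (Quotient.mk _) (mul_smul a b x))

@[simp] theorem orbitPerm_mk (h : H) (x : X) :
    orbitPerm (P := P) h (Quotient.mk _ x) = Quotient.mk _ (h • x) := rfl

variable (hfree : ∀ (a : P) (x : X), a • x = x → a = 1)
include hfree

/-- A free action identifies `X` with orbits times the group. -/
theorem orbitProd_bijective :
    Function.Bijective (fun w : Quotient (orbitRel P X) × P => w.2 • w.1.out) := by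
  refine ⟨?_, fun x => ?_⟩
  · rintro ⟨ω, a⟩ ⟨ω', a'⟩ h
    have hq : ω = ω' := by
      rw [← Quotient.out_eq ω, ← Quotient.out_eq ω']
      exact Quotient.sound ⟨a⁻¹ * a', by
        show (a⁻¹ * a') • ω'.out = ω.out
        rw [mul_smul]; exact (congrArg (a⁻¹ • ·) h.symm).trans (inv_smul_smul a _)⟩
    subst hq
    refine Prod.ext rfl ?_
    have := hfree (a'⁻¹ * a) ω.out (by
      rw [mul_smul]; exact (congrArg (a'⁻¹ • ·) h).trans (inv_smul_smul a' _))
    exact (inv_mul_eq_one.1 this).symm
  · obtain ⟨a, ha⟩ := Quotient.mk_out (s := orbitRel P X) x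
    refine ⟨(Quotient.mk _ x, a⁻¹), ?_⟩
    show a⁻¹ • (Quotient.mk (orbitRel P X) x).out = x
    rw [← ha]; exact inv_smul_smul a x

theorem card_eq_orbits_mul [Finite P] [Finite X] :
    Nat.card X = Nat.card (Quotient (orbitRel P X)) * Nat.card P := by
  rw [← Nat.card_prod]
  exact (Nat.card_eq_of_bijective _ (orbitProd_bijective hfree)).symm

/-- An element commuting with a free group of odd order has the same sign on points and orbits. -/
theorem sign_orbitPerm [Fintype P] [Fintype X] [DecidableEq X] [DecidableEq P]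
    [Fintype (Quotient (orbitRel P X))] [DecidableEq (Quotient (orbitRel P X))]
    (hP : Odd (Fintype.card P)) (h : H) :
    Equiv.Perm.sign (orbitPerm (P := P) (X := X) h) = Equiv.Perm.sign (toPerm h : Equiv.Perm X) := by
  let e := Equiv.ofBijective _ (orbitProd_bijective hfree)
  have hc : ∀ ω : Quotient (orbitRel P X), ∃ c : P, h • ω.out = c • (orbitPerm (P := P) h ω).out := by
    intro ω
    have h1 : Quotient.mk (orbitRel P X) (h • ω.out) = orbitPerm (P := P) h ω := by
      conv_rhs => rw [← Quotient.out_eq ω]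
      rfl
    obtain ⟨c, hc⟩ := Quotient.exact (h1.trans (Quotient.out_eq _).symm)
    exact ⟨c, hc.symm⟩
  choose c hc using hc
  have hconj : toPerm h = e.permCongr
      ((Equiv.prodCongrLeft fun _ : P => orbitPerm (P := P) (X := X) h) *
        Equiv.prodCongrRight fun ω => (Equiv.mulRight (c ω) : Equiv.Perm P)) := by
    ext x
    obtain ⟨⟨ω, a⟩, rfl⟩ := e.surjective x
    rw [Equiv.permCongr_apply, Equiv.symm_apply_apply]
    show h • (a • ω.out) = (a * c ω) • (orbitPerm (P := P) h ω).out
    rw [smul_comm h a, hc, mul_smul]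
  have hR : ∀ d : P, Equiv.Perm.sign (Equiv.mulRight d : Equiv.Perm P) = 1 := fun d => by
    rw [show (Equiv.mulRight d : Equiv.Perm P) =
      (Equiv.inv P).permCongr (Equiv.mulLeft d⁻¹) by ext y; simp,
      Equiv.Perm.sign_permCongr, sign_translation hP]
  rw [hconj, Equiv.Perm.sign_permCongr, map_mul, Equiv.Perm.sign_prodCongrLeft,
    Equiv.Perm.sign_prodCongrRight, Finset.prod_congr rfl (fun ω _ => hR (c ω)), Finset.prod_const,
    Finset.prod_const_one, mul_one, Finset.card_univ]
  rcases Int.units_eq_one_or (Equiv.Perm.sign (orbitPerm (P := P) (X := X) h)) with h1 | h1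
  · rw [h1, one_pow]
  · rw [h1, hP.neg_one_pow]

end Quotient

variable {G : Type*} [Group G] [Finite G] [IsSimpleGroup G] {p : ℕ} [hp : Fact p.Prime]

/-- A `p'`-subgroup of the centraliser of a Sylow subgroup of prime order acts faithfully by even
permutations on the non-trivial orbits; a Sylow subgroup is fixed iff its orbit is. -/
theorem exists_centralizer_hom (hG : ¬ IsMulCommutative G) (hp2 : Odd p) (hdvd : p ∣ Nat.card G)
    (P : Sylow p G) (hP : Nat.card (P : Subgroup G) = p) {k : ℕ}
    (hn : Nat.card (Sylow p G) = 1 + k * p) (K : Subgroup G)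
    (hK : K ≤ Subgroup.centralizer ((P : Subgroup G) : Set G)) (hKp : ¬ p ∣ Nat.card K) :
    ∃ (q : {Q : Sylow p G // Q ≠ P} → Fin k) (φ : K →* alternatingGroup (Fin k)),
      Function.Injective φ ∧ Function.Surjective q ∧
      (∀ (z : K) Q, (φ z : Equiv.Perm (Fin k)) (q Q) = q Q ↔ (z : G) • Q.1 = Q.1) ∧
      ∀ Q Q', q Q = q Q' ↔ ∃ x ∈ (P : Subgroup G), x • Q.1 = Q'.1 := by
  classical
  haveI := Fintype.ofFinite G
  haveI : Finite (Sylow p G) := inferInstance
  haveI := Fintype.ofFinite (Sylow p G)
  haveI := Fintype.ofFinite (P : Subgroup G)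
  have hfixP : ∀ (z : G), z ∈ K ∨ z ∈ (P : Subgroup G) → z • P = P := by
    intro z hz
    rw [smul_sylow_eq_iff]
    rcases hz with hz | hz
    · rw [Subgroup.mem_normalizer_iff]
      intro a
      constructor
      · intro ha; rw [← hK hz a ha, mul_inv_cancel_right]; exact ha
      · intro ha
        have h2 := hK hz _ ha
        rw [inv_mul_cancel_right] at h2
        rwa [(mul_left_cancel h2.symm : z * a * z⁻¹ = a)] at ha
    · exact Subgroup.le_normalizer hz
  have hne : ∀ (z : G), z ∈ K ∨ z ∈ (P : Subgroup G) → ∀ Q : Sylow p G, Q ≠ P → z • Q ≠ P :=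
    fun z hz Q hQ h => hQ (smul_left_cancel z (h.trans (hfixP z hz).symm))
  letI actP : MulAction (P : Subgroup G) {Q : Sylow p G // Q ≠ P} :=
    { smul := fun a Q => ⟨(a : G) • Q.1, hne a (Or.inr a.2) Q.1 Q.2⟩
      one_smul := fun Q => Subtype.ext (one_smul G Q.1)
      mul_smul := fun a b Q => Subtype.ext (mul_smul (a : G) (b : G) Q.1) }
  letI actK : MulAction K {Q : Sylow p G // Q ≠ P} :=
    { smul := fun a Q => ⟨(a : G) • Q.1, hne a (Or.inl a.2) Q.1 Q.2⟩
      one_smul := fun Q => Subtype.ext (one_smul G Q.1)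
      mul_smul := fun a b Q => Subtype.ext (mul_smul (a : G) (b : G) Q.1) }
  haveI : SMulCommClass K (P : Subgroup G) {Q : Sylow p G // Q ≠ P} := ⟨fun a b Q => Subtype.ext (by
    show (a : G) • (b : G) • Q.1 = (b : G) • (a : G) • Q.1
    rw [← mul_smul, ← mul_smul, hK a.2 b b.2])⟩
  have hfree : ∀ (a : (P : Subgroup G)) (Q : {Q : Sylow p G // Q ≠ P}), a • Q = Q → a = 1 := by
    intro a Q h
    by_contra ha
    apply Q.2
    have haQ : (a : G) ∈ Q.1 := mem_of_smul_sylow_eq a.2 (congrArg Subtype.val h)
    have hz : Subgroup.zpowers (a : G) = (P : Subgroup G) := by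
      refine Subgroup.eq_of_le_of_card_ge (Subgroup.zpowers_le.2 a.2) ?_
      rw [Nat.card_zpowers, hP]
      rcases hp.out.eq_one_or_self_of_dvd _
        ((Subgroup.orderOf_dvd_natCard _ a.2).trans hP.dvd : orderOf (a : G) ∣ p) with h1 | h1
      · exact absurd (Subtype.ext (orderOf_eq_one_iff.1 h1)) ha
      · exact h1.ge
    exact Sylow.ext (P.is_maximal' Q.1.isPGroup' (hz ▸ Subgroup.zpowers_le.2 haQ))
  set Ω := Quotient (orbitRel (P : Subgroup G) {Q : Sylow p G // Q ≠ P})
  have hΩ : Nat.card Ω = k := by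
    have h1 := card_eq_orbits_mul (X := {Q : Sylow p G // Q ≠ P}) hfree
    have h2 : Nat.card {Q : Sylow p G // Q ≠ P} = k * p := by
      have := Nat.card_congr (Equiv.sumCompl (fun Q : Sylow p G => Q = P))
      rw [Nat.card_sum, hn, Nat.card_unique (α := {Q : Sylow p G // Q = P})] at this
      simpa using this
    rw [h2, hP] at h1
    exact (Nat.eq_of_mul_eq_mul_right hp.out.pos h1).symm
  haveI := Fintype.ofFinite Ω
  let e : Ω ≃ Fin k := (Finite.equivFin Ω).trans (finCongr hΩ)
  -- fixing an orbit means fixing each of its points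
  have hfix : ∀ (z : K) (Q : {Q : Sylow p G // Q ≠ P}),
      Quotient.mk (orbitRel (P : Subgroup G) {Q : Sylow p G // Q ≠ P}) (z • Q) = Quotient.mk _ Q ↔
        (z : G) • Q.1 = Q.1 := by
    intro z Q
    refine ⟨fun h => ?_, fun h => congrArg _ (Subtype.ext h)⟩
    obtain ⟨a, ha⟩ := Quotient.exact h
    have ha' : z • Q = a • Q := ha.symm
    have hiter : ∀ j : ℕ, (z ^ j) • Q = (a ^ j) • Q := by
      intro j
      induction j with
      | zero => simp
      | succ j ih => rw [pow_succ, pow_succ, mul_smul, mul_smul, ha', smul_comm, ih, ← mul_smul,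
          ← mul_smul, Commute.self_pow a j]
    have h1 := hiter (orderOf z)
    rw [pow_orderOf_eq_one, one_smul] at h1
    have h2 : a ^ orderOf z = 1 := hfree _ Q h1.symm
    have h3 : orderOf a ∣ orderOf z := orderOf_dvd_of_pow_eq_one h2
    have h4 : orderOf a = 1 := by
      rcases hp.out.eq_one_or_self_of_dvd _ ((orderOf_dvd_natCard a).trans hP.dvd : orderOf a ∣ p) with h5 | h5
      · exact h5
      · exact absurd ((h5 ▸ h3).trans (orderOf_dvd_natCard z)) hKp
    rw [orderOf_eq_one_iff.1 h4, one_smul] at ha'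
    exact congrArg Subtype.val ha'
  let ψ : K →* Equiv.Perm (Fin k) := e.permCongrHom.toMonoidHom.comp (orbitPerm (P := (P : Subgroup G)))
  have hsign : ∀ z : K, ψ z ∈ alternatingGroup (Fin k) := by
    intro z
    rw [Equiv.Perm.mem_alternatingGroup]
    show Equiv.Perm.sign (e.permCongr _) = 1
    rw [Equiv.Perm.sign_permCongr,
      sign_orbitPerm hfree (by rw [← Nat.card_eq_fintype_card, hP]; exact hp2)]
    have h := mem_alternating_of_simple hG (toPermHom G (Sylow p G)) (z : G)
    rw [Equiv.Perm.mem_alternatingGroup] at h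
    rw [← h, ← Equiv.Perm.sign_subtypePerm (toPermHom G (Sylow p G) (z : G)) (p := fun Q => Q ≠ P)
      (fun Q => ⟨fun hQ => fun hc => hQ (by rw [hc]; exact hfixP z (Or.inl z.2)),
        fun hQ => hne z (Or.inl z.2) Q hQ⟩)
      (fun Q hQ hc => hQ (by rw [hc]; exact hfixP z (Or.inl z.2)))]
    congr 1
  refine ⟨fun Q => e (Quotient.mk _ Q), ψ.codRestrict _ hsign, ?_, ?_, ?_, ?_⟩
  · rw [← MonoidHom.ker_eq_bot_iff, eq_bot_iff]
    intro z hz
    have hz' : ψ z = 1 := congrArg Subtype.val hz
    have hall : ∀ Q : Sylow p G, (z : G) • Q = Q := by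
      intro Q
      by_cases hQ : Q = P
      · rw [hQ]; exact hfixP z (Or.inl z.2)
      · refine (hfix z ⟨Q, hQ⟩).1 (e.injective ?_)
        have h := Equiv.congr_fun hz' (e (Quotient.mk _ ⟨Q, hQ⟩))
        simp [ψ, Equiv.permCongrHom, Equiv.permCongr_apply] at h
        exact congrArg e h
    have hinj : Function.Injective (toPermHom G (Sylow p G)) := by
      refine injective_of_simple _ ?_
      by_contra hc
      push_neg at hc
      have h5 := five_le_card_sylow hG hdvd
      have : Subsingleton (Sylow p G) := ⟨fun a b => by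
        obtain ⟨g, hg⟩ := MulAction.exists_smul_eq G a b
        rw [← hg]; exact (Equiv.congr_fun (hc g) a).symm⟩
      have := Finite.card_le_one_iff_subsingleton.2 this
      omega
    have h1 : (z : G) = 1 := hinj (by ext Q : 1; simpa using hall Q)
    exact Subgroup.mem_bot.2 (Subtype.ext h1)
  · exact e.surjective.comp Quotient.mk_surjective
  · intro z Q
    show e.permCongr (orbitPerm z) (e (Quotient.mk _ Q)) = e (Quotient.mk _ Q) ↔ _
    rw [Equiv.permCongr_apply, Equiv.symm_apply_apply, e.apply_eq_iff_eq]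
    exact hfix z Q
  · intro Q Q'
    rw [e.apply_eq_iff_eq, eq_comm, Quotient.eq]
    exact ⟨fun ⟨a, ha⟩ => ⟨a, a.2, congrArg Subtype.val ha⟩,
      fun ⟨x, hx, h⟩ => ⟨⟨x, hx⟩, Subtype.ext h⟩⟩

omit [IsSimpleGroup G] in
/-- An element of a Sylow subgroup of prime order fixing another Sylow subgroup is trivial. -/
theorem eq_one_of_smul_eq {P Q : Sylow p G} (hP : Nat.card (P : Subgroup G) = p) (hQ : Q ≠ P)
    {a : G} (ha : a ∈ (P : Subgroup G)) (h : a • Q = Q) : a = 1 := by
  by_contra ha1
  apply hQ
  have hz : Subgroup.zpowers a = (P : Subgroup G) := by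
    refine Subgroup.eq_of_le_of_card_ge (Subgroup.zpowers_le.2 ha) ?_
    rw [Nat.card_zpowers, hP]
    rcases hp.out.eq_one_or_self_of_dvd _
      ((Subgroup.orderOf_dvd_natCard _ ha).trans hP.dvd : orderOf a ∣ p) with h1 | h1
    · exact absurd (orderOf_eq_one_iff.1 h1) ha1
    · exact h1.ge
  exact Sylow.ext (P.is_maximal' Q.isPGroup'
    (hz ▸ Subgroup.zpowers_le.2 (mem_of_smul_sylow_eq ha h)))

omit [IsSimpleGroup G] in
theorem centralizer_le_normalizer (S : Subgroup G) :
    Subgroup.centralizer (S : Set G) ≤ Subgroup.normalizer (S : Set G) := fun z hz =>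
  Subgroup.mem_normalizer_iff.2 fun a => by
    constructor
    · intro ha; rw [← hz a ha, mul_inv_cancel_right]; exact ha
    · intro ha
      have h2 := hz _ ha
      rw [inv_mul_cancel_right] at h2
      rwa [(mul_left_cancel h2.symm : z * a * z⁻¹ = a)] at ha

omit [IsSimpleGroup G] in
/-- `|N(P)|` divides `|C(P)| (p - 1)` for `|P| = p`. -/
theorem card_normalizer_dvd (P : Sylow p G) (hP : Nat.card (P : Subgroup G) = p) :
    Nat.card (Subgroup.normalizer ((P : Subgroup G) : Set G)) ∣
      Nat.card (Subgroup.centralizer ((P : Subgroup G) : Set G)) * (p - 1) := by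
  haveI : IsCyclic (P : Subgroup G) := isCyclic_of_prime_card hP
  set f := Subgroup.normalizerMonoidHom (P : Subgroup G)
  have h1 : Nat.card (Subgroup.normalizer ((P : Subgroup G) : Set G)) =
      Nat.card f.ker * Nat.card f.range := by
    rw [← Subgroup.card_mul_index f.ker, Subgroup.index_ker]
  have h2 : Nat.card f.ker = Nat.card (Subgroup.centralizer ((P : Subgroup G) : Set G)) := by
    rw [Subgroup.normalizerMonoidHom_ker]
    exact Nat.card_congr (Subgroup.subgroupOfEquivOfLe (centralizer_le_normalizer _)).toEquiv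
  have h3 : Nat.card f.range ∣ p - 1 := by
    refine (Subgroup.card_subgroup_dvd_card _).trans ?_
    rw [IsCyclic.card_mulAut, hP, Nat.totient_prime hp.out]
  rw [h1, h2]
  exact mul_dvd_mul_left _ h3

/-- With one non-trivial orbit (or none) the centraliser is the Sylow subgroup itself. -/
theorem not_dvd_centralizer (hG : ¬ IsMulCommutative G) (hp2 : Odd p) (hdvd : p ∣ Nat.card G)
    (P : Sylow p G) (hP : Nat.card (P : Subgroup G) = p) {k : ℕ}
    (hn : Nat.card (Sylow p G) = 1 + k * p) {r n : ℕ} [hr : Fact r.Prime] (hrp : r ≠ p)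
    (hk : ¬ r ^ n ∣ Nat.card (alternatingGroup (Fin k))) :
    ¬ r ^ n ∣ Nat.card (Subgroup.centralizer ((P : Subgroup G) : Set G)) := by
  intro h
  obtain ⟨K, hK⟩ := Sylow.exists_subgroup_card_pow_prime r h
  set K' := K.map (Subgroup.centralizer ((P : Subgroup G) : Set G)).subtype
  have hK' : Nat.card K' = r ^ n := by
    rw [Subgroup.card_map_of_injective (Subgroup.subtype_injective _), hK]
  obtain ⟨q, φ, hφ, -⟩ := exists_centralizer_hom hG hp2 hdvd P hP hn K' (Subgroup.map_subtype_le _)
    (by rw [hK']; exact fun hd => hrp ((Nat.prime_dvd_prime_iff_eq hp.out hr.out).1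
      (hp.out.dvd_of_dvd_pow hd)).symm)
  exact hk (hK' ▸ Subgroup.card_dvd_of_injective φ hφ)

end Cfsg.Agent.SmallSimple
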