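import Cfsg.Agent.Lib.SmallSimple.FivePairs
import Cfsg.Agent.Lib.SmallSimple.Tools

/-!
# Simple groups with a Sylow 5-subgroup of order 5: arithmetic criteria

For `|N(P)/C(P)| = 2` the signed degree `Z` of the non-exceptional character and its signed value `w` at a
2-central involution satisfy `k n (Z - w) ^ 2 = 5 j ^ 2 c ^ 2 Z (1 + Z)`.  For `|N(P)/C(P)| = 4` the four
signed degrees and values at an involution inverting `P` satisfy a similar equation.
-/

set_option autoImplicit false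
set_option linter.style.haveILetI false
set_option linter.unusedSectionVars false

namespace Cfsg.Agent.FivePairs

open Cfsg Cfsg.Agent
open scoped Classical ComplexConjugate

universe u

variable {G : Type u} [Group G] [Fintype G]

theorem exists_value_parity {t : G} (ht : orderOf t = 2) (χ : IrrCharacter G) :
    ∃ a : ℤ, χ.1 t = a ∧ 2 ∣ (charDegree χ.1 : ℤ) - a ∧ a.natAbs ≤ charDegree χ.1 := by
  obtain ⟨n, μ, h1, hμ, hval⟩ := CharInt.exists_roots (Char.irr_isCharacter χ) t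
  have hv := hval 1
  simp only [pow_one] at hv
  have hpm : ∀ i, ∃ k : ℤ, μ i = k ∧ (k = 1 ∨ k = -1) := fun i => by
    rcases (by simpa [ht] using hμ i : μ i = 1 ∨ μ i = -1) with h | h
    · exact ⟨1, by rw [h]; simp, Or.inl rfl⟩
    · exact ⟨-1, by rw [h]; simp, Or.inr rfl⟩
  choose k hk hk' using hpm
  have hd : charDegree χ.1 = n := by
    apply Nat.cast_injective (R := ℂ)
    rw [Char.charDegree_cast, h1]
  refine ⟨∑ i, k i, by rw [hv, Int.cast_sum]; exact Finset.sum_congr rfl fun i _ => hk i, ?_, ?_⟩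
  · have h : (n : ℤ) - ∑ i, k i = ∑ i, (1 - k i) := by simp [Finset.sum_sub_distrib]
    rw [hd, h]
    exact Finset.dvd_sum fun i _ => by rcases hk' i with e | e <;> rw [e] <;> norm_num
  · have hle : |∑ i, k i| ≤ (n : ℤ) := (Finset.abs_sum_le_sum_abs _ _).trans
      (le_of_eq (by
        rw [Finset.sum_congr rfl fun i _ => show |k i| = 1 by rcases hk' i with e | e <;> rw [e] <;> norm_num]
        simp))
    rw [Int.abs_eq_natAbs] at hle
    rw [hd]
    exact_mod_cast hle

/-- An involution inverting `y` acts on the fixed space of `y`. -/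
theorem exists_restriction {y w : G} (hy : orderOf y = 5) (hw : w * w = 1) (hinv : w * y * w⁻¹ = y⁻¹)
    (χ : IrrCharacter G) {v a : ℂ} (hv : ∀ i : ℕ, ¬ 5 ∣ i → χ.1 (y ^ i) = v) (ha : χ.1 w = a) {s : ℂ}
    (hs : s = 1 ∨ s = -1) : ∃ M : ℕ, χ.1 1 + 4 * v + s * (5 * a) = 10 * M := by
  have hy5 : y ^ 5 = 1 := by rw [← hy, pow_orderOf_eq_one]
  have hwinv : w⁻¹ = w := inv_eq_of_mul_eq_one_right hw
  have hvals : ∀ i : ℕ, χ.1 (w * y ^ i) = a := fun i => by
    have h : w * y ^ i = (y ^ (2 * i)) * w * (y ^ (2 * i))⁻¹ := by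
      have hc : w * (y ^ (2 * i))⁻¹ = y ^ (2 * i) * w := by
        rw [← mul_inv_eq_iff_eq_mul, ← conj_inv, ← conj_pow, hinv, inv_pow, inv_inv]
      have hc' : y ^ (4 * i) * w = w * y ^ i := by
        have h1 : w * y ^ i * w⁻¹ = y ^ (4 * i) := by
          rw [← conj_pow, hinv, inv_pow, inv_eq_iff_mul_eq_one, ← pow_add, show i + 4 * i = 5 * i by ring,
            pow_mul, hy5, one_pow]
        rw [← h1, inv_mul_cancel_right]
      rw [← hc', mul_assoc, hc, ← mul_assoc, ← pow_add, show 2 * i + 2 * i = 4 * i by ring]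
    rw [h, ← ha]
    exact Char.IsCharacter.isClassFunction (Char.irr_isCharacter χ) w (y ^ (2 * i))
  obtain ⟨n, ρ, hρ, hχ⟩ := χ.2
  set S : Module.End ℂ (Fin n → ℂ) := ∑ i ∈ Finset.range 5, ρ (y ^ i) with hS
  have hshift : ∀ l : ℕ, ρ (y ^ l) * S = S := by
    have h1 : ρ y * S = S := by
      rw [hS, Finset.mul_sum]
      simp only [← map_mul, ← pow_succ', Finset.sum_range_succ, Finset.sum_range_zero, zero_add]
      rw [hy5]
      simp only [pow_zero, pow_one]
      abel
    intro l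
    induction l with
    | zero => simp
    | succ l ih => rw [pow_succ, map_mul, mul_assoc, h1, ih]
  have hSS : S * S = (5 : ℂ) • S := by
    nth_rewrite 1 [hS]
    rw [Finset.sum_mul, Finset.sum_congr rfl fun l _ => hshift l, Finset.sum_const, Finset.card_range]
    norm_cast
  have hwS : ρ w * S = S * ρ w := by
    have h1 : ∀ i ∈ Finset.range 5, ρ w * ρ (y ^ i) = ρ (y ^ ((5 - i) % 5)) * ρ w := fun i hi => by
      rw [← map_mul, ← map_mul]
      congr 1
      have h2 : w * y ^ i * w⁻¹ = y ^ ((5 - i) % 5) := by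
        rw [← conj_pow, hinv, inv_pow, ← pow_mod_five hy5, inv_eq_iff_mul_eq_one, ← pow_add,
          show i + (5 - i) = 5 by have := Finset.mem_range.1 hi; omega, hy5]
      rw [← h2, inv_mul_cancel_right]
    rw [hS, Finset.mul_sum, Finset.sum_mul, Finset.sum_congr rfl h1]
    simp [Finset.sum_range_succ]
    abel
  have hwwS : ρ w * (ρ w * S) = S := by rw [← mul_assoc, ← map_mul, hw, map_one, one_mul]
  set E : Module.End ℂ (Fin n → ℂ) := (10 : ℂ)⁻¹ • (S + s • (ρ w * S)) with hE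
  have hs2 : s * s = 1 := by rcases hs with h | h <;> rw [h] <;> norm_num
  have hidem : IsIdempotentElem E := by
    show E * E = E
    have h1 : (S + s • (ρ w * S)) * (S + s • (ρ w * S)) = (10 : ℂ) • (S + s • (ρ w * S)) := by
      have e1 : S * (ρ w * S) = (5 : ℂ) • (ρ w * S) := by
        rw [← mul_assoc, ← hwS, mul_assoc, hSS, mul_smul_comm]
      have e2 : (ρ w * S) * S = (5 : ℂ) • (ρ w * S) := by rw [mul_assoc, hSS, mul_smul_comm]
      have e3 : (ρ w * S) * (ρ w * S) = (5 : ℂ) • S := by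
        rw [mul_assoc, e1, mul_smul_comm, hwwS]
      rw [add_mul, mul_add, mul_add, hSS, mul_smul_comm, e1, smul_mul_assoc, e2, smul_mul_assoc,
        mul_smul_comm, e3, smul_smul s s, hs2, one_smul]
      module
    rw [hE, smul_mul_smul_comm, h1, smul_smul]
    norm_num
  have htr := LinearMap.IsProj.trace (R := ℂ) (LinearMap.isProj_range_iff_isIdempotentElem E |>.2 hidem)
  generalize Module.finrank ℂ (LinearMap.range E) = M at htr
  refine ⟨M, ?_⟩
  have htrρ : ∀ g : G, LinearMap.trace ℂ _ (ρ g) = χ.1 g := fun g => congrFun hχ g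
  rw [hE, map_smul, map_add, map_smul, hS, Finset.mul_sum, map_sum, map_sum] at htr
  simp only [← map_mul, htrρ, smul_eq_mul] at htr
  rw [Finset.sum_congr rfl (s₁ := Finset.range 5) (f := fun i => χ.1 (w * y ^ i)) fun i _ => hvals i] at htr
  simp only [Finset.sum_range_succ, Finset.sum_range_zero, zero_add, pow_zero,
    hv 1 (by norm_num), hv 2 (by norm_num), hv 3 (by norm_num), hv 4 (by norm_num)] at htr
  linear_combination (10 : ℂ) * htr

variable [IsSimpleGroup G]

theorem value_lt_degree (hG : ¬ IsMulCommutative G) {χ : IrrCharacter G} (hne : χ ≠ Char.trivialChar G) {t : G}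
    (ht : t ≠ 1) {a : ℤ} (ha : χ.1 t = a) (hle : a.natAbs ≤ charDegree χ.1) : a.natAbs < charDegree χ.1 := by
  refine lt_of_le_of_ne hle fun h => ?_
  rcases Int.natAbs_eq a with e | e <;> rw [h] at e
  · exact ht (SmallCofactor.eq_one_of_apply_eq hG hne (by rw [ha, e, ← Char.charDegree_cast]; simp))
  · exact SmallCofactor.apply_ne_neg hG hne ht (by rw [ha, e, ← Char.charDegree_cast]; simp)

/-- Basic facts about the Sylow subgroups of order 5. -/
structure Setup (G : Type u) [Group G] [Fintype G] (P : Sylow 5 G) (k e : ℕ) : Prop where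
  cardP : Nat.card (P : Subgroup G) = 5
  exp : FiveExp G e
  hsyl : ∀ H : Subgroup G, IsPGroup 5 H → Nat.card H ≤ 5
  hcentP : Nat.card (Subgroup.centralizer ((P : Subgroup G) : Set G)) = 5 * k
  hcent : ∀ y : G, orderOf y = 5 → Nat.card (Subgroup.centralizer ({y} : Set G)) = 5 * k
  hinto : ∀ y : G, orderOf y = 5 → ∃ g : G, g * y * g⁻¹ ∈ (P : Subgroup G)
  hconj : ∀ y z : G, orderOf y = 5 → orderOf z = 5 → ∃ g : G, ∀ w : G,
      w * (g * y * g⁻¹) * w⁻¹ = (g * y * g⁻¹)⁻¹ ↔ w * z * w⁻¹ = z⁻¹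

theorem orderOf_of_mem [Fact (Nat.Prime 5)] {P : Sylow 5 G} (hP : Nat.card (P : Subgroup G) = 5) {y : G}
    (hy : y ∈ (P : Subgroup G)) (hy1 : y ≠ 1) : orderOf y = 5 := by
  rcases (Nat.dvd_prime (Fact.out : (5 : ℕ).Prime)).1 (hP ▸ Subgroup.orderOf_dvd_natCard _ hy) with h | h
  · exact absurd (orderOf_eq_one_iff.1 h) hy1
  · exact h

theorem centralizer_of_mem [Fact (Nat.Prime 5)] {P : Sylow 5 G} (hP : Nat.card (P : Subgroup G) = 5) {y : G}
    (hy : y ∈ (P : Subgroup G)) (hy1 : y ≠ 1) :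
    Subgroup.centralizer ({y} : Set G) = Subgroup.centralizer ((P : Subgroup G) : Set G) := by
  rw [← Blocks.centralizer_zpowers_eq,
    Subgroup.eq_of_le_of_card_ge (Subgroup.zpowers_le.2 hy) (by
      rw [Nat.card_zpowers, orderOf_of_mem hP hy hy1, hP])]

theorem setup [Fact (Nat.Prime 5)] {n m r k : ℕ} (hn : Nat.card G = n) (hnm : n = 5 * m) (hm : ¬ 5 ∣ m)
    (hr : (m * r) % 5 = 1) (P : Sylow 5 G)
    (hk : Nat.card (Subgroup.centralizer ((P : Subgroup G) : Set G)) = 5 * k) : Setup G P k (m * r) := by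
  have hn' : Nat.card G = 5 ^ 1 * m := by rw [pow_one, hn, hnm]
  have hP : ∀ Q : Sylow 5 G, Nat.card (Q : Subgroup G) = 5 := fun Q => by
    rw [SmallSimple.card_sylow_subgroup hn' hm Q, pow_one]
  have hsyl : ∀ H : Subgroup G, IsPGroup 5 H → Nat.card H ≤ 5 := fun H hH => by
    obtain ⟨Q, hQ⟩ := hH.exists_le_sylow
    exact (Subgroup.card_le_of_le hQ).trans (hP Q).le
  have hinto : ∀ y : G, orderOf y = 5 → ∃ g : G, g * y * g⁻¹ ∈ (P : Subgroup G) := fun y hy => by
    obtain ⟨Q, hQ⟩ := IsPGroup.exists_le_sylow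
      (IsPGroup.of_card (p := 5) (n := 1) (by rw [Nat.card_zpowers, hy, pow_one]) :
        IsPGroup 5 (Subgroup.zpowers y))
    obtain ⟨g, hg⟩ := MulAction.exists_smul_eq G Q P
    refine ⟨g, ?_⟩
    rw [← hg, Sylow.coe_subgroup_smul]
    exact Subgroup.mem_map.2 ⟨y, hQ (Subgroup.mem_zpowers y), rfl⟩
  refine ⟨hP P, fiveExp_of (hn.trans hnm) hm hr, hsyl, hk, fun y hy => ?_, hinto, fun y z hy hz => ?_⟩
  · obtain ⟨g, hg⟩ := hinto y hy
    have hne : g * y * g⁻¹ ≠ 1 := fun h => by rw [conj_eq_one_iff.1 h, orderOf_one] at hy; omega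
    rw [← hk, ← centralizer_of_mem (hP P) hg hne]
    refine Nat.card_congr
      { toFun := fun x => ⟨g * x * g⁻¹, Subgroup.mem_centralizer_singleton_iff.2 ?_⟩
        invFun := fun x => ⟨g⁻¹ * x * g, Subgroup.mem_centralizer_singleton_iff.2 ?_⟩
        left_inv := fun x => Subtype.ext (by group)
        right_inv := fun x => Subtype.ext (by group) }
    · have h := Subgroup.mem_centralizer_singleton_iff.1 x.2
      calc g * x.1 * g⁻¹ * (g * y * g⁻¹) = g * (x.1 * y) * g⁻¹ := by group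
        _ = g * y * g⁻¹ * (g * x.1 * g⁻¹) := by rw [h]; group
    · have h := Subgroup.mem_centralizer_singleton_iff.1 x.2
      calc g⁻¹ * x.1 * g * y = g⁻¹ * (x.1 * (g * y * g⁻¹)) * g := by group
        _ = y * (g⁻¹ * x.1 * g) := by rw [h]; group
  · obtain ⟨g₁, hg₁⟩ := hinto y hy
    obtain ⟨g₂, hg₂⟩ := hinto z hz
    refine ⟨g₂⁻¹ * g₁, fun w => ?_⟩
    set y' := g₂⁻¹ * g₁ * y * (g₂⁻¹ * g₁)⁻¹ with hy'
    have hy'o : orderOf y' = 5 := by rw [hy', ← MulAut.conj_apply, MulEquiv.orderOf_eq, hy]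
    have hcomm : Commute y' z := by
      haveI : IsCyclic (P : Subgroup G) := isCyclic_of_prime_card (hP P)
      have := IsCyclic.isMulCommutative (α := (P : Subgroup G))
      have h := congrArg Subtype.val (mul_comm' (⟨_, hg₁⟩ : (P : Subgroup G)) ⟨_, hg₂⟩)
      have h' : g₁ * y * g₁⁻¹ * (g₂ * z * g₂⁻¹) = g₂ * z * g₂⁻¹ * (g₁ * y * g₁⁻¹) := h
      show y' * z = z * y'
      calc y' * z = g₂⁻¹ * (g₁ * y * g₁⁻¹ * (g₂ * z * g₂⁻¹)) * g₂ := by rw [hy']; group
        _ = z * y' := by rw [h', hy']; group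
    obtain ⟨i, -, hi⟩ := mem_powers_of_commute hsyl hy'o (by rw [← hz, pow_orderOf_eq_one]) hcomm
    obtain ⟨l, -, hl⟩ := mem_powers_of_commute hsyl hz (by rw [← hy'o, pow_orderOf_eq_one]) hcomm.symm
    constructor
    · intro h; rw [← hi, ← conj_pow, h, inv_pow]
    · intro h; rw [← hl, ← conj_pow, h, inv_pow]

/-- The 5-part of a singular element is an admissible section representative. -/
theorem apply_section [Fact (Nat.Prime 5)] {P : Sylow 5 G} {k m r : ℕ} (S : Setup G P k (m * r))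
    {M : Ideal AlgInt} [M.IsMaximal] (hpM : ((5 : ℕ) : AlgInt) ∈ M) {χ : IrrCharacter G}
    (hχ : χ ∈ principalBlock M G) (g : G) (hg : g ^ (m * r) ≠ 1) : χ.1 g = χ.1 (g ^ (m * r)) := by
  set e := m * r
  have hd := DefectOne.freeData_of_card_eq (P := P) S.cardP
  set y := g ^ e with hy
  have hy5 : y ^ 5 = 1 := by rw [hy, ← pow_mul, S.exp.five]
  have hpp : IsPPart 5 g y := by
    refine ⟨y⁻¹ * g, mul_inv_cancel_left _ _, ?_, ⟨1, ?_⟩, fun h5 => ?_⟩
    · exact (Commute.refl y).inv_right.mul_right (hy ▸ (Commute.refl g).pow_left e)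
    · rw [pow_one]; exact orderOf_eq_prime hy5 hg
    · have h : (y⁻¹ * g) ^ e = 1 := by
        rw [(((Commute.refl g).pow_left e).inv_left : Commute y⁻¹ g).mul_pow, inv_pow,
          pow_five_part hy5 S.exp.one, ← hy, inv_mul_cancel]
      obtain ⟨q, hq⟩ := h5.trans (orderOf_dvd_of_pow_eq_one h)
      have := S.exp.one
      omega
  obtain ⟨c, hc⟩ := S.hinto y (orderOf_eq_prime hy5 hg)
  have h' := Blocks.IsPPart.conj hpp c
  have h1 := hd.apply_section hpM hχ h' hc (fun h => hg (conj_eq_one_iff.1 h))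
  rwa [Char.IsCharacter.isClassFunction (Char.irr_isCharacter χ) g c,
    Char.IsCharacter.isClassFunction (Char.irr_isCharacter χ) y c] at h1

theorem charDegree_trivial : charDegree (Char.trivialChar G).1 = 1 := by
  apply Nat.cast_injective (R := ℂ)
  rw [Char.charDegree_cast, Nat.cast_one]
  rfl

theorem sum_sq_le {t : G} (B : Finset (IrrCharacter G)) (a : IrrCharacter G → ℤ)
    (ha : ∀ χ ∈ B, χ.1 t = a χ) :
    ∑ χ ∈ B, a χ ^ 2 ≤ (Nat.card (Subgroup.centralizer ({t} : Set G)) : ℤ) := by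
  have h := sum_irr_mul_conj_re t B
  exact h a ha
where
  sum_irr_mul_conj_re (t : G) (B : Finset (IrrCharacter G)) : ∀ a : IrrCharacter G → ℤ,
      (∀ χ ∈ B, χ.1 t = a χ) →
      ∑ χ ∈ B, a χ ^ 2 ≤ (Nat.card (Subgroup.centralizer ({t} : Set G)) : ℤ) := fun a ha => by
    have h := congrArg Complex.re (Char.sum_irr_mul_conj t t)
    rw [if_pos (IsConj.refl t), Complex.re_sum, Complex.natCast_re] at h
    have h2 : ∑ χ ∈ B, (χ.1 t * conj (χ.1 t)).re ≤ ∑ χ : IrrCharacter G, (χ.1 t * conj (χ.1 t)).re :=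
      Finset.sum_le_sum_of_subset_of_nonneg (Finset.subset_univ B) fun χ _ _ => by
        rw [Complex.mul_conj, Complex.ofReal_re]; exact Complex.normSq_nonneg _
    rw [h, Finset.sum_congr rfl fun χ hχ => show (χ.1 t * conj (χ.1 t)).re = ((a χ ^ 2 : ℤ) : ℝ) by
      rw [ha χ hχ, map_intCast, ← Int.cast_mul, Complex.intCast_re, pow_two], ← Int.cast_sum] at h2
    exact_mod_cast h2

theorem degree_sq_lt (hG : ¬ IsMulCommutative G) {χ : IrrCharacter G} (hne : χ ≠ Char.trivialChar G) :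
    charDegree χ.1 * charDegree χ.1 < Nat.card G := by
  have h := sum_sq_le (t := (1 : G)) {χ, Char.trivialChar G}
    (fun ψ => (charDegree ψ.1 : ℤ)) (fun ψ _ => by rw [← Char.charDegree_cast]; simp)
  rw [Finset.sum_pair hne, charDegree_trivial] at h
  have htop : Subgroup.centralizer ({(1 : G)} : Set G) = ⊤ := by
    rw [Subgroup.eq_top_iff']; intro x; simp [Subgroup.mem_centralizer_singleton_iff]
  rw [htop, Subgroup.card_top] at h
  push_cast at h
  have : (charDegree χ.1 : ℤ) * charDegree χ.1 < Nat.card G := by rw [← pow_two]; omega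
  exact_mod_cast this

/-- A signed degree. -/
theorem signed_mem (hG : ¬ IsMulCommutative G) {n : ℕ} (hn : Nat.card G = n) (L : List ℤ)
    (hL : ∀ d ∈ n.divisors, 2 ≤ d → d * d < n → ((d : ℤ) % 5 = 1 → (d : ℤ) ∈ L) ∧ ((-(d : ℤ)) % 5 = 1 → -(d : ℤ) ∈ L))
    {χ : IrrCharacter G} (hne : χ ≠ Char.trivialChar G) {z : ℤ} (hz : z = 1 ∨ z = -1)
    (hmod : (charDegree χ.1 : ℤ) ≡ z [ZMOD 5]) : z * (charDegree χ.1 : ℤ) ∈ L := by
  have hlt := degree_sq_lt hG hne
  have h2 := SmallCofactor.one_lt_degree hG hne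
  rw [hn] at hlt
  obtain ⟨h1, h1'⟩ := hL (charDegree χ.1) (Nat.mem_divisors.2 ⟨hn ▸ (Char.charDegree_eq_degree χ ▸ Char.degree_dvd_natCard χ), by omega⟩) (by omega) hlt
  rcases hz with rfl | rfl
  · rw [one_mul]; exact h1 (by rw [Int.ModEq] at hmod; omega)
  · rw [neg_one_mul]; exact h1' (by rw [Int.ModEq] at hmod; omega)

/-- A 2-central involution. -/
theorem exists_two_central {T n : ℕ} {s : ℕ} (hn : Nat.card G = n) (hT : T = 2 ^ s) (hs : 0 < s) (hdvd : T ∣ n) :
    ∃ t : G, orderOf t = 2 ∧ T ∣ Nat.card (Subgroup.centralizer ({t} : Set G)) := by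
  haveI : Fact (Nat.Prime 2) := ⟨Nat.prime_two⟩
  obtain ⟨S⟩ : Nonempty (Sylow 2 G) := inferInstance
  have hTS : T ∣ Nat.card (S : Subgroup G) :=
    hT ▸ S.pow_dvd_card_of_pow_dvd_card (hn ▸ hT ▸ hdvd)
  have hnt : Nontrivial (S : Subgroup G) := Finite.one_lt_card_iff_nontrivial.1
    (lt_of_lt_of_le (hT ▸ Nat.one_lt_two_pow hs.ne') (Nat.le_of_dvd Nat.card_pos hTS))
  have hZ := S.isPGroup'.center_nontrivial
  obtain ⟨z, hz⟩ : ∃ z : Subgroup.center (S : Subgroup G), orderOf z = 2 := by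
    obtain ⟨a, ha⟩ := (IsPGroup.to_subgroup S.isPGroup' (Subgroup.center (S : Subgroup G))).exists_card_eq
    refine exists_prime_orderOf_dvd_card' 2 ?_
    have : 1 < Nat.card (Subgroup.center (S : Subgroup G)) := Finite.one_lt_card_iff_nontrivial.2 hZ
    rw [ha] at this ⊢
    exact dvd_pow_self 2 (fun h => by rw [h] at this; simp at this)
  refine ⟨((z : (S : Subgroup G)) : G), by rw [Subgroup.orderOf_coe, Subgroup.orderOf_coe, hz],
    hTS.trans (Subgroup.card_dvd_of_le fun x hx => Subgroup.mem_centralizer_singleton_iff.2 ?_)⟩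
  exact congrArg Subtype.val (Subgroup.mem_center_iff.1 z.2 ⟨x, hx⟩)

theorem centralizer_card_mem (hG : ¬ IsMulCommutative G) {n : ℕ} (hn : Nat.card G = n) {t : G} (ht : t ≠ 1) :
    Nat.card (Subgroup.centralizer ({t} : Set G)) ∈ n.divisors.erase n := by
  refine Finset.mem_erase.2 ⟨fun h => SmallSimple.centralizer_singleton_ne_top hG ht
    (Subgroup.eq_top_of_card_eq _ (h.trans hn.symm)), Nat.mem_divisors.2 ⟨hn ▸ Subgroup.card_subgroup_dvd_card _, ?_⟩⟩
  rw [← hn]; exact Nat.card_pos.ne'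

/-- Criterion for `|N(P)/C(P)| = 2`. -/
theorem false_of_index_two (hG : ¬ IsMulCommutative G) [Fact (Nat.Prime 5)] {n m r k T s : ℕ}
    (hn : Nat.card G = n) (hnm : n = 5 * m) (hm : ¬ 5 ∣ m) (hr : (m * r) % 5 = 1) (P : Sylow 5 G)
    (hk : Nat.card (Subgroup.centralizer ((P : Subgroup G) : Set G)) = 5 * k)
    (hrel : (Subgroup.centralizer ((P : Subgroup G) : Set G)).relIndex
      (Subgroup.normalizer ((P : Subgroup G) : Set G)) = 2)
    (hT : T = 2 ^ s) (hs : 0 < s) (hdvd : T ∣ n) (L : List ℤ)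
    (hL : ∀ d ∈ n.divisors, 2 ≤ d → d * d < n → ((d : ℤ) % 5 = 1 → (d : ℤ) ∈ L) ∧ ((-(d : ℤ)) % 5 = 1 → -(d : ℤ) ∈ L))
    (hcheck : ∀ Z ∈ L, (1 + Z).natAbs ∣ n → ∀ c ∈ n.divisors.erase n, T ∣ c → ∀ j ∈ Finset.range (k + 1),
      ∀ w ∈ List.range (2 * Z.natAbs + 1), 2 ∣ Z - ((w : ℤ) - Z.natAbs) → ((w : ℤ) - Z.natAbs).natAbs < Z.natAbs →
        (k : ℤ) * n * (Z - ((w : ℤ) - Z.natAbs)) ^ 2 ≠ 5 * (j : ℤ) ^ 2 * (c : ℤ) ^ 2 * (Z * (1 + Z))) :
    False := by
  obtain ⟨M, hM⟩ := CharInt.exists_isPModular_of_prime (q := 5) (by norm_num)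
  haveI := hM.2.1
  have hpM := hM.2.2
  have S := setup hn hnm hm hr P hk
  obtain ⟨sh⟩ := DefectOne.primeShape hpM (P := P) S.cardP (M := M) hrel
  have hreg1 : IsPRegular 5 (1 : G) := by simp [IsPRegular]
  obtain ⟨θ, θ', hθne, hY⟩ := Finset.card_eq_two.1 (show sh.Y.card = 2 by rw [sh.cardY])
  have hθY : θ ∈ sh.Y := by rw [hY]; simp
  have hθY' : θ' ∈ sh.Y := by rw [hY]; simp
  have htX : Char.trivialChar G ∈ sh.X := by
    have h : Char.trivialChar G ∈ principalBlock M G := Blocks.trivial_mem_principalBlock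
    rw [sh.union] at h
    rcases h with h | h
    · exact h
    · exfalso
      have := sh.Y_deg _ h
      rw [charDegree_trivial] at this
      rcases sh.hε with e | e <;> rw [e, Int.ModEq] at this <;> norm_num at this
  obtain ⟨χ, hχ⟩ := Finset.card_eq_one.1
    (show (sh.X.erase (Char.trivialChar G)).card = 1 by rw [Finset.card_erase_of_mem htX, sh.cardX])
  have hχ' := Finset.mem_erase.1 (show χ ∈ sh.X.erase (Char.trivialChar G) by rw [hχ]; simp)
  have hX : sh.X = {Char.trivialChar G, χ} := by rw [← Finset.insert_erase htX, hχ]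
  obtain ⟨y₀, hy₀P, -, hy₀⟩ := DefectOne.exists_gen (P := P) S.cardP
  have hy1 : y₀ ≠ 1 := fun h => by rw [h, orderOf_one] at hy₀; omega
  have hε1 : sh.εX (Char.trivialChar G) = 1 := by
    have h : (1 : ℂ) = (sh.εX (Char.trivialChar G) : ℂ) :=
      sh.X_val _ htX ⟨y₀, hy₀P⟩ fun h => hy1 (congrArg Subtype.val h)
    exact_mod_cast h.symm
  set z := sh.εX χ
  have hz : z = 1 ∨ z = -1 := sh.hεX χ hχ'.2
  have hrel' : ∀ η ∈ sh.Y, ∀ g : G, ¬ 5 ∣ orderOf g → (sh.ε : ℂ) * η.1 g = 1 + z * χ.1 g := fun η hη g hg => by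
    rw [sh.relation η hη g hg, hX, Finset.sum_pair hχ'.1.symm, hε1]; simp [z]
  obtain ⟨t, ht, hTc⟩ := exists_two_central hn hT hs hdvd
  have ht2 : t * t = 1 := by rw [← pow_two, ← ht, pow_orderOf_eq_one]
  have ht1 : t ≠ 1 := fun h => by rw [h, orderOf_one] at ht; omega
  have ht5 : ¬ 5 ∣ orderOf t := by rw [ht]; norm_num
  have hB : ∀ η ∈ sh.X ∪ sh.Y, η ∈ principalBlock M G := fun η hη => by
    rw [sh.union]; exact (Finset.mem_union.1 hη).imp id id
  set cf : IrrCharacter G → ℤ := fun η => if η ∈ sh.X then 2 * sh.εX η else -sh.ε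
  have hcfX : ∀ η ∈ sh.X, cf η = 2 * sh.εX η := fun η h => if_pos h
  have hcfY : ∀ η ∈ sh.Y, cf η = -sh.ε := fun η h =>
    if_neg fun h' => Finset.disjoint_left.1 sh.disj h' h
  have hsum : ∀ F : IrrCharacter G → ℂ, ∑ η ∈ sh.X ∪ sh.Y, (cf η : ℂ) * F η =
      2 * F (Char.trivialChar G) + 2 * z * F χ - sh.ε * F θ - sh.ε * F θ' := fun F => by
    rw [Finset.sum_union sh.disj, hX, Finset.sum_pair hχ'.1.symm, hY, Finset.sum_pair hθne,
      hcfX _ htX, hcfX _ hχ'.2, hcfY _ hθY, hcfY _ hθY', hε1]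
    push_cast
    ring
  obtain ⟨j, hjk, -, hid⟩ := pairs_identity S.exp S.hsyl S.hcent S.hconj (sh.X ∪ sh.Y) cf
    (Finset.mem_union_left _ htX)
    (fun g hg => by
      rw [hsum, Char.trivialChar_apply]
      linear_combination -(hrel' θ hθY g hg) - (hrel' θ' hθY' g hg))
    (fun g hg => Finset.sum_congr rfl fun η hη => by rw [apply_section S hpM (hB η hη) g hg]) ht2 hy₀
  obtain ⟨a, ha, hpar, hle⟩ := exists_value_parity ht χ
  have hlt := value_lt_degree hG hχ'.1 ht1 ha hle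
  set d := charDegree χ.1
  set Z : ℤ := z * d
  set w : ℤ := z * a
  have hZw : Z.natAbs = d ∧ w.natAbs = a.natAbs := by rcases hz with h | h <;> simp [Z, w, h]
  have hZL : Z ∈ L := signed_mem hG hn L hL hχ'.1 hz (sh.X_deg χ hχ'.2)
  have hf : ∀ η ∈ sh.Y, sh.ε * (charDegree η.1 : ℤ) = 1 + Z := fun η hη => by
    have h := hrel' η hη 1 (by simp)
    rw [← Char.charDegree_cast, ← Char.charDegree_cast] at h
    apply Int.cast_injective (α := ℂ)
    push_cast [Z]
    exact h
  have hb : ∀ η ∈ sh.Y, (sh.ε : ℂ) * η.1 t = 1 + w := fun η hη => by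
    rw [hrel' η hη t ht5, ha]; push_cast [w]; ring
  have hFdvd : (1 + Z).natAbs ∣ n := by
    rw [← hf θ hθY, Int.natAbs_mul, ← hn]
    rcases sh.hε with e | e <;> rw [e] <;>
      simpa [Nat.card_eq_fintype_card, Char.charDegree_eq_degree] using Char.degree_dvd_natCard θ
  have hZ0 : Z ≠ 0 := fun h => by
    have := Char.charDegree_pos χ
    rw [h] at hZw
    simp at hZw
    omega
  have hF0 : 1 + Z ≠ 0 := fun h => by
    have h1 := hf θ hθY
    have := Char.charDegree_pos θ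
    rcases sh.hε with e | e <;> rw [e] at h1 <;> omega
  rw [hsum, hcfX _ htX, hε1, Char.trivialChar_apply, Char.trivialChar_apply] at hid
  have hterm : ∀ η ∈ sh.Y, (sh.ε : ℂ) * (η.1 t * η.1 t / η.1 1) = (1 + w) ^ 2 / (1 + Z : ℤ) := fun η hη => by
    have h1 : ((1 + Z : ℤ) : ℂ) = (sh.ε : ℂ) * η.1 1 := by
      rw [← Char.charDegree_cast, ← hf η hη]; push_cast; ring
    rw [h1, ← hb η hη]
    rcases sh.hε with e | e <;> rw [e] <;> push_cast <;> ring
  have hχterm : (z : ℂ) * (χ.1 t * χ.1 t / χ.1 1) = (w : ℂ) ^ 2 / (Z : ℂ) := by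
    rw [ha, ← Char.charDegree_cast]
    rcases hz with e | e <;> simp only [w, Z, e] <;> push_cast <;> ring
  set c := Nat.card (Subgroup.centralizer ({t} : Set G))
  have hZC : (Z : ℂ) ≠ 0 := Int.cast_ne_zero.2 hZ0
  have hFC : ((1 + Z : ℤ) : ℂ) ≠ 0 := Int.cast_ne_zero.2 hF0
  have hkey : (k : ℤ) * n * (Z - w) ^ 2 = 5 * (j : ℤ) ^ 2 * (c : ℤ) ^ 2 * (Z * (1 + Z)) := by
    apply Int.cast_injective (α := ℂ)
    have h2 : (k : ℂ) * n * (2 + 2 * ((w : ℂ) ^ 2 / Z) - 2 * ((1 + w) ^ 2 / ((1 + Z : ℤ) : ℂ))) =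
        10 * (j : ℂ) ^ 2 * (c : ℂ) ^ 2 := by
      rw [← hn]
      push_cast at hid ⊢
      have e1 := hterm θ hθY
      have e2 := hterm θ' hθY'
      push_cast at e1 e2
      linear_combination hid - 2 * (k : ℂ) * (Nat.card G : ℂ) * hχterm
        + (k : ℂ) * (Nat.card G : ℂ) * e1 + (k : ℂ) * (Nat.card G : ℂ) * e2
    push_cast at h2 hFC ⊢
    field_simp at h2
    linear_combination h2 / 2
  refine hcheck Z hZL hFdvd c (centralizer_card_mem hG hn ht1) hTc j (Finset.mem_range.2 (by omega))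
    (w + Z.natAbs).toNat (List.mem_range.2 (by omega)) ?_ ?_ ?_
  · rw [show (((w + Z.natAbs).toNat : ℕ) : ℤ) - Z.natAbs = w by omega]
    rcases hz with e | e <;> simp only [Z, w, e] <;> omega
  · rw [show (((w + Z.natAbs).toNat : ℕ) : ℤ) - Z.natAbs = w by omega]; omega
  · rw [show (((w + Z.natAbs).toNat : ℕ) : ℤ) - Z.natAbs = w by omega]; exact hkey

/-- For `|N(P)/C(P)| = 4` all non-trivial elements of `P` are conjugate. -/
theorem conj_of_index_four [Fact (Nat.Prime 5)] {P : Sylow 5 G} (hP : Nat.card (P : Subgroup G) = 5)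
    (hrel : (Subgroup.centralizer ((P : Subgroup G) : Set G)).relIndex
      (Subgroup.normalizer ((P : Subgroup G) : Set G)) = 4)
    {y z : G} (hy : y ∈ (P : Subgroup G)) (hz : z ∈ (P : Subgroup G)) (hy1 : y ≠ 1) (hz1 : z ≠ 1) :
    IsConj y z := by
  set N := Subgroup.normalizer ((P : Subgroup G) : Set G)
  set C := Subgroup.centralizer ((P : Subgroup G) : Set G)
  have hCN : C ≤ N := Subgroup.centralizer_le_normalizer _
  let f : N → (P : Subgroup G) := fun a => ⟨a.1 * y * a.1⁻¹, (Subgroup.mem_normalizer_iff.1 a.2 y).1 hy⟩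
  have hfib : ∀ a : N, (Finset.univ.filter fun b : N => f b = f a).card = Nat.card C := fun a => by
    rw [show C = Subgroup.centralizer ({y} : Set G) from (centralizer_of_mem hP hy hy1).symm, Nat.card_eq_fintype_card,
      Fintype.card_of_subtype (Finset.univ.filter fun h : G => h * y = y * h) fun h => by
        simp [Subgroup.mem_centralizer_singleton_iff]]
    refine Finset.card_bij' (fun b _ => a.1⁻¹ * b.1) (fun h hh => (⟨a.1 * h, mul_mem a.2 (hCN ?_)⟩ : N))
      (fun b hb => ?_) (fun h hh => ?_) (fun b _ => Subtype.ext (by simp)) (fun h _ => by simp)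
    · show h ∈ C
      have h' : h ∈ Subgroup.centralizer ({y} : Set G) :=
        Subgroup.mem_centralizer_singleton_iff.2 (Finset.mem_filter.1 hh).2
      rwa [centralizer_of_mem hP hy hy1] at h'
    · refine Finset.mem_filter.2 ⟨Finset.mem_univ _, ?_⟩
      have h : b.1 * y * b.1⁻¹ = a.1 * y * a.1⁻¹ := congrArg Subtype.val (Finset.mem_filter.1 hb).2
      calc a.1⁻¹ * b.1 * y = a.1⁻¹ * (b.1 * y * b.1⁻¹) * b.1 := by group
        _ = y * (a.1⁻¹ * b.1) := by rw [h]; group
    · refine Finset.mem_filter.2 ⟨Finset.mem_univ _, Subtype.ext ?_⟩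
      calc a.1 * h * y * (a.1 * h)⁻¹ = a.1 * (h * y) * h⁻¹ * a.1⁻¹ := by group
        _ = a.1 * y * a.1⁻¹ := by rw [(Finset.mem_filter.1 hh).2]; group
  have hsub : Finset.univ.image f ⊆ (Finset.univ : Finset (P : Subgroup G)).erase 1 := fun x hx => by
    obtain ⟨a, -, rfl⟩ := Finset.mem_image.1 hx
    exact Finset.mem_erase.2 ⟨fun h => hy1 (conj_eq_one_iff.1 (congrArg Subtype.val h)), Finset.mem_univ _⟩
  have hcount := Finset.card_eq_sum_card_image f (Finset.univ : Finset N)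
  rw [Finset.sum_congr rfl fun x hx => (show _ = Nat.card C from by
    obtain ⟨a, -, rfl⟩ := Finset.mem_image.1 hx; exact hfib a), Finset.sum_const, smul_eq_mul,
    Finset.card_univ, ← Nat.card_eq_fintype_card] at hcount
  have hN : Nat.card N = 4 * Nat.card C := by
    rw [← hrel, mul_comm, Subgroup.relIndex]
    exact (Subgroup.card_mul_index (C.subgroupOf N)).symm.trans
      (by rw [Nat.card_congr (Subgroup.subgroupOfEquivOfLe hCN).toEquiv])
  rw [hN] at hcount
  have h4 : (Finset.univ.image f).card = 4 := (Nat.eq_of_mul_eq_mul_right Nat.card_pos hcount).symm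
  have heq := Finset.eq_of_subset_of_card_le hsub (by
    rw [h4, Finset.card_erase_of_mem (Finset.mem_univ _), Finset.card_univ, ← Nat.card_eq_fintype_card, hP])
  have hzmem : (⟨z, hz⟩ : (P : Subgroup G)) ∈ Finset.univ.image f := by
    rw [heq]; exact Finset.mem_erase.2 ⟨fun h => hz1 (congrArg Subtype.val h), Finset.mem_univ _⟩
  obtain ⟨a, -, ha⟩ := Finset.mem_image.1 hzmem
  exact isConj_iff.2 ⟨a.1, congrArg Subtype.val ha⟩

/-- The data of the principal block for `|N(P)/C(P)| = 4` at an involution inverting `P`. -/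
theorem exists_index_four_data (hG : ¬ IsMulCommutative G) [Fact (Nat.Prime 5)] {n m r k : ℕ}
    (hn : Nat.card G = n) (hnm : n = 5 * m) (hm : ¬ 5 ∣ m) (hr : (m * r) % 5 = 1) (hk2 : Odd k) (P : Sylow 5 G)
    (hk : Nat.card (Subgroup.centralizer ((P : Subgroup G) : Set G)) = 5 * k)
    (hrel : (Subgroup.centralizer ((P : Subgroup G) : Set G)).relIndex
      (Subgroup.normalizer ((P : Subgroup G) : Set G)) = 4) (L : List ℤ)
    (hL : ∀ d ∈ n.divisors, 2 ≤ d → d * d < n → ((d : ℤ) % 5 = 1 → (d : ℤ) ∈ L) ∧ ((-(d : ℤ)) % 5 = 1 → -(d : ℤ) ∈ L))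
    (X : List ℤ) (hXneg : ∀ x ∈ X, x < 0) (hX : ∀ (χ : IrrCharacter G) (y : G), χ ≠ Char.trivialChar G → orderOf y = 5 →
      (∀ g : G, g ^ (m * r) ≠ 1 → χ.1 g = χ.1 y) → χ.1 y = -1 → (-(charDegree χ.1 : ℤ)) ∉ X) :
    ∃ (Z w : Fin 4 → ℤ) (c j : ℕ), Monotone Z ∧ (∀ i, Z i ∈ L ∧ Z i ∉ X ∧
        2 ∣ Z i - w i ∧ 5 * (w i).natAbs ≤ (Z i + 4).natAbs) ∧
      1 + ∑ i, Z i = 0 ∧ 1 + ∑ i, w i = 0 ∧ c ∈ n.divisors.erase n ∧ 1 + ∑ i, w i ^ 2 ≤ (c : ℤ) ∧
      1 ≤ j ∧ j ≤ k ∧
      (k : ℤ) * n * ((∏ i, Z i) + ∑ i, w i ^ 2 * ∏ l ∈ Finset.univ.erase i, Z l) =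
        5 * (j : ℤ) ^ 2 * (c : ℤ) ^ 2 * ∏ i, Z i := by
  obtain ⟨M, hM⟩ := CharInt.exists_isPModular_of_prime (q := 5) (by norm_num)
  haveI := hM.2.1
  have hpM := hM.2.2
  have S := setup hn hnm hm hr P hk
  obtain ⟨sh⟩ := DefectOne.primeShape hpM (P := P) S.cardP (M := M) hrel
  set B := sh.X ∪ sh.Y with hBdef
  set cf : IrrCharacter G → ℤ := fun η => if η ∈ sh.X then sh.εX η else -sh.ε with hcfdef
  have hcf1 : ∀ η ∈ B, (cf η = 1 ∨ cf η = -1) ∧ (charDegree η.1 : ℤ) ≡ cf η [ZMOD 5] := fun η hη => by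
    rcases Finset.mem_union.1 hη with h | h
    · simp only [hcfdef, if_pos h]; exact ⟨sh.hεX η h, sh.X_deg η h⟩
    · simp only [hcfdef, if_neg fun h' => Finset.disjoint_left.1 sh.disj h' h]
      refine ⟨by rcases sh.hε with e | e <;> simp [e], (sh.Y_deg η h).trans ?_⟩
      rcases sh.hε with e | e <;> rw [e] <;> decide
  have hBP : ∀ η ∈ B, η ∈ principalBlock M G := fun η hη => by
    rw [sh.union]; exact (Finset.mem_union.1 hη).imp id id
  have htB : Char.trivialChar G ∈ B := by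
    have h : Char.trivialChar G ∈ principalBlock M G := Blocks.trivial_mem_principalBlock
    rw [sh.union] at h
    exact Finset.mem_union.2 (h.imp id id)
  have hcft : cf (Char.trivialChar G) = 1 := by
    obtain ⟨h1, h2⟩ := hcf1 _ htB
    rw [charDegree_trivial, Int.ModEq] at h2
    rcases h1 with e | e <;> rw [e] at h2 ⊢ <;> norm_num at h2
  obtain ⟨y₀, hy₀P, hgen, hy₀⟩ := DefectOne.exists_gen (P := P) S.cardP
  have hy1 : y₀ ≠ 1 := fun h => by rw [h, orderOf_one] at hy₀; omega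
  have hy05 : y₀ ^ 5 = 1 := by rw [← hy₀, pow_orderOf_eq_one]
  -- the values on `P`
  have hval : ∀ η ∈ B, ∀ y ∈ (P : Subgroup G), y ≠ 1 → η.1 y = cf η := by
    intro η hη y hy hyne
    set v := η.1 y₀
    have hconst : ∀ y' : (P : Subgroup G), y' ≠ 1 → η.1 y' = v := fun y' hy' => by
      obtain ⟨g, hg⟩ := isConj_iff.1 (conj_of_index_four S.cardP hrel hy₀P y'.2 hy1
        fun h => hy' (Subtype.ext h))
      rw [← hg]
      exact Char.IsCharacter.isClassFunction (Char.irr_isCharacter η) y₀ g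
    obtain ⟨N, hN⟩ := DefectOne.exists_sum_eq_mul S.cardP η
    rw [← Finset.add_sum_erase _ _ (Finset.mem_univ (1 : (P : Subgroup G))),
      Finset.sum_congr rfl fun y' hy' => hconst y' (Finset.ne_of_mem_erase hy'), Finset.sum_const,
      Finset.card_erase_of_mem (Finset.mem_univ _), Finset.card_univ, ← Nat.card_eq_fintype_card, S.cardP,
      OneMemClass.coe_one, ← Char.charDegree_cast] at hN
    have hq : v = ((((5 : ℚ) * N - charDegree η.1) / 4 : ℚ) : ℂ) := by
      push_cast at hN ⊢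
      simp only [nsmul_eq_mul] at hN
      linear_combination (1 / 4 : ℂ) * hN
    have hi := CharInt.isIntegral_char (Char.irr_isCharacter η) y₀
    rw [show η.1 y₀ = v from rfl, hq] at hi
    have hqi : IsIntegral ℤ (((5 : ℚ) * N - charDegree η.1) / 4) := by
      rw [show ((((5 : ℚ) * N - charDegree η.1) / 4 : ℚ) : ℂ) =
        algebraMap ℚ ℂ (((5 : ℚ) * N - charDegree η.1) / 4) from (eq_ratCast _ _).symm] at hi
      exact (isIntegral_algebraMap_iff (algebraMap ℚ ℂ).injective).1 hi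
    obtain ⟨a, ha⟩ := IsIntegrallyClosed.isIntegral_iff.1 hqi
    have hva : v = (a : ℂ) := by rw [hq, ← ha]; simp
    have hvals : ∀ y' : (P : Subgroup G), y' ≠ 1 → η.1 y' = a := fun y' h => (hconst y' h).trans hva
    have hdeg := DefectOne.degree_modEq_value S.cardP hvals
    obtain ⟨hcf, hcfd⟩ := hcf1 η hη
    have ha0 : a ≠ 0 := fun h => by
      rw [h, Int.ModEq] at hdeg
      rcases hcf with e | e <;> rw [e, Int.ModEq] at hcfd <;> omega
    rw [hvals ⟨y, hy⟩ fun h => hyne (congrArg Subtype.val h)]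
    have hmod := hcfd.symm.trans hdeg
    rw [Int.ModEq] at hmod
    rcases DefectOne.abs_value_eq_one hpM S.cardP (hBP η hη) ha0 hvals with e | e <;>
      rcases hcf with e' | e' <;> rw [e, e'] at hmod ⊢ <;> norm_num at hmod
  -- the involution
  set N' := Subgroup.normalizer ((P : Subgroup G) : Set G)
  set C := Subgroup.centralizer ((P : Subgroup G) : Set G)
  have hCN : C ≤ N' := Subgroup.centralizer_le_normalizer _
  have hNcard : Nat.card N' = 4 * (5 * k) := by
    rw [← hrel, mul_comm, Subgroup.relIndex, ← hk]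
    exact (Subgroup.card_mul_index (C.subgroupOf N')).symm.trans
      (by rw [Nat.card_congr (Subgroup.subgroupOfEquivOfLe hCN).toEquiv])
  haveI : Fact (Nat.Prime 2) := ⟨Nat.prime_two⟩
  obtain ⟨⟨t, htN⟩, htord⟩ := exists_prime_orderOf_dvd_card' (G := N') 2 (by rw [hNcard]; omega)
  rw [Subgroup.orderOf_mk] at htord
  have ht2 : t * t = 1 := by rw [← pow_two, ← htord, pow_orderOf_eq_one]
  have ht1 : t ≠ 1 := fun h => by rw [h, orderOf_one] at htord; omega
  have htC : t ∉ C := fun h => by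
    have := Subgroup.orderOf_dvd_natCard _ h
    rw [htord, hk] at this
    obtain ⟨q, hq⟩ := hk2
    omega
  have hinv : t * y₀ * t⁻¹ = y₀⁻¹ := by
    have hmem : t * y₀ * t⁻¹ ∈ (P : Subgroup G) := (Subgroup.mem_normalizer_iff.1 htN y₀).1 hy₀P
    obtain ⟨i, hi, hiy⟩ := mem_powers_of_commute S.hsyl hy₀
      (z := t * y₀ * t⁻¹) (by rw [conj_pow, hy05]; group) (by
        haveI : IsCyclic (P : Subgroup G) := isCyclic_of_prime_card S.cardP
        have := IsCyclic.isMulCommutative (α := (P : Subgroup G))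
        exact congrArg Subtype.val (mul_comm' (⟨y₀, hy₀P⟩ : (P : Subgroup G)) ⟨_, hmem⟩))
    have h2 : y₀ ^ (i * i) = y₀ := by
      rw [pow_mul, hiy, conj_pow, hiy]
      rw [show t * (t * y₀ * t⁻¹) * t⁻¹ = (t * t) * y₀ * (t * t)⁻¹ by group, ht2]; group
    rw [pow_mod_five hy05] at h2
    have h3 := powers_injOn hy₀ (Nat.mod_lt _ (by norm_num)) (show 1 < 5 by norm_num) (by rw [pow_one]; exact h2)
    interval_cases i <;> norm_num at h3
    · exfalso
      apply htC
      rw [show C = Subgroup.centralizer ({y₀} : Set G) from (centralizer_of_mem S.cardP hy₀P hy1).symm,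
        Subgroup.mem_centralizer_singleton_iff, ← mul_inv_eq_iff_eq_mul, ← hiy, pow_one]
    · rw [← hiy]
      exact eq_inv_of_mul_eq_one_left (by rw [← pow_succ, hy05])
  have hreg : ∀ g : G, ¬ 5 ∣ orderOf g → ∑ η ∈ B, (cf η : ℂ) * η.1 g = 0 := fun g hg => by
    obtain ⟨θ, hθ⟩ := Finset.card_eq_one.1 (show sh.Y.card = 1 by rw [sh.cardY])
    have hθY : θ ∈ sh.Y := by rw [hθ]; simp
    rw [hBdef, Finset.sum_union sh.disj, Finset.sum_congr rfl fun η hη => show (cf η : ℂ) * η.1 g =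
        (sh.εX η : ℂ) * η.1 g by simp only [hcfdef, if_pos hη],
      ← sh.relation θ hθY g hg, hθ, Finset.sum_singleton]
    simp only [hcfdef, if_neg fun h' => Finset.disjoint_left.1 sh.disj h' hθY]
    push_cast; ring
  obtain ⟨j, hjk, hj0, hid⟩ := pairs_identity S.exp S.hsyl S.hcent S.hconj B cf htB hreg
    (fun g hg => Finset.sum_congr rfl fun η hη => by rw [apply_section S hpM (hBP η hη) g hg]) ht2 hy₀
  have hj1 : 1 ≤ j := by
    by_contra h
    have h0 := hj0.2 (by omega)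
    have : (1 : G) ∈ inverters t y₀ := Finset.mem_filter.2 ⟨Finset.mem_univ _, by simpa using hinv⟩
    rw [h0] at this
    simp at this
  choose a ha hapar hale using exists_value_parity htord
  have hcol : ∑ η ∈ B, cf η * a η = 0 := by
    apply Int.cast_injective (α := ℂ)
    push_cast
    rw [← hreg t (by rw [htord]; norm_num)]
    exact Finset.sum_congr rfl fun η _ => by rw [ha]
  have hdegrel : ∑ η ∈ B, cf η * (charDegree η.1 : ℤ) = 0 := by
    apply Int.cast_injective (α := ℂ)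
    push_cast
    rw [← hreg 1 (by simp)]
    exact Finset.sum_congr rfl fun η _ => by rw [Char.charDegree_cast]
  -- enumerate
  have hB4 : (B.erase (Char.trivialChar G)).card = 4 := by
    rw [Finset.card_erase_of_mem htB, hBdef, Finset.card_union_of_disjoint sh.disj, sh.cardX, sh.cardY]
  let ι₀ := (((B.erase (Char.trivialChar G)).equivFin.trans (finCongr hB4))).symm
  let σ := Tuple.sort fun i => cf (ι₀ i).1 * (charDegree (ι₀ i).1.1 : ℤ)
  let ι := σ.trans ι₀
  have hmono : Monotone fun i => cf (ι i).1 * (charDegree (ι i).1.1 : ℤ) :=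
    Tuple.monotone_sort fun i => cf (ι₀ i).1 * (charDegree (ι₀ i).1.1 : ℤ)
  have hsum : ∀ F : IrrCharacter G → ℤ, ∑ η ∈ B, F η = F (Char.trivialChar G) + ∑ i, F (ι i).1 := fun F => by
    rw [← Finset.add_sum_erase _ _ htB, Equiv.sum_comp ι (fun η : ↥(B.erase (Char.trivialChar G)) => F η.1),
      Finset.sum_coe_sort]
  have hmemι : ∀ i, (ι i).1 ≠ Char.trivialChar G ∧ (ι i).1 ∈ B := fun i => Finset.mem_erase.1 (ι i).2
  have hat : a (Char.trivialChar G) = 1 := by
    have := ha (Char.trivialChar G)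
    rw [Char.trivialChar_apply] at this
    exact_mod_cast this.symm
  set c := Nat.card (Subgroup.centralizer ({t} : Set G))
  refine ⟨fun i => cf (ι i).1 * (charDegree (ι i).1.1 : ℤ), fun i => cf (ι i).1 * a (ι i).1, c, j, hmono,
    fun i => ?_, ?_, ?_, centralizer_card_mem hG hn ht1, ?_, hj1, hjk, ?_⟩
  · obtain ⟨hne, hmem⟩ := hmemι i
    obtain ⟨hcf, hcfd⟩ := hcf1 _ hmem
    set η := (ι i).1
    dsimp only
    refine ⟨signed_mem hG hn L hL hne hcf hcfd, ?_, ?_, ?_⟩
    · rcases hcf with e | e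
      · intro hin
        have := hXneg _ hin
        rw [e, one_mul] at this
        omega
      · rw [e, neg_one_mul]
        refine hX η y₀ hne hy₀ (fun g hg => ?_) (by rw [hval η hmem y₀ hy₀P hy1, e]; simp)
        obtain ⟨c', hc'⟩ := S.hinto (g ^ (m * r)) (orderOf_eq_prime (by rw [← pow_mul, S.exp.five]) hg)
        rw [apply_section S hpM (hBP η hmem) g hg,
          ← Char.IsCharacter.isClassFunction (Char.irr_isCharacter η) (g ^ (m * r)) c',
          hval η hmem _ hc' (fun h => hg (conj_eq_one_iff.1 h)), hval η hmem y₀ hy₀P hy1]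
    · rw [← mul_sub]; exact dvd_mul_of_dvd_right (hapar η) _
    · have hv : ∀ l : ℕ, ¬ 5 ∣ l → η.1 (y₀ ^ l) = (cf η : ℂ) := fun l hl =>
        hval η hmem _ (Subgroup.pow_mem _ hy₀P l) fun h => hl (hy₀ ▸ orderOf_dvd_of_pow_eq_one h)
      obtain ⟨M₁, hM₁⟩ := exists_restriction hy₀ ht2 hinv η hv (ha η) (Or.inl rfl)
      obtain ⟨M₂, hM₂⟩ := exists_restriction hy₀ ht2 hinv η hv (ha η) (Or.inr rfl)
      rw [← Char.charDegree_cast] at hM₁ hM₂
      have h1 : (charDegree η.1 : ℤ) + 4 * cf η + 5 * a η = 10 * M₁ := by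
        apply Int.cast_injective (α := ℂ); push_cast; linear_combination hM₁
      have h2 : (charDegree η.1 : ℤ) + 4 * cf η - 5 * a η = 10 * M₂ := by
        apply Int.cast_injective (α := ℂ); push_cast; linear_combination hM₂
      change 5 * (cf η * a η).natAbs ≤ (cf η * (charDegree η.1 : ℤ) + 4).natAbs
      rcases hcf with e | e <;> rw [e] at h1 h2 ⊢ <;> omega
  · have h := hsum fun η => cf η * (charDegree η.1 : ℤ)
    rw [hdegrel, hcft, charDegree_trivial, Nat.cast_one, mul_one] at h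
    exact h.symm
  · have h := hsum fun η => cf η * a η
    rw [hcol, hcft, hat, mul_one] at h
    exact h.symm
  · have h := sum_sq_le B a (fun η _ => ha η)
    rw [hsum fun η => a η ^ 2, hat, one_pow] at h
    refine le_trans (le_of_eq ?_) h
    congr 1
    exact Finset.sum_congr rfl fun i _ => by
      dsimp only
      rcases (hcf1 _ (hmemι i).2).1 with e | e <;> rw [e] <;> ring
  · set Z : Fin 4 → ℤ := fun i => cf (ι i).1 * (charDegree (ι i).1.1 : ℤ) with hZ
    set W : Fin 4 → ℤ := fun i => cf (ι i).1 * a (ι i).1 with hW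
    have hZ0 : ∀ i, (Z i : ℂ) ≠ 0 := fun i => Int.cast_ne_zero.2 (by
      have := Char.charDegree_pos (ι i).1
      rcases (hcf1 _ (hmemι i).2).1 with e | e <;> simp only [hZ, e] <;> omega)
    have hSC : ∑ η ∈ B, (cf η : ℂ) * (η.1 t * η.1 t / η.1 1) = 1 + ∑ i, (W i : ℂ) ^ 2 / Z i := by
      rw [← Finset.add_sum_erase _ _ htB, hcft, Char.trivialChar_apply, Char.trivialChar_apply,
        ← Finset.sum_coe_sort (B.erase _), ← Equiv.sum_comp ι]
      push_cast
      rw [one_mul, div_one, one_mul]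
      congr 1
      refine Finset.sum_congr rfl fun i _ => ?_
      rw [ha, ← Char.charDegree_cast]
      rcases (hcf1 _ (hmemι i).2).1 with e | e <;> simp only [hZ, hW, e] <;> push_cast <;> ring
    rw [hSC, hcft] at hid
    apply Int.cast_injective (α := ℂ)
    push_cast
    rw [← hn]
    have hprod : ∀ i, (W i : ℂ) ^ 2 * ∏ l ∈ Finset.univ.erase i, (Z l : ℂ) =
        (W i : ℂ) ^ 2 / Z i * ∏ l, (Z l : ℂ) := fun i => by
      rw [← Finset.mul_prod_erase _ _ (Finset.mem_univ i), ← mul_assoc, div_mul_cancel₀ _ (hZ0 i)]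
    rw [Finset.sum_congr rfl fun i _ => hprod i, ← Finset.sum_mul]
    push_cast at hid
    linear_combination (∏ l, (Z l : ℂ)) * hid

/-- `|N(P)| = N = |C(P)| e` with `e = 2` or `e = 4`. -/
theorem normalizer_split (hG : ¬ IsMulCommutative G) [Fact (Nat.Prime 5)] {m n₅ N : ℕ} (hn : Nat.card G = 5 * m)
    (hm : ¬ 5 ∣ m) (P : Sylow 5 G) (h : Nat.card (Sylow 5 G) = n₅) (hN : n₅ * N = 5 * m) :
    ∃ k, Nat.card (Subgroup.centralizer ((P : Subgroup G) : Set G)) = 5 * k ∧
      (((Subgroup.centralizer ((P : Subgroup G) : Set G)).relIndex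
          (Subgroup.normalizer ((P : Subgroup G) : Set G)) = 2 ∧ N = 10 * k) ∨
        ((Subgroup.centralizer ((P : Subgroup G) : Set G)).relIndex
          (Subgroup.normalizer ((P : Subgroup G) : Set G)) = 4 ∧ N = 20 * k)) := by
  have hP : Nat.card (P : Subgroup G) = 5 := by
    rw [SmallSimple.card_sylow_subgroup (k := 1) (m := m) (by rw [pow_one, hn]) hm P, pow_one]
  set Nm := Subgroup.normalizer ((P : Subgroup G) : Set G)
  set C := Subgroup.centralizer ((P : Subgroup G) : Set G)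
  have hCN : C ≤ Nm := Subgroup.centralizer_le_normalizer _
  have hPC : (P : Subgroup G) ≤ C := by
    haveI : IsCyclic (P : Subgroup G) := isCyclic_of_prime_card hP
    have := IsCyclic.isMulCommutative (α := (P : Subgroup G))
    intro a ha
    exact Subgroup.mem_centralizer_iff.2 fun b hb =>
      congrArg Subtype.val (mul_comm' (⟨b, hb⟩ : (P : Subgroup G)) ⟨a, ha⟩)
  obtain ⟨k, hk⟩ : 5 ∣ Nat.card C := hP ▸ Subgroup.card_dvd_of_le hPC
  have hNm : Nat.card Nm = N := by
    have h1 := SmallSimple.card_sylow_mul_card_normalizer P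
    rw [h, hn, ← hN] at h1
    exact Nat.eq_of_mul_eq_mul_left (h ▸ Nat.card_pos) h1
  have hidx : Nat.card Nm = C.relIndex Nm * Nat.card C := by
    rw [mul_comm, Subgroup.relIndex]
    exact (Subgroup.card_mul_index (C.subgroupOf Nm)).symm.trans
      (by rw [Nat.card_congr (Subgroup.subgroupOfEquivOfLe hCN).toEquiv])
  have hk0 : 0 < Nat.card C := Nat.card_pos
  haveI : IsCyclic (P : Subgroup G) := isCyclic_of_prime_card hP
  have h4 : C.relIndex Nm ∣ 4 := by
    have hd : Nat.card Nm ∣ Nat.card C * 4 := by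
      set f := Subgroup.normalizerMonoidHom (P : Subgroup G)
      have h1 : Nat.card Nm = Nat.card f.ker * Nat.card f.range := by
        rw [← Subgroup.card_mul_index f.ker, Subgroup.index_ker]
      have h2 : Nat.card f.ker = Nat.card C := by
        rw [Subgroup.normalizerMonoidHom_ker]
        exact Nat.card_congr (Subgroup.subgroupOfEquivOfLe hCN).toEquiv
      have h3 : Nat.card f.range ∣ 4 := by
        refine (Subgroup.card_subgroup_dvd_card _).trans ?_
        rw [IsCyclic.card_mulAut, hP, Nat.totient_prime Fact.out]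
      rw [h1, h2]
      exact mul_dvd_mul_left _ h3
    rw [hidx, mul_comm] at hd
    exact Nat.dvd_of_mul_dvd_mul_left hk0 hd
  have hne1 : C.relIndex Nm ≠ 1 := fun h1 => by
    apply SmallSimple.not_hasNormalPComplement hG (p := 5) (hn ▸ dvd_mul_right 5 m)
    refine Transfer.hasNormalPComplement_of_normalizer_le_centralizer P ?_
    exact Subgroup.relIndex_eq_one.1 h1
  refine ⟨k, hk, ?_⟩
  rw [hNm, hk] at hidx
  have hle := Nat.le_of_dvd (by norm_num) h4
  interval_cases hr : C.relIndex Nm <;> first | omega | (exfalso; omega) | (left; omega) | (right; omega)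

/-- The possible signed values at an involution inverting `P`. -/
def valueRange (Z : ℤ) : List ℤ :=
  ((List.range (2 * ((Z + 4).natAbs / 5) + 1)).map fun i : ℕ => (i : ℤ) - ((Z + 4).natAbs / 5 : ℕ)).filter
    fun w => (Z - w) % 2 == 0

/-- The numerical test for `|N(P)/C(P)| = 4`. -/
def checkFour (n k : ℕ) (L : List ℤ) (cs : List ℕ) : Bool :=
  L.all fun a => L.all fun b => !(decide (a ≤ b)) || L.all fun c => !(decide (b ≤ c)) || L.all fun d =>
    !(decide (c ≤ d)) || !(decide (1 + (a + b + c + d) = 0)) ||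
      (valueRange a).all fun p => (valueRange b).all fun q => (valueRange c).all fun r =>
        (valueRange d).all fun s => !(decide (1 + (p + q + r + s) = 0)) ||
          cs.all fun t => !(decide (1 + (p ^ 2 + q ^ 2 + r ^ 2 + s ^ 2) ≤ (t : ℤ))) ||
            (List.range k).all fun j =>
              !(decide ((k : ℤ) * n * (a * b * c * d + (p ^ 2 * (b * c * d) + q ^ 2 * (a * c * d) +
                r ^ 2 * (a * b * d) + s ^ 2 * (a * b * c))) = 5 * ((j : ℤ) + 1) ^ 2 * (t : ℤ) ^ 2 * (a * b * c * d)))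

theorem mem_valueRange {Z w : ℤ} (h2 : 2 ∣ Z - w) (hle : 5 * w.natAbs ≤ (Z + 4).natAbs) : w ∈ valueRange Z := by
  rw [valueRange, List.mem_filter, List.mem_map]
  refine ⟨⟨(w + (((Z + 4).natAbs / 5 : ℕ) : ℤ)).toNat, ?_, ?_⟩, ?_⟩
  · rw [List.mem_range]; omega
  · omega
  simp only [beq_iff_eq]
  omega

/-- Criterion for `|N(P)/C(P)| = 4`. -/
theorem false_of_index_four (hG : ¬ IsMulCommutative G) [Fact (Nat.Prime 5)] {n m r k : ℕ}
    (hn : Nat.card G = n) (hnm : n = 5 * m) (hm : ¬ 5 ∣ m) (hr : (m * r) % 5 = 1) (hk2 : Odd k) (P : Sylow 5 G)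
    (hk : Nat.card (Subgroup.centralizer ((P : Subgroup G) : Set G)) = 5 * k)
    (hrel : (Subgroup.centralizer ((P : Subgroup G) : Set G)).relIndex
      (Subgroup.normalizer ((P : Subgroup G) : Set G)) = 4) (L : List ℤ)
    (hL : ∀ d ∈ n.divisors, 2 ≤ d → d * d < n → ((d : ℤ) % 5 = 1 → (d : ℤ) ∈ L) ∧ ((-(d : ℤ)) % 5 = 1 → -(d : ℤ) ∈ L))
    (X : List ℤ) (hXneg : ∀ x ∈ X, x < 0) (hX : ∀ (χ : IrrCharacter G) (y : G), χ ≠ Char.trivialChar G →
      orderOf y = 5 → (∀ g : G, g ^ (m * r) ≠ 1 → χ.1 g = χ.1 y) → χ.1 y = -1 → (-(charDegree χ.1 : ℤ)) ∉ X)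
    (cs : List ℕ) (hcs : ∀ c ∈ n.divisors.erase n, c ∈ cs)
    (hcheck : checkFour n k (L.filter fun x => !(X.contains x)) cs = true) : False := by
  obtain ⟨Z, w, c, j, hmono, hi, hZ, hw, hc, hsq, hj1, hjk, heq⟩ :=
    exists_index_four_data hG hn hnm hm hr hk2 P hk hrel L hL X hXneg hX
  have hmem : ∀ i, Z i ∈ L.filter fun x => !(X.contains x) := fun i => by
    refine List.mem_filter.2 ⟨(hi i).1, ?_⟩
    simpa using (hi i).2.1
  have hwm : ∀ i, w i ∈ valueRange (Z i) := fun i => mem_valueRange (hi i).2.2.1 (hi i).2.2.2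
  rw [Fin.sum_univ_four] at hZ hw hsq
  simp only [checkFour, List.all_eq_true, Bool.or_eq_true, Bool.not_eq_true', decide_eq_false_iff_not] at hcheck
  have h1 := hcheck _ (hmem 0) _ (hmem 1)
  have h2 := (h1.resolve_left (not_not.2 (hmono (by decide)))) _ (hmem 2)
  have h3 := (h2.resolve_left (not_not.2 (hmono (by decide)))) _ (hmem 3)
  rcases h3 with (h | h) | h
  · exact h (hmono (by decide))
  · exact h hZ
  · rcases h _ (hwm 0) _ (hwm 1) _ (hwm 2) _ (hwm 3) with h | h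
    · exact h hw
    · rcases h c (hcs c hc) with h | h
      · exact h hsq
      · refine h (j - 1) (List.mem_range.2 (by omega)) ?_
        have hp : ∀ i, ∏ l ∈ Finset.univ.erase i, Z l =
            ![Z 1 * Z 2 * Z 3, Z 0 * Z 2 * Z 3, Z 0 * Z 1 * Z 3, Z 0 * Z 1 * Z 2] i := by
          intro i
          rw [← Finset.filter_ne', Finset.prod_filter, Fin.prod_univ_four]
          fin_cases i <;> simp
        simp only [hp, Fin.sum_univ_four, Fin.prod_univ_four] at heq
        rw [show ((j - 1 : ℕ) : ℤ) + 1 = (j : ℤ) by omega]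
        simpa using heq

end Cfsg.Agent.FivePairs
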