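import Cfsg.Agent.Lib.SmallSimple.CentralizerOrbits

/-!
# Sylow subgroups fixed by an element centralising one of them

If every conjugate of `t` in `N(P)` centralises `P`, the Sylow `p`-subgroups fixed by `t` are those
of `C(t)`.
-/

set_option autoImplicit false
set_option linter.style.haveILetI false
set_option linter.unusedSectionVars false

namespace Cfsg.Agent.SmallSimple

open MulAction

variable {G : Type*} [Group G] [Finite G] {p : ℕ} [hp : Fact p.Prime]

/-- A fixed Sylow subgroup is centralised. -/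
theorem le_centralizer_of_smul_eq (P : Sylow p G) {t : G}
    (hcl : ∀ z ∈ Subgroup.normalizer ((P : Subgroup G) : Set G), IsConj t z →
      z ∈ Subgroup.centralizer ((P : Subgroup G) : Set G))
    {Q : Sylow p G} (hQ : t • Q = Q) : (Q : Subgroup G) ≤ Subgroup.centralizer ({t} : Set G) := by
  obtain ⟨g, hg⟩ := exists_smul_eq G P Q
  have hN : g⁻¹ * t * g ∈ Subgroup.normalizer ((P : Subgroup G) : Set G) := by
    rw [← smul_sylow_eq_iff, mul_smul, mul_smul, hg, hQ, ← hg, inv_smul_smul]
  have hC := hcl _ hN (isConj_iff.2 ⟨g⁻¹, by rw [inv_inv]⟩)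
  intro y hy
  rw [← hg, Sylow.coe_subgroup_smul] at hy
  obtain ⟨a, ha, rfl⟩ := Subgroup.mem_map.1 hy
  refine Subgroup.mem_centralizer_singleton_iff.2 ?_
  have h : a * (g⁻¹ * t * g) = g⁻¹ * t * g * a := hC a ha
  show g * a * g⁻¹ * t = t * (g * a * g⁻¹)
  calc g * a * g⁻¹ * t = g * (a * (g⁻¹ * t * g)) * g⁻¹ := by group
    _ = t * (g * a * g⁻¹) := by rw [h]; group

/-- The number of fixed Sylow subgroups, and its class modulo `p`. -/
theorem card_fixed_sylow (P : Sylow p G) (hP : Nat.card (P : Subgroup G) = p) {t : G}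
    (ht : t ∈ Subgroup.centralizer ((P : Subgroup G) : Set G))
    (hcl : ∀ z ∈ Subgroup.normalizer ((P : Subgroup G) : Set G), IsConj t z →
      z ∈ Subgroup.centralizer ((P : Subgroup G) : Set G)) :
    Nat.card {Q : Sylow p G // t • Q = Q} *
        Nat.card ↥(Subgroup.normalizer ((P : Subgroup G) : Set G) ⊓ Subgroup.centralizer ({t} : Set G)) =
      Nat.card (Subgroup.centralizer ({t} : Set G)) ∧
    Nat.card {Q : Sylow p G // t • Q = Q} ≡ 1 [MOD p] := by
  classical
  set C := Subgroup.centralizer ({t} : Set G)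
  have hPfix : t • P = P := smul_sylow_eq_iff.2 (centralizer_le_normalizer _ ht)
  have hle := fun (Q : Sylow p G) (hQ : t • Q = Q) => le_centralizer_of_smul_eq P hcl hQ
  have horb : ∀ Q : Sylow p G, Q ∈ orbit C P ↔ t • Q = Q := by
    intro Q
    constructor
    · rintro ⟨c, rfl⟩
      show t • ((c : G) • P) = (c : G) • P
      rw [← mul_smul, ← Subgroup.mem_centralizer_singleton_iff.1 c.2, mul_smul, hPfix]
    · intro hQ
      obtain ⟨c, hc⟩ := exists_smul_eq C (P.subtype (hle P hPfix)) (Q.subtype (hle Q hQ))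
      refine ⟨c, ?_⟩
      rw [Sylow.smul_subtype] at hc
      exact Sylow.subtype_injective hc
  constructor
  · have h := card_orbit_mul_card_stabilizer (G := C) P
    rw [Nat.card_congr (Equiv.subtypeEquivRight horb)] at h
    rw [← h]
    congr 1
    symm
    refine Nat.card_congr
      { toFun := fun c => ⟨c.1.1, smul_sylow_eq_iff.1 c.2, c.1.2⟩
        invFun := fun g => ⟨⟨g.1, g.2.2⟩, smul_sylow_eq_iff.2 g.2.1⟩
        left_inv := fun _ => rfl
        right_inv := fun _ => rfl }
  · letI actP : MulAction (P : Subgroup G) {Q : Sylow p G // t • Q = Q} :=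
      { smul := fun a Q => ⟨(a : G) • Q.1, by
          rw [← mul_smul, ← ht a a.2, mul_smul, Q.2]⟩
        one_smul := fun Q => Subtype.ext (one_smul G Q.1)
        mul_smul := fun a b Q => Subtype.ext (mul_smul (a : G) (b : G) Q.1) }
    have h := P.isPGroup'.card_modEq_card_fixedPoints (α := {Q : Sylow p G // t • Q = Q})
    refine h.trans (congrArg (· % p) ?_)
    rw [Nat.card_eq_one_iff_unique]
    haveI hne : Nontrivial (P : Subgroup G) := Finite.one_lt_card_iff_nontrivial.1 (by rw [hP]; exact hp.out.one_lt)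
    refine ⟨⟨fun Q Q' => Subtype.ext (Subtype.ext ?_)⟩,
      ⟨⟨⟨P, hPfix⟩, fun a => Subtype.ext (smul_sylow_eq_iff.2 (Subgroup.le_normalizer a.2))⟩⟩⟩
    have key : ∀ R : fixedPoints (P : Subgroup G) {Q : Sylow p G // t • Q = Q}, R.1.1 = P := by
      intro R
      by_contra hR
      obtain ⟨a, ha⟩ := exists_ne (1 : (P : Subgroup G))
      exact ha (Subtype.ext (eq_one_of_smul_eq hP hR a.2 (congrArg Subtype.val (R.2 a))))
    rw [key Q, key Q']

/-- An element of prime order `q` and the points it moves. -/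
theorem card_modEq_fixed {X : Type*} [MulAction G X] [Finite X] {t : G} {q : ℕ} [Fact q.Prime]
    (ht : t ^ q = 1) : Nat.card X ≡ Nat.card {x : X // t • x = x} [MOD q] := by
  have hp' : IsPGroup q (Subgroup.zpowers t) := fun ⟨g, hg⟩ => ⟨1, Subtype.ext (by
    obtain ⟨i, rfl⟩ := Subgroup.mem_zpowers_iff.1 hg
    show (t ^ i) ^ q ^ 1 = 1
    rw [pow_one, ← zpow_natCast, ← zpow_mul, mul_comm, zpow_mul, zpow_natCast, ht, one_zpow])⟩
  refine (hp'.card_modEq_card_fixedPoints (α := X)).trans
    (congrArg (· % q) (Nat.card_congr (Equiv.subtypeEquivRight fun x => ?_)))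
  refine ⟨fun h => h ⟨t, Subgroup.mem_zpowers t⟩, fun h a => ?_⟩
  obtain ⟨g, hg⟩ := a
  exact (show Subgroup.zpowers t ≤ stabilizer G x from Subgroup.zpowers_le.2 h) hg

variable [IsSimpleGroup G]

/-- In a simple group an involution moves a number of points divisible by four. -/
theorem four_dvd_moved (hG : ¬ IsMulCommutative G) {X : Type*} [MulAction G X] [Finite X]
    (hne : ∃ g, toPermHom G X g ≠ 1) {w : G} (hw : orderOf w = 2) :
    4 ∣ Nat.card X - Nat.card {x : X // w • x = x} := by
  classical
  haveI := Fintype.ofFinite X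
  set π := toPermHom G X
  have hπ : orderOf (π w) = 2 := by rw [orderOf_injective π (injective_of_simple π hne), hw]
  have hsign : Equiv.Perm.sign (π w) = 1 := Equiv.Perm.mem_alternatingGroup.1 (mem_alternating_of_simple hG π w)
  obtain ⟨n, hn⟩ := Equiv.Perm.cycleType_prime_order (σ := π w) (by rw [hπ]; exact Nat.prime_two)
  rw [hπ] at hn
  rw [Equiv.Perm.sign_of_cycleType, hn] at hsign
  simp only [Multiset.sum_replicate, Multiset.card_replicate, smul_eq_mul] at hsign
  have hev : Even ((n + 1) * 2 + (n + 1)) := by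
    by_contra h
    rw [(Nat.not_even_iff_odd.1 h).neg_one_pow] at hsign
    exact absurd hsign (by decide)
  have hs : (π w).support.card = (n + 1) * 2 := by
    rw [← Equiv.Perm.sum_cycleType, hn, Multiset.sum_replicate, smul_eq_mul]
  have hF : Nat.card {x : X // w • x = x} = (π w).supportᶜ.card := by
    rw [← Nat.card_eq_finsetCard]
    refine Nat.card_congr (Equiv.subtypeEquivRight fun x => ?_)
    rw [Finset.mem_compl, Equiv.Perm.mem_support, not_not]
    rfl
  have hle := Finset.card_le_univ (π w).support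
  rw [hF, Finset.card_compl, ← Nat.card_eq_fintype_card] at *
  rw [Nat.even_iff] at hev
  omega

end Cfsg.Agent.SmallSimple
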