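import Cfsg.Agent.Lib.SmallSimple.Degree21
import Cfsg.Agent.Lib.Transfer.Burnside

/-!
# No group has exactly 21 Sylow 5-subgroups: the case of Sylow subgroups of order 5
-/

set_option autoImplicit false

namespace Cfsg.Agent.SmallSimple

open MulAction
open scoped commutatorElement

theorem perm_four_facts : ∀ σ : Equiv.Perm (Fin 4), Equiv.Perm.sign σ = 1 → σ ^ 8 = 1 →
    (∀ τ : Equiv.Perm (Fin 4), Equiv.Perm.sign τ = 1 → τ ^ 8 = 1 → σ * τ = τ * σ) ∧
    ((∃ i, σ i = i) → σ = 1) := by decide +kernel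

theorem even_two_perm_four {Y : Type*} [Fintype Y] [DecidableEq Y] (hY : Nat.card Y = 4)
    (σ : Equiv.Perm Y) (hσ : Equiv.Perm.sign σ = 1) (h2 : ∃ a : ℕ, σ ^ 2 ^ a = 1) :
    (∀ τ : Equiv.Perm Y, Equiv.Perm.sign τ = 1 → (∃ a : ℕ, τ ^ 2 ^ a = 1) → σ * τ = τ * σ) ∧
    ((∃ y, σ y = y) → σ = 1) := by
  let e : Y ≃ Fin 4 := Finite.equivFinOfCardEq hY
  have h8 : ∀ τ : Equiv.Perm Y, (∃ a : ℕ, τ ^ 2 ^ a = 1) → (e.permCongrHom τ) ^ 8 = 1 := by
    rintro τ ⟨a, ha⟩
    have h1 : orderOf (e.permCongrHom τ) ∣ 2 ^ a := by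
      apply orderOf_dvd_of_pow_eq_one; rw [← map_pow, ha, map_one]
    have h2 : orderOf (e.permCongrHom τ) ∣ 24 := by
      have := orderOf_dvd_natCard (e.permCongrHom τ)
      rwa [Nat.card_perm, Nat.card_fin] at this
    have h3 : orderOf (e.permCongrHom τ) ∣ 8 := by
      have h3 : Nat.Coprime (orderOf (e.permCongrHom τ)) 3 :=
        Nat.Coprime.coprime_dvd_left h1 (Nat.Coprime.pow_left _ (by decide))
      exact h3.dvd_of_dvd_mul_right (show orderOf (e.permCongrHom τ) ∣ 8 * 3 from h2)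
    exact orderOf_dvd_iff_pow_eq_one.mp h3
  have hs : ∀ τ : Equiv.Perm Y, Equiv.Perm.sign (e.permCongrHom τ) = Equiv.Perm.sign τ :=
    fun τ => Equiv.Perm.sign_permCongr e τ
  obtain ⟨hc, hf⟩ := perm_four_facts (e.permCongrHom σ) ((hs σ).trans hσ) (h8 σ h2)
  refine ⟨fun τ hτ hτ2 => e.permCongrHom.injective ?_, fun ⟨y, hy⟩ => ?_⟩
  · rw [map_mul, map_mul]
    exact hc _ ((hs τ).trans hτ) (h8 τ hτ2)
  · apply (MulEquiv.map_eq_one_iff e.permCongrHom).mp
    exact hf ⟨e y, by simp [Equiv.permCongrHom, hy]⟩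

universe u

variable {G : Type u} [Group G] [Finite G]

theorem pResidual_two_eq_top (hG : Tight21 G) : Cfsg.pResidual 2 G = ⊤ := by
  refine hG.generated _ fun Q x hx => ?_
  rw [Transfer.pResidual_eq_residual]
  refine Transfer.mem_residual_of_coprime ?_
  obtain ⟨k, hk⟩ := (IsPGroup.iff_orderOf.mp Q.isPGroup') ⟨x, hx⟩
  rw [← Subgroup.orderOf_coe] at hk
  rw [hk]
  exact Nat.Coprime.pow_left _ (by decide)

theorem sign_toPerm_eq_one [Fintype (Sylow 5 G)] [DecidableEq (Sylow 5 G)] (hG : Tight21 G) (g : G) :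
    Equiv.Perm.sign (toPermHom G (Sylow 5 G) g) = 1 := by
  set s : G →* ℤˣ := Equiv.Perm.sign.comp (toPermHom G (Sylow 5 G))
  have h : s.ker = ⊤ := hG.generated _ fun Q x hx => by
    rw [MonoidHom.mem_ker]
    obtain ⟨k, hk⟩ := (IsPGroup.iff_orderOf.mp Q.isPGroup') ⟨x, hx⟩
    rw [← Subgroup.orderOf_coe] at hk
    have h1 : s x ^ (5 ^ k) = 1 := by rw [← map_pow, ← hk, pow_orderOf_eq_one, map_one]
    have h5 : 5 ^ k % 2 = 1 := by simp [Nat.pow_mod]
    rwa [Int.units_pow_eq_pow_mod_two, h5, pow_one] at h1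
  have h' : g ∈ s.ker := by rw [h]; trivial
  exact MonoidHom.mem_ker.mp h'

section Point

variable (hG : Tight21 G) (P : Sylow 5 G) (h5 : Nat.card (P : Subgroup G) = 5)

theorem other_ne {n : G} (hn : n ∈ Subgroup.normalizer ((P : Subgroup G) : Set G))
    {Q : Sylow 5 G} (hQ : Q ≠ P) : n • Q ≠ P := fun hc => hQ (by
  rw [← Sylow.smul_eq_iff_mem_normalizer.mpr hn] at hc
  exact MulAction.injective n hc)

/-- The relation "same orbit of `P`" on the other points. -/
def otherRel : Setoid {Q : Sylow 5 G // Q ≠ P} where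
  r a b := ∃ x : (P : Subgroup G), x • a.1 = b.1
  iseqv :=
    ⟨fun a => ⟨1, one_smul _ _⟩, fun ⟨x, hx⟩ => ⟨x⁻¹, by rw [← hx, inv_smul_smul]⟩,
      fun ⟨x, hx⟩ ⟨y, hy⟩ => ⟨y * x, by rw [mul_smul, hx, hy]⟩⟩

/-- The four orbits of `P` on the other points. -/
abbrev OtherOrbit := Quotient (otherRel P)

theorem other_rel_smul {n : G} (hn : n ∈ Subgroup.normalizer ((P : Subgroup G) : Set G))
    {a b : {Q : Sylow 5 G // Q ≠ P}} (h : (otherRel P) a b) :
    (otherRel P) ⟨n • a.1, other_ne P hn a.2⟩ ⟨n • b.1, other_ne P hn b.2⟩ := by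
  obtain ⟨x, hx⟩ := h
  refine ⟨⟨n * x * n⁻¹, (Subgroup.mem_normalizer_iff.mp hn _).mp x.2⟩, ?_⟩
  show (n * (x : G) * n⁻¹) • n • a.1 = n • b.1
  rw [← hx, ← mul_smul, inv_mul_cancel_right, mul_smul]
  rfl

/-- Action of the normalizer on the orbits. -/
def otherAct : MulAction (Subgroup.normalizer ((P : Subgroup G) : Set G)) (OtherOrbit P) where
  smul n := Quotient.map (fun a => ⟨(n : G) • a.1, other_ne P n.2 a.2⟩)
    (fun _ _ h => other_rel_smul P n.2 h)
  mul_smul a b q := Quotient.inductionOn q fun x =>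
    congrArg (Quotient.mk _) (Subtype.ext (mul_smul (a : G) (b : G) x.1))
  one_smul q := Quotient.inductionOn q fun x => congrArg (Quotient.mk _) (Subtype.ext (one_smul G x.1))

include hG in
theorem semiregular (h5 : Nat.card (P : Subgroup G) = 5) {Q : Sylow 5 G} (hQ : Q ≠ P)
    {x y : (P : Subgroup G)} (h : x • Q = y • Q) : x = y := by
  have hbij : Function.Bijective (fun z : (P : Subgroup G) =>
      (⟨z • Q, mem_orbit _ _⟩ : orbit (P : Subgroup G) Q)) := by
    rw [Nat.bijective_iff_surjective_and_card]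
    refine ⟨?_, by rw [h5, card_orbit_five hG P Q hQ]⟩
    rintro ⟨_, z, rfl⟩
    exact ⟨z, rfl⟩
  exact hbij.1 (Subtype.ext h)

include hG h5 in
theorem normalizer_orbit_data :
    ∃ (Ω : Type u) (_ : Fintype Ω) (_ : DecidableEq Ω)
      (π : Subgroup.normalizer ((P : Subgroup G) : Set G) →* Equiv.Perm Ω),
      Nat.card Ω = 4 ∧ (∀ n, Equiv.Perm.sign (π n) = 1) ∧
      (∀ n : Subgroup.normalizer ((P : Subgroup G) : Set G),
        (∃ Q : Sylow 5 G, Q ≠ P ∧ (n : G) • Q = Q) → ∃ ω, π n ω = ω) ∧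
      (∀ n : Subgroup.normalizer ((P : Subgroup G) : Set G), π n = 1 →
        (∀ x ∈ (P : Subgroup G), (n : G) * x = x * n) → Nat.Coprime (orderOf n) 5 → n = 1) := by
  classical
  set N := Subgroup.normalizer ((P : Subgroup G) : Set G)
  have := Fintype.ofFinite (Sylow 5 G)
  have := Fintype.ofFinite (P : Subgroup G)
  let act := otherAct P
  have hfin : Finite (OtherOrbit P) := Quotient.finite _
  have := Fintype.ofFinite (OtherOrbit P)
  set π := toPermHom N (OtherOrbit P)
  let r : OtherOrbit P → {Q : Sylow 5 G // Q ≠ P} := fun ω => ω.out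
  have hr : ∀ ω, Quotient.mk _ (r ω) = ω := fun ω => Quotient.out_eq ω
  let f : OtherOrbit P × (P : Subgroup G) → {Q : Sylow 5 G // Q ≠ P} := fun p =>
    ⟨(p.2 : G) • (r p.1).1, other_ne P (Subgroup.le_normalizer p.2.2) (r p.1).2⟩
  have hf : Function.Bijective f := by
    constructor
    · rintro ⟨ω, x⟩ ⟨ω', x'⟩ h
      have h' : x • (r ω).1 = x' • (r ω').1 := congrArg Subtype.val h
      have hω : ω = ω' := by
        rw [← hr ω, ← hr ω']
        exact Quotient.sound ⟨x'⁻¹ * x, by rw [mul_smul, h', inv_smul_smul]⟩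
      subst hω
      rw [semiregular hG P h5 (r ω).2 h']
    · intro a
      obtain ⟨x, hx⟩ : (otherRel P) (r (Quotient.mk _ a)) a := Quotient.exact (hr _)
      exact ⟨(Quotient.mk _ a, x), Subtype.ext hx⟩
  have hΩ : Nat.card (OtherOrbit P) = 4 := by
    have h1 := Nat.card_congr (Equiv.ofBijective f hf)
    have h20 : Nat.card {Q : Sylow 5 G // Q ≠ P} = 20 := by
      rw [Nat.card_eq_fintype_card, Fintype.card_subtype_compl, Fintype.card_subtype_eq,
        ← Nat.card_eq_fintype_card, hG.card_eq]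
    rw [Nat.card_prod, h20, h5] at h1
    omega
  refine ⟨OtherOrbit P, inferInstance, inferInstance, π, hΩ, fun n => ?_, ?_, ?_⟩
  · -- sign
    let res : Equiv.Perm {Q : Sylow 5 G // Q ≠ P} :=
      (toPermHom G (Sylow 5 G) (n : G)).subtypePerm (fun Q => ⟨fun h hc =>
        h (by rw [hc]; exact Sylow.smul_eq_iff_mem_normalizer.mpr n.2),
        fun h => other_ne P n.2 h⟩)
    have hres : Equiv.Perm.sign res = 1 :=
      (Equiv.Perm.sign_subtypePerm _ _ fun Q (hQ : (n : G) • Q ≠ Q) (hc : Q = P) =>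
        hQ (by rw [hc]; exact Sylow.smul_eq_iff_mem_normalizer.mpr n.2)).trans
        (sign_toPerm_eq_one hG n)
    have hc : ∀ ω, ∃ x : (P : Subgroup G), x • (r (π n ω)).1 = (n : G) • (r ω).1 := fun ω => by
      have : Quotient.mk _ (r (π n ω)) = π n ω := hr _
      conv_rhs at this => rw [← hr ω]
      exact Quotient.exact this
    choose c hc using hc
    let α : Equiv.Perm (P : Subgroup G) := ((P : Subgroup G).normalizerMonoidHom n).toEquiv
    have hα : ∀ x, (α x : G) = (n : G) * x * (n : G)⁻¹ := fun x => rfl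
    let σ : Equiv.Perm (OtherOrbit P × (P : Subgroup G)) :=
      Equiv.prodCongrLeft (fun _ => π n) * Equiv.prodCongrRight (fun ω => α.trans (Equiv.mulRight (c ω)))
    have hσ : Equiv.Perm.sign σ = Equiv.Perm.sign res := by
      refine Equiv.Perm.sign_eq_sign_of_equiv _ _ (Equiv.ofBijective f hf) ?_
      rintro ⟨ω, x⟩
      apply Subtype.ext
      show ((α x * c ω : (P : Subgroup G)) : G) • (r (π n ω)).1 = (n : G) • (x : G) • (r ω).1
      rw [Subgroup.coe_mul, mul_smul]
      have := hc ω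
      rw [Subgroup.smul_def] at this
      rw [this, hα, ← mul_smul, inv_mul_cancel_right, mul_smul]
    have hmr : ∀ z : (P : Subgroup G), Equiv.Perm.sign (Equiv.mulRight z) = 1 := fun z => by
      have h1 : Equiv.Perm.sign (Equiv.mulRight z) ^ 5 = 1 := by
        rw [← map_pow, ← map_one (Equiv.Perm.sign (α := (P : Subgroup G)))]
        congr 1
        rw [Equiv.pow_mulRight, show z ^ 5 = 1 from (congrArg (z ^ ·) h5).symm.trans pow_card_eq_one', Equiv.mulRight_one]
      rwa [Int.units_pow_eq_pow_mod_two, show 5 % 2 = 1 from rfl, pow_one] at h1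
    rw [map_mul, Equiv.Perm.sign_prodCongrLeft, Equiv.Perm.sign_prodCongrRight, Finset.prod_const,
      Finset.card_univ, ← Nat.card_eq_fintype_card, h5] at hσ
    simp only [Equiv.Perm.sign_trans, hmr, one_mul, Finset.prod_const, Finset.card_univ,
      ← Nat.card_eq_fintype_card, hΩ, hres] at hσ
    rwa [Int.units_pow_eq_pow_mod_two _ 4, Int.units_pow_eq_pow_mod_two _ 5,
      show 4 % 2 = 0 from rfl, show 5 % 2 = 1 from rfl, pow_one, pow_zero, mul_one] at hσ
  · rintro n ⟨Q, hQ, hn⟩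
    exact ⟨Quotient.mk _ ⟨Q, hQ⟩, congrArg (Quotient.mk _) (Subtype.ext hn)⟩
  · intro n hn hcomm hcop
    apply Subtype.ext
    refine hG.faithful _ fun Q => ?_
    by_cases hQ : Q = P
    · rw [hQ]; exact Sylow.smul_eq_iff_mem_normalizer.mpr n.2
    · have h1 : π n (Quotient.mk _ ⟨Q, hQ⟩) = Quotient.mk _ ⟨Q, hQ⟩ := by rw [hn]; rfl
      obtain ⟨x, hx⟩ := Quotient.exact h1
      have hx' : (n : G) • Q = ((x⁻¹ : (P : Subgroup G)) : G) • Q := by
        rw [← Subgroup.smul_def]; exact eq_inv_smul_iff.mpr hx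
      have hpow : ∀ i : ℕ, ((n : G) ^ i) • Q = (((x⁻¹) ^ i : (P : Subgroup G)) : G) • Q := by
        intro i
        induction i with
        | zero => simp
        | succ i ih =>
          rw [pow_succ', mul_smul, ih, ← mul_smul, hcomm _ ((x⁻¹) ^ i).2, mul_smul, hx', ← mul_smul,
            ← Subgroup.coe_mul, ← pow_succ]
      have h2 := hpow (orderOf n)
      rw [← SubgroupClass.coe_pow, pow_orderOf_eq_one, OneMemClass.coe_one, one_smul] at h2
      have h3 : ((x⁻¹) ^ orderOf n : (P : Subgroup G)) = 1 :=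
        semiregular hG P h5 hQ (by rw [one_smul]; exact h2.symm)
      have h4 : x⁻¹ = 1 := by
        have hd1 := orderOf_dvd_of_pow_eq_one h3
        have hd2 : orderOf (x⁻¹) ∣ 5 := (orderOf_dvd_natCard _).trans (dvd_of_eq h5)
        exact orderOf_eq_one_iff.mp (Nat.eq_one_of_dvd_coprimes hcop hd1 hd2)
      rw [hx', h4, OneMemClass.coe_one, one_smul]

end Point

theorem sylow_two_centralizes (hG : Tight21 G) (P : Sylow 5 G) (h5 : Nat.card (P : Subgroup G) = 5)
    (T : Sylow 2 G) (hT : (T : Subgroup G) ≤ Subgroup.normalizer ((P : Subgroup G) : Set G)) :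
    (T : Subgroup G) ≤ Subgroup.centralizer ((P : Subgroup G) : Set G) := by
  classical
  have : Fact (Nat.Prime 2) := ⟨Nat.prime_two⟩
  set N := Subgroup.normalizer ((P : Subgroup G) : Set G) with hN
  obtain ⟨Ω, _, _, π, hΩ, hsign, hfix, hker⟩ := normalizer_orbit_data hG P h5
  have hcyc : IsCyclic (P : Subgroup G) := isCyclic_of_prime_card h5
  set φ : N →* MulAut (P : Subgroup G) := (P : Subgroup G).normalizerMonoidHom
  have hφker : ∀ n : N, φ n = 1 → ∀ x ∈ (P : Subgroup G), (n : G) * x = x * n := fun n hn x hx => by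
    have := congrArg Subtype.val (show φ n ⟨x, hx⟩ = ⟨x, hx⟩ by rw [hn]; rfl)
    exact mul_inv_eq_iff_eq_mul.mp this
  have hφcomm : ∀ a b : N, φ a * φ b = φ b * φ a := fun a b =>
    (IsCyclic.mulAutMulEquiv (P : Subgroup G)).injective (by rw [map_mul, map_mul, mul_comm])
  have h2el : ∀ t : N, (t : G) ∈ (T : Subgroup G) → ∃ a : ℕ, orderOf t = 2 ^ a := fun t ht => by
    obtain ⟨a, ha⟩ := (IsPGroup.iff_orderOf.mp T.isPGroup') ⟨t, ht⟩
    exact ⟨a, by rw [← Subgroup.orderOf_coe, ← ha, ← Subgroup.orderOf_coe]⟩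
  have hπ2 : ∀ t : N, (t : G) ∈ (T : Subgroup G) → ∃ a : ℕ, π t ^ 2 ^ a = 1 := fun t ht => by
    obtain ⟨a, ha⟩ := h2el t ht
    exact ⟨a, by rw [← map_pow, ← ha, pow_orderOf_eq_one, map_one]⟩
  have htriv : ∀ t : N, (t : G) ∈ (T : Subgroup G) → φ t = 1 → π t = 1 → t = 1 := fun t ht h1 h2 => by
    obtain ⟨a, ha⟩ := h2el t ht
    exact hker t h2 (hφker t h1) (ha ▸ Nat.Coprime.pow_left _ (by decide))
  by_cases hcase : ∀ t : N, (t : G) ∈ (T : Subgroup G) → π t = 1
  · -- T embeds in Aut P, so is cyclic, so trivial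
    let ψ : (T : Subgroup G) →* MulAut (P : Subgroup G) := φ.comp (Subgroup.inclusion hT)
    have hinj : Function.Injective ψ := by
      rw [← MonoidHom.ker_eq_bot_iff, eq_bot_iff]
      intro t ht
      rw [Subgroup.mem_bot]
      have h1 := htriv (Subgroup.inclusion hT t) t.2 ht (hcase _ t.2)
      exact Subgroup.inclusion_injective hT (h1.trans (map_one _).symm)
    have hA : IsCyclic (MulAut (P : Subgroup G)) := by
      have e := IsCyclic.mulAutMulEquiv (P : Subgroup G)
      have h5' : IsCyclic (ZMod (Nat.card (P : Subgroup G)))ˣ := by rw [h5]; infer_instance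
      exact isCyclic_of_surjective e.symm.toMonoidHom e.symm.surjective
    have hTc : IsCyclic (T : Subgroup G) := isCyclic_of_injective ψ hinj
    by_cases h2 : 2 ∣ Nat.card G
    · exfalso
      have hmin : (Nat.card G).minFac = 2 := (Nat.minFac_eq_two_iff _).mpr h2
      have hcompl := hTc.isComplement' hmin
      have hle := Transfer.pResidual_le_of_isComplement'_sylow T hcompl
      rw [pResidual_two_eq_top hG, top_le_iff] at hle
      rw [hle, Subgroup.isComplement'_top_left] at hcompl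
      exact T.ne_bot_of_dvd_card h2 hcompl
    · intro t ht
      obtain ⟨a, ha⟩ := (IsPGroup.iff_orderOf.mp T.isPGroup') ⟨t, ht⟩
      rw [← Subgroup.orderOf_coe] at ha
      rcases a with _ | a
      · rw [pow_zero, orderOf_eq_one_iff] at ha
        rw [show t = 1 from ha]
        exact one_mem _
      · exfalso
        apply h2
        exact (Dvd.intro_left _ (pow_succ 2 a).symm).trans (ha ▸ orderOf_dvd_natCard t)
  · push Not at hcase
    obtain ⟨t₀, ht₀, hne₀⟩ := hcase
    have hTab : IsMulCommutative (T : Subgroup G) := by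
      refine ⟨⟨fun a b => ?_⟩⟩
      set s : N := Subgroup.inclusion hT a
      set t : N := Subgroup.inclusion hT b
      apply Subgroup.inclusion_injective hT
      rw [map_mul, map_mul, ← commutatorElement_eq_one_iff_mul_comm]
      refine htriv _ ?_ ?_ ?_
      · exact (⁅a, b⁆ : (T : Subgroup G)).2
      · rw [map_commutatorElement, commutatorElement_eq_one_iff_mul_comm]; exact hφcomm _ _
      · rw [map_commutatorElement, commutatorElement_eq_one_iff_mul_comm]
        exact (even_two_perm_four hΩ _ (hsign _) (hπ2 _ a.2)).1 _ (hsign _) (hπ2 _ b.2)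
    have honly : ∀ Q : Sylow 5 G, (∀ t ∈ (T : Subgroup G), t • Q = Q) → Q = P := by
      intro Q hQ
      by_contra hne
      exact hne₀ ((even_two_perm_four hΩ _ (hsign _) (hπ2 _ ht₀)).2
        (hfix t₀ ⟨Q, hne, hQ _ ht₀⟩))
    have hNT : Subgroup.normalizer ((T : Subgroup G) : Set G) ≤ N := by
      intro n hn
      apply Sylow.smul_eq_iff_mem_normalizer.mp
      refine honly _ fun t ht => ?_
      have h1 : n⁻¹ * t * n ∈ (T : Subgroup G) := (Subgroup.mem_normalizer_iff''.mp hn t).mp ht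
      have h2 : (n⁻¹ * t * n) • P = P := Sylow.smul_eq_iff_mem_normalizer.mpr (hT h1)
      rw [mul_smul, mul_smul, inv_smul_eq_iff] at h2
      exact h2
    have hfoc := Transfer.inf_pResidual_eq_commutator_normalizer T hTab
    rw [pResidual_two_eq_top hG, inf_top_eq] at hfoc
    rw [hfoc, Subgroup.commutator_le]
    intro t ht n hn
    rw [Subgroup.mem_centralizer_iff]
    intro x hx
    have h1 : φ ⁅(⟨t, hT ht⟩ : N), ⟨n, hNT hn⟩⁆ = 1 := by
      rw [map_commutatorElement, commutatorElement_eq_one_iff_mul_comm]; exact hφcomm _ _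
    exact (hφker _ h1 x hx).symm

/-- With Sylow 5-subgroups of order 5, the normalizer centralizes. -/
theorem normalizer_centralizes (hG : Tight21 G) (h5 : ∀ P : Sylow 5 G, Nat.card (P : Subgroup G) = 5) :
    ∃ P : Sylow 5 G, Subgroup.normalizer ((P : Subgroup G) : Set G) ≤
      Subgroup.centralizer ((P : Subgroup G) : Set G) := by
  classical
  have : Fact (Nat.Prime 2) := ⟨Nat.prime_two⟩
  obtain ⟨T⟩ : Nonempty (Sylow 2 G) := inferInstance
  obtain ⟨P, hP⟩ : (fixedPoints (T : Subgroup G) (Sylow 5 G)).Nonempty :=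
    T.isPGroup'.nonempty_fixed_point_of_prime_not_dvd_card _ (by rw [hG.card_eq]; decide)
  have hT : (T : Subgroup G) ≤ Subgroup.normalizer ((P : Subgroup G) : Set G) := fun t ht =>
    Sylow.smul_eq_iff_mem_normalizer.mp (hP ⟨t, ht⟩)
  have hTC := sylow_two_centralizes hG P (h5 P) T hT
  refine ⟨P, ?_⟩
  set N := Subgroup.normalizer ((P : Subgroup G) : Set G)
  set C := Subgroup.centralizer ((P : Subgroup G) : Set G)
  have hd : C.relIndex N ∣ T.index :=
    (Subgroup.relIndex_dvd_of_le_left _ hTC).trans (Subgroup.relIndex_dvd_index_of_le hT)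
  have hcyc : IsCyclic (P : Subgroup G) := isCyclic_of_prime_card (h5 P)
  have h4 : C.relIndex N ∣ 4 := by
    have h := Subgroup.card_subgroup_dvd_card (P : Subgroup G).normalizerMonoidHom.range
    rw [← Subgroup.index_ker, Subgroup.normalizerMonoidHom_ker, hcyc.card_mulAut, h5 P,
      Nat.totient_prime (by norm_num : Nat.Prime 5)] at h
    exact h
  rw [← Subgroup.relIndex_eq_one]
  have hodd : ¬ 2 ∣ T.index := T.not_dvd_index
  obtain ⟨i, hi, hi'⟩ := (Nat.dvd_prime_pow Nat.prime_two (m := 2)).mp (h4.trans (by norm_num))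
  rcases i with _ | i
  · exact hi'.trans (pow_zero 2)
  · exact absurd ((Dvd.intro_left _ (pow_succ 2 i).symm).trans (hi' ▸ hd)) hodd

/-- The case of Sylow 5-subgroups of order 5 is impossible. -/
theorem no_tight21_small (hG : Tight21 G) (h5 : ∀ P : Sylow 5 G, Nat.card (P : Subgroup G) = 5) :
    False := by
  classical
  have : Fact (Nat.Prime 7) := ⟨by norm_num⟩
  obtain ⟨P, hNC⟩ := normalizer_centralizes hG h5
  set N := Subgroup.normalizer ((P : Subgroup G) : Set G)
  obtain ⟨Ω, _, _, π, hΩ, -, -, hker⟩ := normalizer_orbit_data hG P (h5 P)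
  have h7N : ¬ 7 ∣ Nat.card N := by
    intro hd
    obtain ⟨y, hy⟩ := exists_prime_orderOf_dvd_card' (G := N) 7 hd
    have h1 : π y = 1 := by
      have hd1 : orderOf (π y) ∣ 7 := hy ▸ orderOf_map_dvd π y
      have hd2 : orderOf (π y) ∣ 24 := by
        have h := orderOf_dvd_natCard (π y)
        have e : Ω ≃ Fin 4 := Finite.equivFinOfCardEq hΩ
        rwa [Nat.card_congr e.permCongr, Nat.card_perm, Nat.card_fin] at h
      exact orderOf_eq_one_iff.mp (Nat.eq_one_of_dvd_coprimes (by decide) hd1 hd2)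
    have h2 := hker y h1 (fun x hx => (Subgroup.mem_centralizer_iff.mp (hNC y.2) x hx).symm)
      (by rw [hy]; decide)
    rw [h2, orderOf_one] at hy
    omega
  have hcardN : ∀ Q : Sylow 5 G,
      Nat.card (Subgroup.normalizer ((Q : Subgroup G) : Set G)) = Nat.card N := fun Q => by
    have h1 := card_sylow_mul_card_normalizer Q
    have h2 := card_sylow_mul_card_normalizer P
    rw [← h2] at h1
    exact Nat.eq_of_mul_eq_mul_left Nat.card_pos h1
  set M := (MonoidHom.transferSylow P hNC).ker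
  have hcompl := MonoidHom.ker_transferSylow_isComplement' P hNC
  have hM5 : ¬ 5 ∣ Nat.card M := MonoidHom.not_dvd_card_ker_transferSylow P hNC
  have hMG : Nat.card M * 5 = 21 * Nat.card N := by
    rw [← h5 P, hcompl.card_mul_card, ← hG.card_eq]
    exact (card_sylow_mul_card_normalizer P).symm
  have h7M : 7 ∣ Nat.card M := by omega
  obtain ⟨Q⟩ : Nonempty (Sylow 7 M) := inferInstance
  have hQ7 : Nat.card (Q : Subgroup M) = 7 := by
    obtain ⟨k, hk⟩ := Q.isPGroup'.exists_card_eq
    have h1 := Q.dvd_card_of_dvd_card h7M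
    rw [hk] at h1 ⊢
    rcases Nat.lt_or_ge k 2 with hk2 | hk2
    · interval_cases k
      · norm_num at h1
      · norm_num
    · exfalso
      apply h7N
      have h2 : 7 ^ 2 ∣ Nat.card M :=
        ((pow_dvd_pow 7 hk2).trans (dvd_of_eq hk.symm)).trans (Subgroup.card_subgroup_dvd_card _)
      omega
  set Q' : Subgroup G := (Q : Subgroup M).map M.subtype
  have hsup := Sylow.normalizer_sup_eq_top Q
  have h5N : 5 ∣ Nat.card (Subgroup.normalizer (Q' : Set G)) := by
    have h1 := Subgroup.card_mul_index (Subgroup.normalizer (Q' : Set G))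
    have h2 := SylowCount.relIndex_self_sup (Subgroup.normalizer (Q' : Set G)) M
    rw [hsup, Subgroup.relIndex_top_right] at h2
    have h3 : 5 ∣ Nat.card (Subgroup.normalizer (Q' : Set G)) * (Subgroup.normalizer (Q' : Set G)).index := by
      rw [h1, ← hcompl.card_mul_card]
      exact Dvd.intro_left _ (congrArg _ (h5 P).symm)
    rcases (Nat.Prime.dvd_mul (by norm_num)).mp h3 with h | h
    · exact h
    · exfalso
      rw [h2] at h
      exact hM5 (h.trans (Subgroup.relIndex_dvd_card _ _))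
  obtain ⟨x, hx⟩ := exists_prime_orderOf_dvd_card' (G := Subgroup.normalizer (Q' : Set G)) 5 h5N
  have hQ'7 : Nat.card Q' = 7 := by rw [Subgroup.card_map_of_injective M.subtype_injective, hQ7]
  -- x centralizes Q'
  have hxC : ∀ y ∈ Q', (x : G) * y = y * x := by
    have hc : IsCyclic Q' := isCyclic_of_prime_card hQ'7
    have h1 : Q'.normalizerMonoidHom x = 1 := by
      have hd1 : orderOf (Q'.normalizerMonoidHom x) ∣ 5 := hx ▸ orderOf_map_dvd _ x
      have hd2 : orderOf (Q'.normalizerMonoidHom x) ∣ 6 := by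
        have h := orderOf_dvd_natCard (Q'.normalizerMonoidHom x)
        rwa [hc.card_mulAut, hQ'7, Nat.totient_prime (by norm_num : Nat.Prime 7)] at h
      exact orderOf_eq_one_iff.mp (Nat.eq_one_of_dvd_coprimes (by decide) hd1 hd2)
    intro y hy
    have h2 := congrArg Subtype.val
      (show Q'.normalizerMonoidHom x ⟨y, hy⟩ = ⟨y, hy⟩ by rw [h1]; rfl)
    exact mul_inv_eq_iff_eq_mul.mp h2
  have hxo : orderOf (x : G) = 5 := by rw [Subgroup.orderOf_coe]; exact hx
  obtain ⟨P', hP'⟩ := (IsPGroup.of_card (p := 5) (n := 1) (G := Subgroup.zpowers (x : G))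
    (by rw [Nat.card_zpowers, hxo, pow_one])).exists_le_sylow
  have hz : Subgroup.zpowers (x : G) = (P' : Subgroup G) :=
    Subgroup.eq_of_le_of_card_ge hP' (by rw [h5 P', Nat.card_zpowers, hxo])
  have hle : Q' ≤ Subgroup.normalizer ((P' : Subgroup G) : Set G) := by
    rw [← hz]
    refine le_trans (fun y hy => ?_) (Subgroup.centralizer_le_normalizer _)
    rw [Subgroup.mem_centralizer_iff]
    intro z hz'
    obtain ⟨i, rfl⟩ := Subgroup.mem_zpowers_iff.mp hz'
    exact ((show Commute (x : G) y from hxC y hy).zpow_left i).eq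
  apply h7N
  have := Subgroup.card_dvd_of_le hle
  rwa [hQ'7, hcardN P'] at this

end Cfsg.Agent.SmallSimple
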