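import Cfsg.Agent.Lib.SmallSimple.No5040Frobenius
import Cfsg.Agent.Lib.SmallSimple.SylowFixed
import Cfsg.Agent.Lib.SmallSimple.FiveThirtySix
import Cfsg.Agent.Lib.Blocks.SecondMain
import Cfsg.Agent.S1010

/-!
# No simple group of order 5040
-/

set_option autoImplicit false
set_option linter.style.haveILetI false
set_option linter.unusedSectionVars false

namespace Cfsg.Agent.SmallSimple.No5040

open Cfsg Cfsg.Agent MulAction

variable {G : Type*} [Group G] [Finite G]

/-- An element normalising a cyclic group generated by `f` and of order 2 modulo the centraliser. -/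
theorem inverts_of_sq_mem {q : ℕ} [hq : Fact q.Prime] {f z : G} (hf : orderOf f = q)
    (hzf : z * f * z⁻¹ ∈ Subgroup.zpowers f) (hz : z * z = 1)
    (hC : z ∉ Subgroup.centralizer ({f} : Set G)) : z * f * z⁻¹ = f⁻¹ := by
  set y := f * (z * f * z⁻¹) with hy
  obtain ⟨i, hi⟩ := Subgroup.mem_zpowers_iff.1 hzf
  have hzy : z * y * z⁻¹ = y := by
    have h1 : Commute f (z * f * z⁻¹) := hi ▸ (Commute.refl f).zpow_right i
    rw [hy, show z * (f * (z * f * z⁻¹)) * z⁻¹ = (z * f * z⁻¹) * ((z * z) * f * (z * z)⁻¹) by group, hz,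
      one_mul, inv_one, mul_one]
    exact h1.eq.symm
  by_contra hne
  have hy1 : y ≠ 1 := fun h => hne (eq_inv_of_mul_eq_one_right h)
  have hymem : y ∈ Subgroup.zpowers f := mul_mem (Subgroup.mem_zpowers f) hzf
  have heq : Subgroup.zpowers y = Subgroup.zpowers f := by
    refine Subgroup.eq_of_le_of_card_ge (Subgroup.zpowers_le.2 hymem) ?_
    rw [Nat.card_zpowers, Nat.card_zpowers, hf]
    have hd : orderOf y ∣ q := by
      have := Subgroup.orderOf_dvd_natCard _ hymem
      rwa [Nat.card_zpowers, hf] at this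
    rcases hq.out.eq_one_or_self_of_dvd _ hd with h | h
    · exact absurd (orderOf_eq_one_iff.1 h) hy1
    · exact h.ge
  apply hC
  rw [Subgroup.mem_centralizer_singleton_iff]
  have hcy : Commute z y := mul_inv_eq_iff_eq_mul.1 hzy
  obtain ⟨m, hm⟩ := Subgroup.mem_zpowers_iff.1 (heq ▸ Subgroup.mem_zpowers f : f ∈ Subgroup.zpowers y)
  rw [← hm]
  exact (hcy.zpow_right m).eq

/-- The data of a Sylow 7-subgroup. -/
theorem seven_data (hn : Nat.card G = 5040) (P : Sylow 7 G) [Fact (Nat.Prime 7)] :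
    Nat.card (P : Subgroup G) = 7 ∧
      (∀ x ∈ (P : Subgroup G), x ≠ 1 → Subgroup.centralizer ({x} : Set G) =
        Subgroup.centralizer ((P : Subgroup G) : Set G)) ∧
      (P : Subgroup G) ≤ Subgroup.centralizer ((P : Subgroup G) : Set G) ∧
      (¬ 5 ∣ Nat.card (Subgroup.centralizer ((P : Subgroup G) : Set G)) →
        ∀ g f : G, orderOf g = 7 → orderOf f = 5 → ¬ Commute g f) := by
  have hP : ∀ Q : Sylow 7 G, Nat.card (Q : Subgroup G) = 7 := fun Q => by
    rw [card_sylow_subgroup (k := 1) (m := 720) (by rw [hn]; norm_num) (by norm_num) Q, pow_one]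
  have hgen : ∀ (Q : Sylow 7 G), ∀ x ∈ (Q : Subgroup G), x ≠ 1 → Subgroup.zpowers x = (Q : Subgroup G) := by
    intro Q x hx hx1
    refine Subgroup.eq_of_le_of_card_ge (Subgroup.zpowers_le.2 hx) ?_
    rw [Nat.card_zpowers, hP Q]
    rcases (Nat.dvd_prime (by norm_num : Nat.Prime 7)).1 (hP Q ▸ Subgroup.orderOf_dvd_natCard _ hx) with h | h
    · exact absurd (orderOf_eq_one_iff.1 h) hx1
    · exact h.ge
  refine ⟨hP P, fun x hx hx1 => ?_, ?_, fun h5 g f hg hf hgf => h5 ?_⟩
  · rw [← Blocks.centralizer_zpowers_eq, hgen P x hx hx1]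
  · haveI : IsCyclic (P : Subgroup G) := isCyclic_of_prime_card (hP P)
    have := IsCyclic.isMulCommutative (α := (P : Subgroup G))
    exact fun a ha b hb => congrArg Subtype.val (mul_comm' (⟨b, hb⟩ : (P : Subgroup G)) ⟨a, ha⟩)
  · obtain ⟨Q, hQ⟩ := IsPGroup.exists_le_sylow (IsPGroup.of_card (p := 7) (n := 1)
      (by rw [Nat.card_zpowers, hg, pow_one]) : IsPGroup 7 (Subgroup.zpowers g))
    obtain ⟨c, hc⟩ := MulAction.exists_smul_eq G Q P
    have hgP : c * g * c⁻¹ ∈ (P : Subgroup G) := by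
      rw [← hc, Sylow.coe_subgroup_smul]
      exact Subgroup.mem_map.2 ⟨g, hQ (Subgroup.mem_zpowers g), rfl⟩
    have hfC : c * f * c⁻¹ ∈ Subgroup.centralizer ((P : Subgroup G) : Set G) := by
      rw [← hgen P _ hgP (fun h => by rw [conj_eq_one_iff.1 h, orderOf_one] at hg; omega),
        Blocks.centralizer_zpowers_eq, Subgroup.mem_centralizer_singleton_iff]
      calc c * f * c⁻¹ * (c * g * c⁻¹) = c * (f * g) * c⁻¹ := by group
        _ = c * g * c⁻¹ * (c * f * c⁻¹) := by rw [← hgf.eq]; group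
    have := Subgroup.orderOf_dvd_natCard _ hfC
    rwa [← MulAut.conj_apply, MulEquiv.orderOf_eq, hf] at this

variable [IsSimpleGroup G]

/-- `n₇ = 120`, centraliser of order 14. -/
theorem false_fourteen (hG : ¬ IsMulCommutative G) (hn : Nat.card G = 5040) [Fact (Nat.Prime 7)] (P : Sylow 7 G)
    (hs : Nat.card (Sylow 7 G) = 120) (hN : Nat.card (Subgroup.normalizer ((P : Subgroup G) : Set G)) = 42)
    (hC : Nat.card (Subgroup.centralizer ((P : Subgroup G) : Set G)) = 14) : False := by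
  classical
  haveI : Fact (Nat.Prime 2) := ⟨Nat.prime_two⟩
  obtain ⟨hP, hcentx, hPC, -⟩ := seven_data hn P
  set N := Subgroup.normalizer ((P : Subgroup G) : Set G) with hNdef
  set C := Subgroup.centralizer ((P : Subgroup G) : Set G) with hCdef
  have hCN : C ≤ N := centralizer_le_normalizer _
  obtain ⟨⟨j, hjC⟩, hj⟩ := exists_prime_orderOf_dvd_card' (G := C) 2 (by rw [hC]; norm_num)
  rw [Subgroup.orderOf_mk] at hj
  have hj2 : j * j = 1 := by rw [← sq, ← hj, pow_orderOf_eq_one]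
  have hPidx : ((P : Subgroup G).subgroupOf C).index = 2 := by
    have h := Subgroup.card_mul_index ((P : Subgroup G).subgroupOf C)
    rw [Nat.card_congr (Subgroup.subgroupOfEquivOfLe hPC).toEquiv, hP, hC] at h
    omega
  have hord7 : ∀ a ∈ (P : Subgroup G), a ^ 7 = 1 := fun a ha => by
    have h1 : (⟨a, ha⟩ : (P : Subgroup G)) ^ Nat.card (P : Subgroup G) = 1 := pow_card_eq_one'
    rw [hP] at h1
    exact congrArg Subtype.val h1
  have hjP : j ∉ (P : Subgroup G) := fun h => by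
    have := Subgroup.orderOf_dvd_natCard _ h
    rw [hj, hP] at this
    norm_num at this
  have huniq : ∀ z ∈ C, z * z = 1 → z ≠ 1 → z = j := by
    intro z hz hz2 hz1
    have hzP : z ∉ (P : Subgroup G) := fun h => hz1 (by
      have h7 := hord7 z h
      rwa [show (7 : ℕ) = 2 * 3 + 1 from rfl, pow_succ, pow_mul, sq, hz2, one_pow, one_mul] at h7)
    have h := (Subgroup.mul_mem_iff_of_index_two hPidx (a := ⟨z, hz⟩) (b := ⟨j, hjC⟩)).2
      (iff_of_false (fun h => hzP h) (fun h => hjP h))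
    have hzj : z * j ∈ (P : Subgroup G) := h
    have hzj' : z * j * j = j * (z * j) := hjC (z * j) hzj
    rw [mul_assoc z j j, hj2, mul_one] at hzj'
    have hcomm : z * j = j * z := by
      calc z * j = j * (z * j) * j := by rw [← hzj']
        _ = j * z * (j * j) := by group
        _ = j * z := by rw [hj2, mul_one]
    have h2 : (z * j) * (z * j) = 1 := by
      calc z * j * (z * j) = z * (j * z) * j := by group
        _ = (z * z) * (j * j) := by rw [← hcomm]; group
        _ = 1 := by rw [hz2, hj2, one_mul]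
    have h7 := hord7 _ hzj
    rw [show (7 : ℕ) = 2 * 3 + 1 from rfl, pow_succ, pow_mul, sq, h2, one_pow, one_mul] at h7
    rw [eq_inv_of_mul_eq_one_left h7, inv_eq_of_mul_eq_one_right hj2]
  -- involutions of `N` lie in `C`
  have hidx : (C.subgroupOf N).index = 3 := by
    have h := Subgroup.card_mul_index (C.subgroupOf N)
    rw [Nat.card_congr (Subgroup.subgroupOfEquivOfLe hCN).toEquiv, hC, hN] at h
    omega
  haveI : (C.subgroupOf N).Normal := by
    rw [hCdef, hNdef, ← Subgroup.normalizerMonoidHom_ker]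
    infer_instance
  have hinvC : ∀ z ∈ N, z * z = 1 → z ∈ C := fun z hz hz2 => by
    have h := Subgroup.pow_index_mem (C.subgroupOf N) (⟨z, hz⟩ : N)
    rw [hidx, Subgroup.mem_subgroupOf] at h
    have h' : z * z * z ∈ C := by simpa [pow_succ] using h
    rwa [hz2, one_mul] at h'
  have hcl : ∀ z ∈ N, IsConj j z → z ∈ C := fun z hz h => by
    obtain ⟨g, rfl⟩ := isConj_iff.1 h
    exact hinvC _ hz (by rw [show g * j * g⁻¹ * (g * j * g⁻¹) = g * (j * j) * g⁻¹ by group, hj2]; group)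
  have hNle : N ⊓ Subgroup.centralizer ({j} : Set G) = N := inf_eq_left.2 fun g hg => by
    refine Subgroup.mem_centralizer_singleton_iff.2 (mul_inv_eq_iff_eq_mul.1 (huniq _ (hinvC _ ?_ ?_) ?_ ?_))
    · exact mul_mem (mul_mem hg (hCN hjC)) (inv_mem hg)
    · rw [show g * j * g⁻¹ * (g * j * g⁻¹) = g * (j * j) * g⁻¹ by group, hj2]; group
    · rw [show g * j * g⁻¹ * (g * j * g⁻¹) = g * (j * j) * g⁻¹ by group, hj2]; group
    · intro h; rw [conj_eq_one_iff.1 h, orderOf_one] at hj; omega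
  obtain ⟨hF, hF7⟩ := card_fixed_sylow P hP hjC hcl
  rw [hNle, hN] at hF
  have hne : ∃ g, toPermHom G (Sylow 7 G) g ≠ 1 := by
    by_contra hc
    push Not at hc
    have : Subsingleton (Sylow 7 G) := ⟨fun a b => by
      obtain ⟨g, hg⟩ := MulAction.exists_smul_eq G a b
      rw [← hg]; exact (Equiv.congr_fun (hc g) a).symm⟩
    have := Finite.card_le_one_iff_subsingleton.2 this
    omega
  have h4 := four_dvd_moved hG hne (X := Sylow 7 G) hj
  rw [hs] at h4
  set F := Nat.card {Q : Sylow 7 G // j • Q = Q}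
  have hFle : F ≤ 120 := hs ▸ Nat.card_le_card_of_injective _ Subtype.val_injective
  have hCjdvd : 42 * F ∣ 5040 := by
    rw [mul_comm, hF, ← hn]; exact Subgroup.card_subgroup_dvd_card _
  have hCjne : 42 * F ≠ 5040 := by
    rw [mul_comm, hF, ← hn]
    exact fun h => centralizer_singleton_ne_top hG (fun h0 => by rw [h0, orderOf_one] at hj; omega)
      (Subgroup.eq_top_of_card_eq _ h)
  have hF8 : F = 8 := by
    have hd : F ∣ 120 := Nat.dvd_of_mul_dvd_mul_left (by norm_num : 0 < 42) (by simpa using hCjdvd)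
    have hm : F ∈ Nat.divisors 120 := Nat.mem_divisors.2 ⟨hd, by norm_num⟩
    unfold Nat.ModEq at hF7
    have key : ∀ d ∈ Nat.divisors 120, d % 7 = 1 % 7 → 4 ∣ 120 - d → 42 * d ≠ 5040 → d = 8 := by decide
    exact key F hm hF7 h4 hCjne
  -- the action on the fifteen cosets of `C(j)`
  set H := Subgroup.centralizer ({j} : Set G) with hHdef
  have hHi : H.index = 15 := by
    have h := Subgroup.card_mul_index H
    rw [hn, ← hF, hF8] at h
    omega
  have hHtop : H ≠ ⊤ := fun h => by rw [h, Subgroup.index_top] at hHi; omega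
  have hcard15 : Nat.card (G ⧸ H) = 15 := by rw [← Subgroup.index_eq_card]; exact hHi
  have hcoset : ∀ z g : G, z • (g : G ⧸ H) = g ↔ Commute z (g * j * g⁻¹) := fun z g => by
    rw [MulAction.Quotient.smul_coe, QuotientGroup.eq, Subgroup.mem_centralizer_singleton_iff, smul_eq_mul,
      mul_inv_rev]
    constructor
    · intro h
      have h' : g⁻¹ * z⁻¹ * g * j = j * (g⁻¹ * z⁻¹ * g) := h
      have h2 : Commute z⁻¹ (g * j * g⁻¹) := by
        calc z⁻¹ * (g * j * g⁻¹) = g * (g⁻¹ * z⁻¹ * g * j) * g⁻¹ := by group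
          _ = g * j * g⁻¹ * z⁻¹ := by rw [h']; group
      exact inv_inv z ▸ h2.inv_left
    · intro h
      have h2 : z⁻¹ * (g * j * g⁻¹) = g * j * g⁻¹ * z⁻¹ := h.inv_left
      calc g⁻¹ * z⁻¹ * g * j = g⁻¹ * (z⁻¹ * (g * j * g⁻¹)) * g := by group
        _ = j * (g⁻¹ * z⁻¹ * g) := by rw [h2]; group
  obtain ⟨x', hx'⟩ : ∃ x : (P : Subgroup G), x ≠ 1 := by
    haveI : Nontrivial (P : Subgroup G) := Finite.one_lt_card_iff_nontrivial.1 (by rw [hP]; norm_num)
    exact exists_ne 1
  have hxj : Commute j (x' : G) := (hjC _ x'.2).symm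
  letI actP : MulAction (P : Subgroup G) {q : G ⧸ H // j • q = q} :=
    { smul := fun a q => ⟨(a : G) • q.1, by rw [← mul_smul, ← hjC a a.2, mul_smul, q.2]⟩
      one_smul := fun q => Subtype.ext (one_smul G q.1)
      mul_smul := fun a b q => Subtype.ext (mul_smul (a : G) (b : G) q.1) }
  have hmod := P.isPGroup'.card_modEq_card_fixedPoints (α := {q : G ⧸ H // j • q = q})
  have h1 : Nat.card (fixedPoints (P : Subgroup G) {q : G ⧸ H // j • q = q}) = 1 := by
    rw [Nat.card_eq_one_iff_unique]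
    have hj1 : j • ((1 : G) : G ⧸ H) = ((1 : G) : G ⧸ H) :=
      (hcoset j 1).2 (by simp [Commute.refl])
    refine ⟨⟨fun q q' => Subtype.ext (Subtype.ext ?_)⟩, ⟨⟨⟨_, hj1⟩, fun a => Subtype.ext
      ((hcoset (a : G) 1).2 (by simpa using (show Commute (a : G) j from hjC a a.2)))⟩⟩⟩
    have key : ∀ r : fixedPoints (P : Subgroup G) {q : G ⧸ H // j • q = q}, r.1.1 = ((1 : G) : G ⧸ H) := by
      rintro ⟨⟨r, hr⟩, hr'⟩
      obtain ⟨g, rfl⟩ := QuotientGroup.mk_surjective r
      have hcx : Commute (x' : G) (g * j * g⁻¹) := (hcoset _ g).1 (congrArg Subtype.val (hr' x'))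
      have hmem : g * j * g⁻¹ ∈ C := by
        rw [← hcentx _ x'.2 (fun h => hx' (Subtype.ext h)), Subgroup.mem_centralizer_singleton_iff]
        exact hcx.eq.symm
      have he := huniq _ hmem (by
        rw [show g * j * g⁻¹ * (g * j * g⁻¹) = g * (j * j) * g⁻¹ by group, hj2]; group)
        (fun h => by rw [conj_eq_one_iff.1 h, orderOf_one] at hj; omega)
      show (g : G ⧸ H) = ((1 : G) : G ⧸ H)
      rw [QuotientGroup.eq, mul_one, inv_mem_iff, Subgroup.mem_centralizer_singleton_iff]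
      exact mul_inv_eq_iff_eq_mul.1 he
    rw [key q, key q']
  rw [h1] at hmod
  have h4' := four_dvd_moved hG (toPermHom_ne_one_of_index H hHtop) (X := G ⧸ H) hj
  rw [hcard15] at h4'
  set F' := Nat.card {q : G ⧸ H // j • q = q}
  have hF'le : F' ≤ 15 := hcard15 ▸ Nat.card_le_card_of_injective _ Subtype.val_injective
  have hF'15 : F' = 15 := by unfold Nat.ModEq at hmod; omega
  have hall : ∀ q : G ⧸ H, j • q = q := by
    have hb := (Subtype.val_injective (p := fun q : G ⧸ H => j • q = q)).bijective_of_nat_card_le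
      (by show Nat.card (G ⧸ H) ≤ F'; omega)
    intro q
    obtain ⟨⟨q', hq'⟩, rfl⟩ := hb.2 q
    exact hq'
  have hj0 : j = 1 := toPermHom_injective hHtop (Equiv.ext fun q => by
    rw [map_one, Equiv.Perm.one_apply]; exact hall q)
  rw [hj0, orderOf_one] at hj
  omega

/-- `n₇ = 120`, centraliser of order 21. -/
theorem false_twentyone (hG : ¬ IsMulCommutative G) (hn : Nat.card G = 5040) [Fact (Nat.Prime 7)] (P : Sylow 7 G)
    (hs : Nat.card (Sylow 7 G) = 120) (hN : Nat.card (Subgroup.normalizer ((P : Subgroup G) : Set G)) = 42)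
    (hC : Nat.card (Subgroup.centralizer ((P : Subgroup G) : Set G)) = 21) : False := by
  classical
  haveI : Fact (Nat.Prime 3) := ⟨Nat.prime_three⟩
  haveI : Fact (Nat.Prime 5) := ⟨by norm_num⟩
  obtain ⟨hP, hcentx, hPC, hno'⟩ := seven_data hn P
  have hno := hno' (by rw [hC]; norm_num)
  clear hno'
  set N := Subgroup.normalizer ((P : Subgroup G) : Set G) with hNdef
  set C := Subgroup.centralizer ((P : Subgroup G) : Set G) with hCdef
  have hCN : C ≤ N := centralizer_le_normalizer _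
  obtain ⟨⟨c, hcC⟩, hc⟩ := exists_prime_orderOf_dvd_card' (G := C) 3 (by rw [hC]; norm_num)
  rw [Subgroup.orderOf_mk] at hc
  have hc3 : c ^ 3 = 1 := by rw [← hc, pow_orderOf_eq_one]
  have hc1 : c ≠ 1 := fun h => by rw [h, orderOf_one] at hc; omega
  have hidx : (C.subgroupOf N).index = 2 := by
    have h := Subgroup.card_mul_index (C.subgroupOf N)
    rw [Nat.card_congr (Subgroup.subgroupOfEquivOfLe hCN).toEquiv, hC, hN] at h
    omega
  have hcl : ∀ z ∈ N, IsConj c z → z ∈ C := fun z hz h => by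
    obtain ⟨g, rfl⟩ := isConj_iff.1 h
    have h3 : (g * c * g⁻¹) ^ 3 = 1 := by rw [conj_pow, hc3]; group
    have h := Subgroup.sq_mem_of_index_two hidx (⟨_, hz⟩ * ⟨_, hz⟩ : N)
    rw [Subgroup.mem_subgroupOf] at h
    have h' : (g * c * g⁻¹) ^ 4 ∈ C := by simpa [pow_succ, mul_assoc] using h
    rwa [pow_succ, h3, one_mul] at h'
  have hCle : C ≤ Subgroup.centralizer ({c} : Set G) := by
    have hP' : (P : Subgroup G) ≤ C ⊓ Subgroup.centralizer ({c} : Set G) := fun a ha =>
      ⟨hPC ha, Subgroup.mem_centralizer_singleton_iff.2 (hcC a ha)⟩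
    have h7 := hP ▸ Subgroup.card_dvd_of_le hP'
    have h3 : 3 ∣ Nat.card ↥(C ⊓ Subgroup.centralizer ({c} : Set G)) :=
      hc ▸ Subgroup.orderOf_dvd_natCard _ ⟨hcC, Subgroup.mem_centralizer_singleton_iff.2 rfl⟩
    have h21 := Nat.le_of_dvd Nat.card_pos (Nat.Coprime.mul_dvd_of_dvd_of_dvd (by norm_num) h7 h3)
    exact (Subgroup.eq_of_le_of_card_ge inf_le_left (by rw [hC]; exact h21)).ge.trans inf_le_right
  obtain ⟨hF, hF7⟩ := card_fixed_sylow P hP hcC hcl
  have hi : Nat.card ↥(N ⊓ Subgroup.centralizer ({c} : Set G)) = 21 ∨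
      Nat.card ↥(N ⊓ Subgroup.centralizer ({c} : Set G)) = 42 := by
    have h1 : 21 ∣ Nat.card ↥(N ⊓ Subgroup.centralizer ({c} : Set G)) := by
      rw [← hC]; exact Subgroup.card_dvd_of_le (le_inf hCN hCle)
    have h2 : Nat.card ↥(N ⊓ Subgroup.centralizer ({c} : Set G)) ∣ 42 := by
      rw [← hN]; exact Subgroup.card_dvd_of_le inf_le_left
    have h0 : 0 < Nat.card ↥(N ⊓ Subgroup.centralizer ({c} : Set G)) := Nat.card_pos
    have h3 : Nat.card ↥(N ⊓ Subgroup.centralizer ({c} : Set G)) ≤ 42 := Nat.le_of_dvd (by norm_num) h2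
    obtain ⟨k, hk⟩ := h1
    omega
  have h3m := card_modEq_fixed (X := Sylow 7 G) (t := c) (q := 3) hc3
  rw [hs] at h3m
  set H := Subgroup.centralizer ({c} : Set G) with hHdef
  set F := Nat.card {Q : Sylow 7 G // c • Q = Q}
  have hFle : F ≤ 120 := hs ▸ Nat.card_le_card_of_injective _ Subtype.val_injective
  have hHdvd : Nat.card H ∣ 5040 := hn ▸ Subgroup.card_subgroup_dvd_card _
  have hH5 : 5 * Nat.card H ≤ 5040 := by
    have h := five_le_index hG (centralizer_singleton_ne_top hG hc1 : H ≠ ⊤)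
    rw [← hn, ← Subgroup.card_mul_index H, mul_comm]
    exact Nat.mul_le_mul_left _ h
  have hHcard : Nat.card H = 315 ∨ Nat.card H = 630 := by
    unfold Nat.ModEq at hF7 h3m
    obtain ⟨i, hi'⟩ : ∃ i, F = 7 * i + 1 := ⟨F / 7, by omega⟩
    rw [← hF] at hHdvd hH5 ⊢
    rw [hi'] at hFle h3m hHdvd hH5 ⊢
    have hi17 : i ≤ 17 := by omega
    rcases hi with e | e <;> rw [e] at hHdvd hH5 ⊢ <;> interval_cases i <;> omega
  -- Sylow 5-subgroups of `H`
  obtain ⟨Q⟩ : Nonempty (Sylow 5 H) := inferInstance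
  have hQ : Nat.card (Q : Subgroup H) = 5 := by
    rcases hHcard with e | e
    · rw [card_sylow_subgroup (k := 1) (m := 63) (by rw [e]; norm_num) (by norm_num) Q, pow_one]
    · rw [card_sylow_subgroup (k := 1) (m := 126) (by rw [e]; norm_num) (by norm_num) Q, pow_one]
  have hcH : c ∈ H := Subgroup.mem_centralizer_singleton_iff.2 rfl
  set NQ := Subgroup.normalizer ((Q : Subgroup H) : Set H)
  have h15 : 15 ∣ Nat.card NQ := by
    have h5 : 5 ∣ Nat.card NQ := hQ ▸ Subgroup.card_dvd_of_le Subgroup.le_normalizer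
    have hmem : (⟨c, hcH⟩ : H) ∈ NQ := centralizer_le_normalizer _ fun a _ =>
      Subtype.ext (Subgroup.mem_centralizer_singleton_iff.1 a.2)
    have h3 : 3 ∣ Nat.card NQ := by
      have := Subgroup.orderOf_dvd_natCard _ hmem
      rwa [Subgroup.orderOf_mk, hc] at this
    exact Nat.Coprime.mul_dvd_of_dvd_of_dvd (by norm_num : Nat.Coprime 3 5) h3 h5
  have hmul := card_sylow_mul_card_normalizer Q
  have h21 : Nat.card (Sylow 5 H) ≠ 21 := S1010.result
  have hmod5 : Nat.card (Sylow 5 H) % 5 = 1 := card_sylow_modEq_one 5 H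
  have h7NQ : 7 ∣ Nat.card NQ := by
    obtain ⟨k, hk⟩ := h15
    rw [hk] at hmul ⊢
    set n5 := Nat.card (Sylow 5 H)
    have hd : n5 ∣ 42 := by
      rcases hHcard with e | e <;> rw [e] at hmul
      · exact ⟨2 * k, by nlinarith⟩
      · exact ⟨k, by nlinarith⟩
    have hm : n5 ∈ Nat.divisors 42 := Nat.mem_divisors.2 ⟨hd, by norm_num⟩
    have key : ∀ d ∈ Nat.divisors 42, d % 5 = 1 → d ≠ 21 → d = 1 ∨ d = 6 := by decide
    rcases key n5 hm hmod5 h21 with e1 | e1 <;> rw [e1] at hmul <;> rcases hHcard with e | e <;>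
      rw [e] at hmul <;> omega
  obtain ⟨⟨g, hgN⟩, hg⟩ := exists_prime_orderOf_dvd_card' (G := NQ) 7 h7NQ
  rw [Subgroup.orderOf_mk] at hg
  have h7C : 7 ∣ Nat.card (Subgroup.centralizer ((Q : Subgroup H) : Set H)) :=
    (Nat.Coprime.dvd_of_dvd_mul_right (by norm_num : Nat.Coprime 7 (5 - 1))
      (h7NQ.trans (card_normalizer_dvd Q hQ)))
  obtain ⟨⟨g', hg'C⟩, hg'⟩ := exists_prime_orderOf_dvd_card'
    (G := Subgroup.centralizer ((Q : Subgroup H) : Set H)) 7 h7C
  rw [Subgroup.orderOf_mk] at hg'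
  obtain ⟨⟨f, hfQ⟩, hf⟩ := exists_prime_orderOf_dvd_card' (G := (Q : Subgroup H)) 5 (by rw [hQ])
  rw [Subgroup.orderOf_mk] at hf
  exact hno (g' : G) (f : G) (by rw [Subgroup.orderOf_coe, hg']) (by rw [Subgroup.orderOf_coe, hf])
    (congrArg Subtype.val (hg'C f hfQ)).symm

/-- `n₇ = 36`. -/
theorem false_thirtysix (hG : ¬ IsMulCommutative G) (hn : Nat.card G = 5040) [Fact (Nat.Prime 7)] (P : Sylow 7 G)
    (hs : Nat.card (Sylow 7 G) = 36) (hN : Nat.card (Subgroup.normalizer ((P : Subgroup G) : Set G)) = 140)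
    (hC : Nat.card (Subgroup.centralizer ((P : Subgroup G) : Set G)) = 70) : False := by
  classical
  haveI : Fact (Nat.Prime 2) := ⟨Nat.prime_two⟩
  haveI : Fact (Nat.Prime 5) := ⟨by norm_num⟩
  obtain ⟨hP, hcentx, hPC, -⟩ := seven_data hn P
  set N := Subgroup.normalizer ((P : Subgroup G) : Set G) with hNdef
  set C := Subgroup.centralizer ((P : Subgroup G) : Set G) with hCdef
  obtain ⟨⟨f, hfC⟩, hf⟩ := exists_prime_orderOf_dvd_card' (G := C) 5 (by rw [hC]; norm_num)
  rw [Subgroup.orderOf_mk] at hf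
  obtain ⟨Q, hQle⟩ := IsPGroup.exists_le_sylow (IsPGroup.of_card (p := 5) (n := 1)
    (by rw [Nat.card_zpowers, hf, pow_one]) : IsPGroup 5 (Subgroup.zpowers f))
  have hQ : Nat.card (Q : Subgroup G) = 5 := by
    rw [card_sylow_subgroup (k := 1) (m := 1008) (by rw [hn]; norm_num) (by norm_num) Q, pow_one]
  have hQf : (Q : Subgroup G) = Subgroup.zpowers f :=
    (Subgroup.eq_of_le_of_card_ge hQle (by rw [Nat.card_zpowers, hf, hQ])).symm
  set N5 := Subgroup.normalizer ((Q : Subgroup G) : Set G) with hN5def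
  set C5 := Subgroup.centralizer ((Q : Subgroup G) : Set G) with hC5def
  have hC5f : C5 = Subgroup.centralizer ({f} : Set G) := by rw [hC5def, hQf, Blocks.centralizer_zpowers_eq]
  have hPC5 : (P : Subgroup G) ≤ C5 := fun a ha => by
    rw [hC5f, Subgroup.mem_centralizer_singleton_iff]; exact hfC a ha
  have hC5N5 : C5 ≤ N5 := centralizer_le_normalizer _
  have h7 : 7 ∣ Nat.card N5 := hP ▸ Subgroup.card_dvd_of_le (hPC5.trans hC5N5)
  have h5C : 5 ∣ Nat.card C5 := hf ▸ Subgroup.orderOf_dvd_natCard _ (hC5f ▸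
    Subgroup.mem_centralizer_singleton_iff.2 rfl)
  have hmul : Nat.card (Sylow 5 G) * Nat.card N5 = 5040 := hn ▸ card_sylow_mul_card_normalizer Q
  have hmod : Nat.card (Sylow 5 G) % 5 = 1 := card_sylow_modEq_one 5 G
  have hge := five_le_card_sylow hG (p := 5) (by rw [hn]; norm_num)
  have hdvd : Nat.card N5 ∣ Nat.card C5 * 4 := card_normalizer_dvd Q hQ
  have hC5dvd : Nat.card C5 ∣ Nat.card N5 := Subgroup.card_dvd_of_le hC5N5
  have hCneN : Nat.card C5 ≠ Nat.card N5 := fun h =>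
    not_hasNormalPComplement hG (p := 5) (by rw [hn]; norm_num)
      (Transfer.hasNormalPComplement_of_normalizer_le_centralizer Q
        (Subgroup.eq_of_le_of_card_ge hC5N5 h.ge).ge)
  have hn36 : Nat.card (Sylow 5 G) = 36 := by
    obtain ⟨k, hk⟩ := h7
    have h144 : Nat.card (Sylow 5 G) ∣ 720 := ⟨k, by rw [hk] at hmul; nlinarith⟩
    have hm : Nat.card (Sylow 5 G) ∈ Nat.divisors 720 := Nat.mem_divisors.2 ⟨h144, by norm_num⟩
    have key : ∀ d ∈ Nat.divisors 720, d % 5 = 1 → 5 ≤ d → d = 6 ∨ d = 16 ∨ d = 36 := by decide +kernel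
    rcases key _ hm hmod hge with e | e | e
    · exfalso
      have hne : N5 ≠ ⊤ := normalizer_ne_top hG (fun hb => by
        rw [hb, Subgroup.card_bot] at hQ; omega) (by
        haveI : Group.IsNilpotent (Q : Subgroup G) := Q.isPGroup'.isNilpotent
        infer_instance)
      have h := card_dvd_factorial hne
      rw [hn, show N5.index = 6 from (Sylow.card_eq_index_normalizer Q).symm.trans e] at h
      revert h
      decide
    · exfalso
      rw [e] at hmul
      have h315 : Nat.card N5 = 315 := by omega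
      rw [h315] at hdvd hC5dvd hCneN
      exact hCneN (Nat.dvd_antisymm hC5dvd (Nat.Coprime.dvd_of_dvd_mul_right (by norm_num) hdvd))
    · exact e
  have hN5 : Nat.card N5 = 140 := by rw [hn36] at hmul; omega
  have hC5odd : ¬ 2 ∣ Nat.card C5 := fun h => false_of_thirtysix hG Q hQ hn36 h
  have hC5 : Nat.card C5 = 35 := by
    rw [hN5] at hdvd hC5dvd
    have h35 : 35 ∣ Nat.card C5 :=
      Nat.Coprime.mul_dvd_of_dvd_of_dvd (by norm_num : Nat.Coprime 7 5) (hP ▸ Subgroup.card_dvd_of_le hPC5) h5C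
    have := Nat.le_of_dvd (by norm_num) hC5dvd
    obtain ⟨k, hk⟩ := h35
    rw [hk] at hC5dvd hC5odd
    have : k ≤ 4 := by omega
    interval_cases k <;> omega
  have hC5C : C5 ≤ C := by
    have hP' : (P : Subgroup G) ≤ C5 ⊓ C := le_inf hPC5 hPC
    have h7' := hP ▸ Subgroup.card_dvd_of_le hP'
    have h5' : 5 ∣ Nat.card ↥(C5 ⊓ C) := hf ▸ Subgroup.orderOf_dvd_natCard _
      ⟨hC5f ▸ Subgroup.mem_centralizer_singleton_iff.2 rfl, hfC⟩
    have := Nat.le_of_dvd Nat.card_pos (Nat.Coprime.mul_dvd_of_dvd_of_dvd (by norm_num) h7' h5' : 7 * 5 ∣ _)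
    exact (Subgroup.eq_of_le_of_card_ge inf_le_left (by omega)).ge.trans inf_le_right
  -- `P` is the only Sylow 7-subgroup in its centraliser
  have hNN : N5 = N := by
    refine Subgroup.eq_of_le_of_card_ge (fun g hg => ?_) (by rw [hN, hN5])
    refine smul_sylow_eq_iff.1 (Sylow.ext ?_)
    have hle : ((g • P : Sylow 7 G) : Subgroup G) ≤ C5 := by
      rw [Sylow.coe_subgroup_smul]
      rintro _ ⟨a, ha, rfl⟩
      show g * a * g⁻¹ ∈ C5
      intro b hb
      have hb' : g⁻¹ * b * g ∈ (Q : Subgroup G) := by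
        have := (Subgroup.mem_normalizer_iff.1 (inv_mem hg) b).1 hb
        rwa [inv_inv] at this
      have h := hPC5 ha _ hb'
      calc b * (g * a * g⁻¹) = g * (g⁻¹ * b * g * a) * g⁻¹ := by group
        _ = g * a * g⁻¹ * b := by rw [h]; group
    refine Subgroup.eq_of_le_of_card_ge (fun y hy => ?_) (Nat.card_congr ((g • P : Sylow 7 G).equiv P).toEquiv).ge
    exact mem_of_smul_sylow_eq hy (smul_sylow_eq_iff.2 (centralizer_le_normalizer _ (hC5C (hle hy))))
  -- involutions of `N` centralise `P`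
  obtain ⟨⟨j, hjC⟩, hj⟩ := exists_prime_orderOf_dvd_card' (G := C) 2 (by rw [hC]; norm_num)
  rw [Subgroup.orderOf_mk] at hj
  have hj2 : j * j = 1 := by rw [← sq, ← hj, pow_orderOf_eq_one]
  have hj1 : j ≠ 1 := fun h => by rw [h, orderOf_one] at hj; omega
  have hnotC5 : ∀ z : G, orderOf z = 2 → z ∉ Subgroup.centralizer ({f} : Set G) := fun z hz h => hC5odd (by
    rw [hC5f]; exact hz ▸ Subgroup.orderOf_dvd_natCard _ h)
  have hconj_mem : ∀ z ∈ N, z * f * z⁻¹ ∈ Subgroup.zpowers f := fun z hz => by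
    rw [← hNN] at hz
    rw [← hQf]
    exact (Subgroup.mem_normalizer_iff.1 hz f).1 (hQle (Subgroup.mem_zpowers f))
  have hCN : C ≤ N := centralizer_le_normalizer _
  have hinvC : ∀ z ∈ N, orderOf z = 2 → z ∈ C := fun z hz hzo => by
    have hz2 : z * z = 1 := by rw [← sq, ← hzo, pow_orderOf_eq_one]
    have h1 := inverts_of_sq_mem hf (hconj_mem z hz) hz2 (hnotC5 z hzo)
    have h2 := inverts_of_sq_mem hf (hconj_mem j (hCN hjC)) hj2 (hnotC5 j hj)
    have h3 : z * j ∈ C5 := by
      rw [hC5f, Subgroup.mem_centralizer_singleton_iff]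
      refine mul_inv_eq_iff_eq_mul.1 ?_
      rw [show z * j * f * (z * j)⁻¹ = z * (j * f * j⁻¹) * z⁻¹ by group, h2, ← conj_inv, h1, inv_inv]
    have h4 := mul_mem (hC5C h3) hjC
    rwa [mul_assoc, hj2, mul_one] at h4
  have hcl : ∀ z ∈ N, IsConj j z → z ∈ C := fun z hz h => by
    obtain ⟨g, rfl⟩ := isConj_iff.1 h
    exact hinvC _ hz (by rw [← MulAut.conj_apply, MulEquiv.orderOf_eq, hj])
  obtain ⟨hF, hF7⟩ := card_fixed_sylow P hP hjC hcl
  set H := Subgroup.centralizer ({j} : Set G) with hHdef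
  -- `C_N(j)` has order 28
  obtain ⟨k, hk⟩ : ∃ k, Nat.card ↥(N ⊓ H) = 28 * k := by
    have h7' : 7 ∣ Nat.card ↥(N ⊓ H) := hP ▸ Subgroup.card_dvd_of_le (le_inf (hPC.trans hCN) fun a ha =>
      Subgroup.mem_centralizer_singleton_iff.2 (hjC a ha))
    obtain ⟨S, hS⟩ := IsPGroup.exists_le_sylow (IsPGroup.of_card (p := 2) (n := 1)
      (by rw [Nat.card_zpowers, Subgroup.orderOf_mk, hj, pow_one]) :
        IsPGroup 2 (Subgroup.zpowers (⟨j, hCN hjC⟩ : N)))
    have hScard : Nat.card (S : Subgroup N) = 2 ^ 2 :=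
      card_sylow_subgroup (k := 2) (m := 35) (by rw [hN]; norm_num) (by norm_num) S
    have hle : (S : Subgroup N).map N.subtype ≤ N ⊓ H := by
      rintro _ ⟨a, ha, rfl⟩
      refine ⟨a.2, Subgroup.mem_centralizer_singleton_iff.2 ?_⟩
      have := IsPGroup.isMulCommutative_of_card_eq_prime_sq hScard
      exact congrArg (fun b : (S : Subgroup N) => ((b : N) : G))
        (mul_comm' (⟨a, ha⟩ : (S : Subgroup N)) ⟨_, hS (Subgroup.mem_zpowers _)⟩)
    have h4 : 4 ∣ Nat.card ↥(N ⊓ H) := by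
      have := Subgroup.card_dvd_of_le hle
      rwa [Subgroup.card_map_of_injective N.subtype_injective, hScard] at this
    exact Nat.Coprime.mul_dvd_of_dvd_of_dvd (by norm_num : Nat.Coprime 4 7) h4 h7'
  have hkN : 28 * k ∣ 140 := hk ▸ hN ▸ Subgroup.card_dvd_of_le inf_le_left
  have hk5 : ¬ 5 ∣ k := by
    intro h5
    obtain ⟨⟨y, hy⟩, hyo⟩ := exists_prime_orderOf_dvd_card' (G := ↥(N ⊓ H)) 5
      (hk ▸ h5.mul_left 28)
    rw [Subgroup.orderOf_mk] at hyo
    have hyN5 : y ∈ N5 := hNN ▸ hy.1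
    obtain ⟨R, hR⟩ := IsPGroup.exists_le_sylow (IsPGroup.of_card (p := 5) (n := 1)
      (by rw [Nat.card_zpowers, hyo, pow_one]) : IsPGroup 5 (Subgroup.zpowers y))
    have hyQ : y ∈ (Q : Subgroup G) := mem_of_smul_sylow_eq (hR (Subgroup.mem_zpowers y))
      (smul_sylow_eq_iff.2 hyN5)
    have hzy : Subgroup.zpowers y = Subgroup.zpowers f :=
      (Subgroup.eq_of_le_of_card_ge (Subgroup.zpowers_le.2 hyQ) (by rw [Nat.card_zpowers, hyo, hQ])).trans hQf
    refine hnotC5 j hj ?_
    have hjy : j ∈ Subgroup.centralizer ({y} : Set G) := by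
      rw [Subgroup.mem_centralizer_singleton_iff]
      exact (Subgroup.mem_centralizer_singleton_iff.1 hy.2).symm
    rwa [← Blocks.centralizer_zpowers_eq, hzy, Blocks.centralizer_zpowers_eq] at hjy
  have hk1 : k = 1 := by
    have : k ≤ 5 := by have := Nat.le_of_dvd (by norm_num) hkN; omega
    interval_cases k <;> omega
  rw [hk, hk1, mul_one] at hF
  have h2m := card_modEq_fixed (X := Sylow 7 G) (t := j) (q := 2) (by rw [pow_two]; exact hj2)
  rw [hs] at h2m
  set F := Nat.card {R : Sylow 7 G // j • R = R}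
  have hFle : F ≤ 36 := hs ▸ Nat.card_le_card_of_injective _ Subtype.val_injective
  have hHdvd : F * 28 ∣ 5040 := hF.symm ▸ hn ▸ Subgroup.card_subgroup_dvd_card _
  have hHtop : H ≠ ⊤ := centralizer_singleton_ne_top hG hj1
  have hidx5 : F = 36 → False := fun h => by
    have h1 := Subgroup.card_mul_index H
    rw [← hF, h, hn] at h1
    have h2 := card_dvd_factorial hHtop
    rw [hn, show H.index = 5 by omega] at h2
    revert h2
    decide
  unfold Nat.ModEq at hF7 h2m
  interval_cases F <;> first | exact hidx5 rfl | omega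

/-- No simple group has order 5040. -/
theorem not_simple : Nat.card G ≠ 5040 := by
  intro hn
  have hG : ¬ IsMulCommutative G := fun h => by
    letI : CommGroup G := { ‹Group G› with mul_comm := fun a b => h.is_comm.comm a b }
    have h1 : (Nat.card G).Prime := IsSimpleGroup.prime_card
    rw [hn] at h1
    norm_num at h1
  haveI : Fact (Nat.Prime 7) := ⟨by norm_num⟩
  obtain ⟨P⟩ : Nonempty (Sylow 7 G) := inferInstance
  obtain ⟨hP, hcentx, hPC, -⟩ := seven_data hn P
  have h7G : 7 ∣ Nat.card G := by rw [hn]; norm_num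
  set N := Subgroup.normalizer ((P : Subgroup G) : Set G) with hNdef
  set C := Subgroup.centralizer ((P : Subgroup G) : Set G) with hCdef
  have hmul : Nat.card (Sylow 7 G) * Nat.card N = 5040 := hn ▸ card_sylow_mul_card_normalizer P
  have hmod : Nat.card (Sylow 7 G) % 7 = 1 := card_sylow_modEq_one 7 G
  have hge := five_le_card_sylow hG (p := 7) h7G
  have hCN : C ≤ N := centralizer_le_normalizer _
  have hCdvd : Nat.card C ∣ Nat.card N := Subgroup.card_dvd_of_le hCN
  have hC7 : 7 ∣ Nat.card C := hP ▸ Subgroup.card_dvd_of_le hPC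
  have hNdvd : Nat.card N ∣ Nat.card C * 6 := card_normalizer_dvd P hP
  have hCne : Nat.card C ≠ Nat.card N := fun h =>
    not_hasNormalPComplement hG (p := 7) h7G (Transfer.hasNormalPComplement_of_normalizer_le_centralizer P
      (Subgroup.eq_of_le_of_card_ge hCN h.ge).ge)
  have hN7 : 7 ∣ Nat.card N := hC7.trans hCdvd
  have hd : Nat.card (Sylow 7 G) ∣ 720 := by
    obtain ⟨k, hk⟩ := hN7
    exact ⟨k, by rw [hk] at hmul; nlinarith⟩
  have hm : Nat.card (Sylow 7 G) ∈ Nat.divisors 720 := Nat.mem_divisors.2 ⟨hd, by norm_num⟩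
  have key : ∀ d ∈ Nat.divisors 720, d % 7 = 1 → 5 ≤ d → d = 8 ∨ d = 15 ∨ d = 36 ∨ d = 120 := by
    decide +kernel
  -- one or two orbits: the centraliser is the Sylow subgroup
  have hsmall : ∀ k, Nat.card (Sylow 7 G) = 1 + k * 7 → k ≤ 2 → Nat.card C = 7 := by
    intro k hk hk2
    by_contra hne
    obtain ⟨q, hq⟩ := hC7
    have hq1 : q ≠ 1 := fun h => hne (by rw [hq, h, mul_one])
    obtain ⟨r, hr, hrq⟩ := Nat.exists_prime_and_dvd hq1
    haveI : Fact r.Prime := ⟨hr⟩
    have hr7 : r ≠ 7 := by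
      rintro rfl
      have h49 : 49 ∣ Nat.card G := (show 49 ∣ Nat.card C by
        rw [hq]; exact Nat.mul_dvd_mul_left 7 hrq).trans (Subgroup.card_subgroup_dvd_card C)
      rw [hn] at h49
      norm_num at h49
    refine not_dvd_centralizer hG (by decide) h7G P hP hk (r := r) (n := 1) hr7 ?_
      (by rw [pow_one]; exact hrq.trans (Dvd.intro_left 7 hq.symm))
    rw [pow_one]
    intro hd
    have h1 : Nat.card (alternatingGroup (Fin k)) = 1 := by
      interval_cases k <;> rw [Nat.card_eq_fintype_card] <;> rfl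
    rw [h1] at hd
    exact hr.ne_one (Nat.dvd_one.1 hd)
  rcases key _ hm hmod hge with e | e | e | e <;> rw [e] at hmul
  · rw [hsmall 1 (by rw [e]) (by norm_num), show Nat.card N = 630 by omega] at hNdvd
    norm_num at hNdvd
  · rw [hsmall 2 (by rw [e]) (by norm_num), show Nat.card N = 336 by omega] at hNdvd
    norm_num at hNdvd
  · have hN : Nat.card N = 140 := by omega
    rw [hN] at hCdvd hNdvd hCne
    refine false_thirtysix hG hn P e hN ?_
    have hm' : Nat.card C ∈ Nat.divisors 140 := Nat.mem_divisors.2 ⟨hCdvd, by norm_num⟩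
    have k2 : ∀ d ∈ Nat.divisors 140, 140 ∣ d * 6 → d ≠ 140 → d = 70 := by decide +kernel
    exact k2 _ hm' hNdvd hCne
  · have hN : Nat.card N = 42 := by omega
    rw [hN] at hCdvd hNdvd hCne
    have hm' : Nat.card C ∈ Nat.divisors 42 := Nat.mem_divisors.2 ⟨hCdvd, by norm_num⟩
    have k2 : ∀ d ∈ Nat.divisors 42, 7 ∣ d → d ≠ 42 → d = 7 ∨ d = 14 ∨ d = 21 := by decide +kernel
    rcases k2 _ hm' hC7 hCne with h | h | h
    · refine false_of_frobenius hG hn (A := (P : Subgroup G)) (fun x hx hx1 => ?_) hP hN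
      rw [hcentx x hx hx1]
      exact (Subgroup.eq_of_le_of_card_ge hPC (by rw [hP, h])).symm
    · exact false_fourteen hG hn P e hN h
    · exact false_twentyone hG hn P e hN h

end Cfsg.Agent.SmallSimple.No5040
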