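import Cfsg.Agent.Lib.SmallSimple.Basic
import Cfsg.Agent.Lib.PGroup.CyclicMaximal

/-!
# Simple groups of order 168: Sylow numbers, element orders, classes
-/

set_option autoImplicit false

namespace Cfsg.Agent.SmallSimple

open MulAction Subgroup

section general
variable {G : Type*} [Group G] [Finite G]

theorem card_class_mul_card_centralizer (g : G) :
    Nat.card {x : G // IsConj g x} * Nat.card (centralizer ({g} : Set G)) = Nat.card G := by
  have : Finite (ConjAct G) := inferInstanceAs (Finite G)
  have h2 : Nat.card {x : G // IsConj g x} = Nat.card (orbit (ConjAct G) g) := by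
    refine Nat.card_congr (Equiv.subtypeEquivRight fun x => ?_)
    rw [ConjAct.mem_orbit_conjAct]
    exact isConj_comm
  have h4 : Nat.card (stabilizer (ConjAct G) g) = Nat.card (centralizer ({g} : Set G)) := by
    refine Nat.card_congr (Equiv.subtypeEquiv ConjAct.ofConjAct.toEquiv fun x => ?_)
    rw [mem_stabilizer_iff, ConjAct.smul_def, mem_centralizer_singleton_iff,
      mul_inv_eq_iff_eq_mul]
    rfl
  rw [h2, ← h4]
  exact card_orbit_mul_card_stabilizer (G := ConjAct G) (X := G) g

theorem zpowers_eq_sylow {p : ℕ} [Fact p.Prime] (hp : ∀ P : Sylow p G, Nat.card (P : Subgroup G) = p)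
    {x : G} (hx : orderOf x = p) : ∃ P : Sylow p G, (P : Subgroup G) = zpowers x := by
  obtain ⟨P, hP⟩ := (IsPGroup.of_card (p := p) (n := 1) (G := zpowers x)
    (by rw [Nat.card_zpowers, hx, pow_one])).exists_le_sylow
  exact ⟨P, (eq_of_le_of_card_ge hP (by rw [hp P, Nat.card_zpowers, hx])).symm⟩

/-- Elements of prime order `p`, the Sylow subgroup having order `p`. -/
theorem card_orderOf_eq_prime {p : ℕ} [Fact p.Prime]
    (hp : ∀ P : Sylow p G, Nat.card (P : Subgroup G) = p) :
    Nat.card {g : G // orderOf g = p} = Nat.card (Sylow p G) * (p - 1) := by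
  classical
  have hpp : p.Prime := Fact.out
  have := Fintype.ofFinite G
  have := Fintype.ofFinite (Sylow p G)
  have hord : ∀ (Q : Sylow p G) (x : (Q : Subgroup G)), x ≠ 1 → orderOf (x : G) = p := fun Q x hx => by
    rw [orderOf_coe]
    exact ((Nat.dvd_prime hpp).mp ((_root_.orderOf_dvd_natCard x).trans (dvd_of_eq (hp Q)))).resolve_left
      (fun h => hx (orderOf_eq_one_iff.mp h))
  let f : (Σ Q : Sylow p G, {x : (Q : Subgroup G) // x ≠ 1}) → {g : G // orderOf g = p} :=
    fun s => ⟨(s.2.1 : G), hord s.1 s.2.1 s.2.2⟩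
  have hf : Function.Bijective f := by
    constructor
    · rintro ⟨Q, x, hx⟩ ⟨Q', x', hx'⟩ h
      have h' : (x : G) = (x' : G) := congrArg Subtype.val h
      have e1 : zpowers (x : G) = (Q : Subgroup G) :=
        eq_of_le_of_card_ge (zpowers_le.mpr x.2) (by rw [hp Q, Nat.card_zpowers, hord Q x hx])
      have e2 : zpowers (x' : G) = (Q' : Subgroup G) :=
        eq_of_le_of_card_ge (zpowers_le.mpr x'.2) (by rw [hp Q', Nat.card_zpowers, hord Q' x' hx'])
      obtain rfl : Q = Q' := Sylow.ext (by rw [← e1, ← e2, h'])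
      simp only [Subtype.ext h']
    · rintro ⟨g, hg⟩
      obtain ⟨Q, hQ⟩ := zpowers_eq_sylow hp hg
      exact ⟨⟨Q, ⟨g, hQ ▸ mem_zpowers g⟩, fun h => hpp.one_lt.ne (by
        rw [← hg, show g = 1 from congrArg Subtype.val h, orderOf_one])⟩, rfl⟩
  rw [← Nat.card_congr (Equiv.ofBijective f hf), Nat.card_sigma,
    Finset.sum_congr rfl (g := fun _ => p - 1), Finset.sum_const, Finset.card_univ, smul_eq_mul,
    ← Nat.card_eq_fintype_card]
  intro Q _
  rw [Nat.card_eq_fintype_card, Fintype.card_subtype_compl, Fintype.card_subtype_eq,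
    ← Nat.card_eq_fintype_card, hp Q]

theorem no_normal_complement [IsSimpleGroup G] {p : ℕ} [Fact p.Prime] (P : Sylow p G)
    (h1 : 1 < Nat.card (P : Subgroup G)) (h2 : Nat.card (P : Subgroup G) < Nat.card G) :
    ¬ normalizer ((P : Subgroup G) : Set G) ≤ centralizer ((P : Subgroup G) : Set G) := fun h => by
  have hc := MonoidHom.ker_transferSylow_isComplement' P h
  rcases (MonoidHom.transferSylow P h).normal_ker.eq_bot_or_eq_top with hk | hk
  · rw [hk, isComplement'_bot_left] at hc
    rw [hc, card_top] at h2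
    exact lt_irrefl _ h2
  · rw [hk, isComplement'_top_left] at hc
    rw [hc, card_bot] at h1
    exact lt_irrefl _ h1

theorem three_le_of_simple_index [IsSimpleGroup G] {H : Subgroup G} (hH : H ≠ ⊤) :
    Nat.card G ∣ (H.index).factorial := by
  have hinj := injective_of_simple _ (toPermHom_ne_one_of_index H hH)
  have := card_dvd_of_injective (toPermHom G (G ⧸ H)) hinj
  rwa [Nat.card_perm] at this

end general

universe u

/-- A simple group of order 168. -/
structure Simple168 (G : Type u) [Group G] : Prop where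
  simple : IsSimpleGroup G
  card_eq : Nat.card G = 168

namespace Simple168

variable {G : Type u} [Group G] [Finite G] (h : Simple168 G)

theorem card_sylow_of {p k : ℕ} [Fact p.Prime] (m : ℕ) (hm : 168 = p ^ k * m) (hpm : ¬ p ∣ m)
    (P : Sylow p G) (h : Simple168 G) : Nat.card (P : Subgroup G) = p ^ k := by
  have hp : p.Prime := Fact.out
  have hm0 : m ≠ 0 := by rintro rfl; simp at hm
  rw [P.card_eq_multiplicity, h.card_eq, hm,
    Nat.factorization_mul (pow_ne_zero _ hp.ne_zero) hm0, Finsupp.add_apply,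
    hp.factorization_pow, Finsupp.single_eq_same, Nat.factorization_eq_zero_of_not_dvd hpm,
    add_zero]

include h in
theorem card7 (P : Sylow 7 G) [Fact (Nat.Prime 7)] : Nat.card (P : Subgroup G) = 7 :=
  (card_sylow_of (k := 1) 24 (by norm_num) (by norm_num) P h).trans (pow_one 7)

include h in
theorem card3 (P : Sylow 3 G) [Fact (Nat.Prime 3)] : Nat.card (P : Subgroup G) = 3 :=
  (card_sylow_of (k := 1) 56 (by norm_num) (by norm_num) P h).trans (pow_one 3)

include h in
theorem card2 (P : Sylow 2 G) [Fact (Nat.Prime 2)] : Nat.card (P : Subgroup G) = 8 :=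
  (card_sylow_of (k := 3) 21 (by norm_num) (by norm_num) P h).trans (by norm_num)

include h in
theorem index_ge_seven {H : Subgroup G} (hH : H ≠ ⊤) : 7 ≤ H.index := by
  have := h.simple
  have hd := three_le_of_simple_index hH
  rw [h.card_eq] at hd
  by_contra hc
  interval_cases H.index <;> revert hd <;> decide

include h in
theorem card_sylow_seven [Fact (Nat.Prime 7)] : Nat.card (Sylow 7 G) = 8 := by
  have := h.simple
  obtain ⟨P⟩ : Nonempty (Sylow 7 G) := inferInstance
  have hd : Nat.card (Sylow 7 G) ∣ 24 := by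
    have h1 := P.card_dvd_index
    have h2 := card_mul_index (P : Subgroup G)
    rw [h.card7 P, h.card_eq] at h2
    rwa [show (P : Subgroup G).index = 24 by omega] at h1
  have hm := card_sylow_modEq_one 7 G
  have h1 : Nat.card (Sylow 7 G) ≠ 1 := fun hc => by
    have : Subsingleton (Sylow 7 G) := (Nat.card_eq_one_iff_unique.mp hc).1
    rcases (P.normal_of_subsingleton).eq_bot_or_eq_top with hb | hb
    · have := h.card7 P; rw [hb, card_bot] at this; omega
    · have := h.card7 P; rw [hb, card_top, h.card_eq] at this; omega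
  have hle : Nat.card (Sylow 7 G) ≤ 24 := Nat.le_of_dvd (by norm_num) hd
  unfold Nat.ModEq at hm
  interval_cases Nat.card (Sylow 7 G) <;> omega

include h in
theorem card_normalizer_seven [Fact (Nat.Prime 7)] (P : Sylow 7 G) :
    Nat.card (normalizer ((P : Subgroup G) : Set G)) = 21 := by
  have := card_sylow_mul_card_normalizer P
  rw [h.card_sylow_seven, h.card_eq] at this
  omega

include h in
theorem semiregular_seven [Fact (Nat.Prime 7)] (P : Sylow 7 G) {Q : Sylow 7 G} (hQ : Q ≠ P) :
    Function.Bijective (fun x : (P : Subgroup G) =>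
      (⟨x • Q, fun hc => hQ (by
        have h2 : Q = x⁻¹ • P := eq_inv_smul_iff.mpr hc
        rw [h2, Subgroup.smul_def, Sylow.smul_eq_iff_mem_normalizer]
        exact le_normalizer (x⁻¹).2)⟩ : {R : Sylow 7 G // R ≠ P})) := by
  classical
  rw [Nat.bijective_iff_injective_and_card]
  refine ⟨fun x y hxy => ?_, ?_⟩
  · have hxy' : x • Q = y • Q := congrArg Subtype.val hxy
    by_contra hne
    apply hQ
    have hm : (((y⁻¹ * x : (P : Subgroup G))) : G) ∈ (Q : Subgroup G) := by
      have h3 : (y⁻¹ * x) • Q = Q := by rw [mul_smul, hxy', inv_smul_smul]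
      rw [Subgroup.smul_def, Sylow.smul_eq_iff_mem_normalizer] at h3
      exact ((P.isPGroup'.inf_normalizer_sylow Q).le ⟨(y⁻¹ * x : (P : Subgroup G)).2, h3⟩).2
    set z : G := (((y⁻¹ * x : (P : Subgroup G))) : G)
    have hz : orderOf z = 7 := by
      rw [orderOf_coe]
      exact ((Nat.dvd_prime (by norm_num)).mp ((_root_.orderOf_dvd_natCard _).trans
        (dvd_of_eq (h.card7 P)))).resolve_left
        (fun h1 => hne (inv_mul_eq_one.mp (orderOf_eq_one_iff.mp h1)).symm)
    have e1 : zpowers z = (P : Subgroup G) := eq_of_le_of_card_ge (zpowers_le.mpr (y⁻¹ * x).2)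
      (by rw [h.card7 P, Nat.card_zpowers, hz])
    have e2 : zpowers z = (Q : Subgroup G) := eq_of_le_of_card_ge (zpowers_le.mpr hm)
      (by rw [h.card7 Q, Nat.card_zpowers, hz])
    exact Sylow.ext (e2.symm.trans e1)
  · have := Fintype.ofFinite (Sylow 7 G)
    rw [h.card7 P, Nat.card_eq_fintype_card (α := {R : Sylow 7 G // R ≠ P}),
      Fintype.card_subtype_compl, Fintype.card_subtype_eq, ← Nat.card_eq_fintype_card,
      h.card_sylow_seven]

include h in
theorem centralizer_seven [Fact (Nat.Prime 7)] (P : Sylow 7 G) :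
    centralizer ((P : Subgroup G) : Set G) = P := by
  classical
  have := h.simple
  have hcyc : IsCyclic (P : Subgroup G) := isCyclic_of_prime_card (h.card7 P)
  have hle : (P : Subgroup G) ≤ centralizer ((P : Subgroup G) : Set G) := le_centralizer _
  refine (eq_of_le_of_card_ge hle ?_).symm
  rw [h.card7 P]
  by_contra hgt
  push Not at hgt
  have hd : Nat.card (centralizer ((P : Subgroup G) : Set G)) ∣ 21 :=
    h.card_normalizer_seven P ▸ card_dvd_of_le (centralizer_le_normalizer _)
  have h21 : Nat.card (centralizer ((P : Subgroup G) : Set G)) = 21 := by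
    have := Nat.le_of_dvd (by norm_num) hd
    interval_cases Nat.card (centralizer ((P : Subgroup G) : Set G)) <;> omega
  have heq : centralizer ((P : Subgroup G) : Set G) = normalizer ((P : Subgroup G) : Set G) :=
    eq_of_le_of_card_ge (centralizer_le_normalizer _) (by rw [h21, h.card_normalizer_seven P])
  exact no_normal_complement P (by rw [h.card7 P]; norm_num) (by rw [h.card7 P, h.card_eq]; norm_num)
    heq.ge

include h in
/-- An element of order 3 normalizing a Sylow 7-subgroup fixes at most two Sylow 7-subgroups. -/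
theorem fixed_le_two [Fact (Nat.Prime 7)] (P : Sylow 7 G) {y : G} (hy : orderOf y = 3)
    (hyP : y ∈ normalizer ((P : Subgroup G) : Set G)) {b c : Sylow 7 G} (hb : b ≠ P) (hc : c ≠ P)
    (hyb : y • b = b) (hyc : y • c = c) : b = c := by
  obtain ⟨x, hx⟩ := (h.semiregular_seven P hb).2 ⟨c, hc⟩
  have hx' : x • b = c := congrArg Subtype.val hx
  have hx2 : (y * (x : G) * y⁻¹) • b = c := by
    rw [mul_smul, mul_smul, inv_smul_eq_iff.mpr hyb.symm]
    show y • (x • b) = c
    rw [hx', hyc]
  have heq : (⟨y * (x : G) * y⁻¹, (mem_normalizer_iff.mp hyP _).mp x.2⟩ : (P : Subgroup G)) = x :=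
    (h.semiregular_seven P hb).1 (Subtype.ext (hx2.trans hx'.symm))
  by_cases hx1 : x = 1
  · rw [← hx', hx1, one_smul]
  exfalso
  -- y centralizes a generator of P
  have hgen : zpowers (x : G) = (P : Subgroup G) := eq_of_le_of_card_ge (zpowers_le.mpr x.2) (by
    rw [h.card7 P, Nat.card_zpowers, orderOf_coe]
    rcases (Nat.dvd_prime (by norm_num)).mp ((_root_.orderOf_dvd_natCard x).trans (dvd_of_eq (h.card7 P)))
      with h1 | h1
    · exact absurd (orderOf_eq_one_iff.mp h1) hx1
    · exact h1.ge)
  have hyC : y ∈ centralizer ((P : Subgroup G) : Set G) := by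
    rw [mem_centralizer_iff]
    intro z hz
    rw [← hgen] at hz
    obtain ⟨i, rfl⟩ := mem_zpowers_iff.mp hz
    have hc' : Commute y (x : G) := mul_inv_eq_iff_eq_mul.mp (congrArg Subtype.val heq)
    exact (hc'.zpow_right i).eq.symm
  rw [h.centralizer_seven P] at hyC
  have := _root_.orderOf_dvd_natCard (⟨y, hyC⟩ : (P : Subgroup G))
  rw [← orderOf_coe, hy, h.card7 P] at this
  norm_num at this

include h in
theorem card_normalizer_three [Fact (Nat.Prime 3)] (R : Sylow 3 G) :
    Nat.card (Sylow 3 G) = 28 ∧ Nat.card (normalizer ((R : Subgroup G) : Set G)) = 6 := by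
  classical
  have : Fact (Nat.Prime 7) := ⟨by norm_num⟩
  have := h.simple
  obtain ⟨y, hy⟩ := exists_prime_orderOf_dvd_card' (G := (R : Subgroup G)) 3 (dvd_of_eq (h.card3 R).symm)
  have hy' : orderOf (y : G) = 3 := by rw [orderOf_coe]; exact hy
  have hRy : zpowers (y : G) = (R : Subgroup G) :=
    eq_of_le_of_card_ge (zpowers_le.mpr y.2) (by rw [h.card3 R, Nat.card_zpowers, hy'])
  have hfixmod := R.isPGroup'.card_modEq_card_fixedPoints (α := Sylow 7 G)
  rw [h.card_sylow_seven] at hfixmod
  set F := fixedPoints (R : Subgroup G) (Sylow 7 G)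
  have hle2 : Nat.card F ≤ 2 := by
    by_contra hgt
    push Not at hgt
    rw [Nat.card_coe_set_eq] at hgt
    obtain ⟨P, b, c, hP, hb, hc, h1, h2, h3⟩ := (Set.two_lt_ncard_iff (Set.toFinite F)).mp hgt
    exact h3 (h.fixed_le_two P hy' (Sylow.smul_eq_iff_mem_normalizer.mp (hP y)) h1.symm h2.symm
      (hb y) (hc y))
  have hF2 : Nat.card F = 2 := by
    unfold Nat.ModEq at hfixmod
    interval_cases Nat.card F <;> omega
  have hFne : Nonempty F := (Nat.card_pos_iff.mp (by omega)).1
  obtain ⟨⟨P, hP⟩⟩ := hFne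
  set N := normalizer ((R : Subgroup G) : Set G)
  have hsmul : ∀ n ∈ N, ∀ Q ∈ F, n • Q ∈ F := by
    intro n hn Q hQ r
    have hr : n⁻¹ * (r : G) * n ∈ (R : Subgroup G) := (mem_normalizer_iff''.mp hn _).mp r.2
    have := hQ ⟨_, hr⟩
    rw [Subgroup.smul_def, mul_smul, mul_smul, inv_smul_eq_iff] at this
    exact this
  have hst : Nat.card (stabilizer N P) ≤ 3 := by
    have hle : (stabilizer N P).map N.subtype ≤ normalizer ((P : Subgroup G) : Set G) := by
      rintro _ ⟨n, hn, rfl⟩
      exact Sylow.smul_eq_iff_mem_normalizer.mp hn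
    have hdd := card_dvd_of_le hle
    rw [card_map_of_injective N.subtype_injective, h.card_normalizer_seven P] at hdd
    by_contra hgt
    push Not at hgt
    have h7 : 7 ∣ Nat.card (stabilizer N P) := by
      have := Nat.le_of_dvd (by norm_num) hdd
      interval_cases Nat.card (stabilizer N P) <;> omega
    obtain ⟨x, hx⟩ := exists_prime_orderOf_dvd_card' (G := stabilizer N P) 7 h7
    have hx' : orderOf ((x : N) : G) = 7 := by rw [orderOf_coe, orderOf_coe]; exact hx
    obtain ⟨P', hP'⟩ := zpowers_eq_sylow (fun Q => h.card7 Q) hx'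
    have hyC : (y : G) ∈ centralizer ((P' : Subgroup G) : Set G) := by
      rw [mem_centralizer_iff]
      intro z hz
      rw [hP'] at hz
      obtain ⟨i, rfl⟩ := mem_zpowers_iff.mp hz
      have hR : IsCyclic (R : Subgroup G) := isCyclic_of_prime_card (h.card3 R)
      have hx1 : (R : Subgroup G).normalizerMonoidHom (x : N) = 1 := by
        have hd1 : orderOf ((R : Subgroup G).normalizerMonoidHom (x : N)) ∣ 7 := by
          have := orderOf_map_dvd (R : Subgroup G).normalizerMonoidHom (x : N)
          rwa [orderOf_coe, hx] at this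
        have hd2 : orderOf ((R : Subgroup G).normalizerMonoidHom (x : N)) ∣ 2 := by
          have h' := _root_.orderOf_dvd_natCard ((R : Subgroup G).normalizerMonoidHom (x : N))
          rwa [hR.card_mulAut, h.card3 R, Nat.totient_prime (by norm_num : Nat.Prime 3)] at h'
        exact orderOf_eq_one_iff.mp (Nat.eq_one_of_dvd_coprimes (by decide) hd1 hd2)
      have h2 := congrArg Subtype.val
        (show (R : Subgroup G).normalizerMonoidHom (x : N) y = y by rw [hx1]; rfl)
      exact ((show Commute ((x : N) : G) (y : G) from mul_inv_eq_iff_eq_mul.mp h2).zpow_left i).eq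
    rw [h.centralizer_seven P'] at hyC
    have := _root_.orderOf_dvd_natCard (⟨y, hyC⟩ : (P' : Subgroup G))
    rw [← orderOf_coe, hy', h.card7 P'] at this
    norm_num at this
  have horb : Nat.card (orbit N P) ≤ 2 := hF2 ▸ Nat.card_mono (Set.toFinite _) (by
    rintro _ ⟨n, rfl⟩
    exact hsmul n n.2 P hP)
  have hN6 : Nat.card N ≤ 6 := by
    rw [← card_orbit_mul_card_stabilizer (G := N) P]
    exact Nat.mul_le_mul horb hst
  have hmul := card_sylow_mul_card_normalizer R
  rw [h.card_eq] at hmul
  have hmod := card_sylow_modEq_one 3 G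
  have h3N : 3 ∣ Nat.card N := h.card3 R ▸ card_dvd_of_le le_normalizer
  unfold Nat.ModEq at hmod
  have hN0 : 0 < Nat.card N := Nat.card_pos
  show Nat.card (Sylow 3 G) = 28 ∧ Nat.card N = 6
  have : Nat.card N = 3 ∨ Nat.card N = 6 := by omega
  rcases this with h' | h'
  · rw [h'] at hmul; omega
  · rw [h'] at hmul; exact ⟨by omega, h'⟩

include h in
theorem centralizer_three [Fact (Nat.Prime 3)] {y : G} (hy : orderOf y = 3) :
    centralizer ({y} : Set G) = zpowers y := by
  have := h.simple
  obtain ⟨R, hR⟩ := zpowers_eq_sylow (fun Q => h.card3 Q) hy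
  have hcyc : IsCyclic (R : Subgroup G) := isCyclic_of_prime_card (h.card3 R)
  have hC : centralizer ({y} : Set G) = centralizer ((R : Subgroup G) : Set G) := by
    rw [hR]
    refine le_antisymm (fun g hg => ?_) (centralizer_le (Set.singleton_subset_iff.mpr (mem_zpowers y)))
    rw [mem_centralizer_singleton_iff] at hg
    rw [mem_centralizer_iff]
    intro z hz
    obtain ⟨i, rfl⟩ := mem_zpowers_iff.mp hz
    exact ((show Commute g y from hg).zpow_right i).eq.symm
  rw [hC, ← hR]
  have hle : (R : Subgroup G) ≤ centralizer ((R : Subgroup G) : Set G) := le_centralizer _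
  refine (eq_of_le_of_card_ge hle ?_).symm
  rw [h.card3 R]
  by_contra hgt
  push Not at hgt
  have hd := card_dvd_of_le (centralizer_le_normalizer ((R : Subgroup G) : Set G))
  rw [(h.card_normalizer_three R).2] at hd
  have h3 := h.card3 R ▸ card_dvd_of_le hle
  have hle6 := Nat.le_of_dvd (by norm_num) hd
  have h6 : Nat.card (centralizer ((R : Subgroup G) : Set G)) = 6 := by omega
  exact no_normal_complement R (by rw [h.card3 R]; norm_num) (by rw [h.card3 R, h.card_eq]; norm_num)
    (eq_of_le_of_card_ge (centralizer_le_normalizer _) (by rw [h6, (h.card_normalizer_three R).2])).ge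

include h in
theorem centralizer_seven_elem [Fact (Nat.Prime 7)] {x : G} (hx : orderOf x = 7) :
    centralizer ({x} : Set G) = zpowers x := by
  obtain ⟨P, hP⟩ := zpowers_eq_sylow (fun Q => h.card7 Q) hx
  refine le_antisymm (fun g hg => ?_) (zpowers_le.mpr (mem_centralizer_singleton_iff.mpr rfl))
  rw [← hP, ← h.centralizer_seven P, mem_centralizer_iff]
  intro z hz
  rw [hP] at hz
  obtain ⟨i, rfl⟩ := mem_zpowers_iff.mp hz
  exact ((show Commute g x from mem_centralizer_singleton_iff.mp hg).zpow_right i).eq.symm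

include h in
theorem orders (g : G) :
    orderOf g = 1 ∨ orderOf g = 2 ∨ orderOf g = 3 ∨ orderOf g = 4 ∨ orderOf g = 7 := by
  have : Fact (Nat.Prime 2) := ⟨Nat.prime_two⟩
  have : Fact (Nat.Prime 3) := ⟨Nat.prime_three⟩
  have : Fact (Nat.Prime 7) := ⟨by norm_num⟩
  have := h.simple
  have hd : orderOf g ∣ 168 := h.card_eq ▸ _root_.orderOf_dvd_natCard g
  have key : ∀ q, q.Prime → q ∣ orderOf g → (∀ z : G, orderOf z = q → centralizer ({z} : Set G) = zpowers z) →
      orderOf g = q := by
    intro q hq hqd hc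
    set z := g ^ (orderOf g / q)
    have hne : orderOf g ≠ 0 := (orderOf_pos g).ne'
    have hz : orderOf z = q := orderOf_pow_orderOf_div hne hqd
    have hg : g ∈ zpowers z := hc z hz ▸ mem_centralizer_singleton_iff.mpr ((Commute.refl g).pow_right _).eq
    have := card_dvd_of_le (zpowers_le.mpr hg)
    rw [Nat.card_zpowers, Nat.card_zpowers, hz] at this
    rcases (Nat.dvd_prime hq).mp this with h1 | h1
    · rw [h1] at hqd; exact absurd (Nat.eq_one_of_dvd_one hqd) hq.one_lt.ne'
    · exact h1
  by_cases h7 : 7 ∣ orderOf g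
  · simp [key 7 (by norm_num) h7 fun z hz => h.centralizer_seven_elem hz]
  by_cases h3 : 3 ∣ orderOf g
  · simp [key 3 Nat.prime_three h3 fun z hz => h.centralizer_three hz]
  have h8 : orderOf g ∣ 8 := by
    have hc : Nat.Coprime (orderOf g) 21 := Nat.Coprime.mul_right
      ((Nat.prime_three.coprime_iff_not_dvd.mpr h3).symm) (((by norm_num : Nat.Prime 7).coprime_iff_not_dvd.mpr h7).symm)
    exact hc.dvd_of_dvd_mul_right (show orderOf g ∣ 8 * 21 from hd)
  obtain ⟨i, hi, hi'⟩ := (Nat.dvd_prime_pow Nat.prime_two (m := 3)).mp h8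
  rw [hi']
  interval_cases i <;> simp
  exfalso
  obtain ⟨T, hT⟩ := (IsPGroup.of_card (p := 2) (n := 3) (G := zpowers g)
    (by rw [Nat.card_zpowers, hi'])).exists_le_sylow
  have hTg : zpowers g = (T : Subgroup G) :=
    eq_of_le_of_card_ge hT (by rw [h.card2 T, Nat.card_zpowers, hi']; norm_num)
  have hc : IsCyclic (T : Subgroup G) := hTg ▸ inferInstance
  exact no_normal_complement T (by rw [h.card2 T]; norm_num) (by rw [h.card2 T, h.card_eq]; norm_num)
    (hc.normalizer_le_centralizer (by rw [h.card_eq]; norm_num))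

/-- The elements of order 2 or 4. -/
abbrev twoEls (G : Type u) [Group G] := {g : G // orderOf g = 2 ∨ orderOf g = 4}

include h in
theorem card_twoEls : Nat.card (twoEls G) = 63 ∧ Nat.card {g : G // orderOf g = 3} = 56 ∧
    Nat.card {g : G // orderOf g = 7} = 48 := by
  classical
  have : Fact (Nat.Prime 3) := ⟨Nat.prime_three⟩
  have : Fact (Nat.Prime 7) := ⟨by norm_num⟩
  have := Fintype.ofFinite G
  obtain ⟨R⟩ : Nonempty (Sylow 3 G) := inferInstance
  have c3 := card_orderOf_eq_prime (G := G) (fun Q : Sylow 3 G => h.card3 Q)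
  have c7 := card_orderOf_eq_prime (G := G) (fun Q : Sylow 7 G => h.card7 Q)
  rw [(h.card_normalizer_three R).1] at c3
  rw [h.card_sylow_seven] at c7
  refine ⟨?_, c3, c7⟩
  let e : G ≃ {g : G // orderOf g = 1} ⊕ twoEls G ⊕ {g : G // orderOf g = 3} ⊕ {g : G // orderOf g = 7} :=
    { toFun := fun g =>
        if h1 : orderOf g = 1 then Sum.inl ⟨g, h1⟩
        else if h2 : orderOf g = 2 ∨ orderOf g = 4 then Sum.inr (Sum.inl ⟨g, h2⟩)
        else if h3 : orderOf g = 3 then Sum.inr (Sum.inr (Sum.inl ⟨g, h3⟩))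
        else Sum.inr (Sum.inr (Sum.inr ⟨g, by
          rcases h.orders g with h' | h' | h' | h' | h' <;> simp_all⟩))
      invFun := Sum.elim (fun g => g.1) (Sum.elim (fun g => g.1) (Sum.elim (fun g => g.1) (fun g => g.1)))
      left_inv := fun g => by dsimp only; split_ifs <;> rfl
      right_inv := fun s => by
        rcases s with ⟨g, hg⟩ | ⟨g, hg | hg⟩ | ⟨g, hg⟩ | ⟨g, hg⟩ <;> simp [hg] }
  have h1 : Nat.card {g : G // orderOf g = 1} = 1 := by
    simp [orderOf_eq_one_iff]
  have := Nat.card_congr e
  rw [h.card_eq, Nat.card_sum, Nat.card_sum, Nat.card_sum, h1, c3, c7] at this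
  omega

include h in
theorem card_sylow_two [Fact (Nat.Prime 2)] : Nat.card (Sylow 2 G) = 21 := by
  classical
  have := h.simple
  obtain ⟨T⟩ : Nonempty (Sylow 2 G) := inferInstance
  have hd : Nat.card (Sylow 2 G) ∣ 21 := by
    have h1 := T.card_dvd_index
    have h2 := card_mul_index (T : Subgroup G)
    rw [h.card2 T, h.card_eq] at h2
    rwa [show (T : Subgroup G).index = 21 by omega] at h1
  have hle := Nat.le_of_dvd (by norm_num) hd
  have h7 : 7 ≤ Nat.card (Sylow 2 G) := by
    rw [T.card_eq_index_normalizer]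
    refine h.index_ge_seven fun hc => ?_
    have hn : (T : Subgroup G).Normal := normalizer_eq_top_iff.mp hc
    rcases hn.eq_bot_or_eq_top with hb | hb
    · have := h.card2 T; rw [hb, card_bot] at this; omega
    · have := h.card2 T; rw [hb, card_top, h.card_eq] at this; omega
  have hne7 : Nat.card (Sylow 2 G) ≠ 7 := by
    intro h7'
    have := Fintype.ofFinite G
    have := Fintype.ofFinite (Sylow 2 G)
    have hcov : Nat.card (twoEls G) ≤ Nat.card (Σ Q : Sylow 2 G, {x : (Q : Subgroup G) // x ≠ 1}) := by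
      refine Nat.card_le_card_of_surjective
        (fun s : (Σ Q : Sylow 2 G, {x : (Q : Subgroup G) // x ≠ 1}) =>
          (⟨(s.2.1 : G), ?_⟩ : twoEls G)) ?_
      · obtain ⟨k, hk⟩ := (IsPGroup.iff_orderOf.mp s.1.isPGroup') s.2.1
        rw [← orderOf_coe] at hk
        rcases h.orders (s.2.1 : G) with h' | h' | h' | h' | h'
        · exact absurd (Subtype.ext (orderOf_eq_one_iff.mp h')) s.2.2
        · exact Or.inl h'
        · exfalso
          rw [h'] at hk
          have := Nat.prime_three.dvd_of_dvd_pow (dvd_of_eq hk)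
          norm_num at this
        · exact Or.inr h'
        · exfalso
          rw [h'] at hk
          have := (by norm_num : Nat.Prime 7).dvd_of_dvd_pow (dvd_of_eq hk)
          norm_num at this
      · rintro ⟨g, hg⟩
        have hp : IsPGroup 2 (zpowers g) := by
          rcases hg with hg | hg
          · exact IsPGroup.of_card (n := 1) (by rw [Nat.card_zpowers, hg, pow_one])
          · exact IsPGroup.of_card (n := 2) (by rw [Nat.card_zpowers, hg]; norm_num)
        obtain ⟨Q, hQ⟩ := hp.exists_le_sylow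
        exact ⟨⟨Q, ⟨g, hQ (mem_zpowers g)⟩, fun hc => by
          have h0 : g = 1 := congrArg Subtype.val hc
          simp [h0] at hg⟩, rfl⟩
    rw [h.card_twoEls.1, Nat.card_sigma, Finset.sum_congr rfl (g := fun _ => 7), Finset.sum_const,
      Finset.card_univ, smul_eq_mul, ← Nat.card_eq_fintype_card, h7'] at hcov
    · omega
    · intro Q _
      rw [Nat.card_eq_fintype_card, Fintype.card_subtype_compl, Fintype.card_subtype_eq,
        ← Nat.card_eq_fintype_card, h.card2 Q]
  interval_cases Nat.card (Sylow 2 G) <;> omega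

end Simple168

end Cfsg.Agent.SmallSimple
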