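import Cfsg.Agent.Lib.DefectOne.PrincipalOne
import Cfsg.Agent.Lib.DefectOne.Three
import Cfsg.Agent.Lib.SmallCofactor.Basic
import Cfsg.Agent.Lib.Char.ClassSum
import Cfsg.Agent.Lib.CharInt.Kazarin

/-!
# Products of two conjugate involutions meeting the 5-singular elements

`G` has Sylow 5-subgroups of order 5 with centralisers of order `5 k`.  A combination `Θ` of irreducible
characters vanishing off the 5-singular elements and constant on 5-sections gives, paired with the class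
multiplication of an involution class, `k |G| S = 5 c₁ j² c²` where `S = ∑ cf χ(t)² / χ(1)`, `c = |C(t)|`,
`c₁` is the coefficient of the trivial character and `5 j ≤ 5 k` is the number of conjugates of `t` inverting `y`.
-/

set_option autoImplicit false
set_option linter.style.haveILetI false
set_option linter.unusedSectionVars false

namespace Cfsg.Agent.FivePairs

open Cfsg Cfsg.Agent
open scoped Classical ComplexConjugate

universe u

variable {G : Type u} [Group G] [Fintype G]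

/-- The exponent projecting on the 5-part. -/
structure FiveExp (G : Type u) [Group G] (e : ℕ) : Prop where
  one : e % 5 = 1
  five : ∀ g : G, g ^ (e * 5) = 1
  split : ∀ g : G, ¬ 5 ∣ orderOf g → g ^ e = 1

theorem fiveExp_of {m r : ℕ} (hn : Nat.card G = 5 * m) (hm : ¬ 5 ∣ m) (hr : (m * r) % 5 = 1) :
    FiveExp G (m * r) :=
  { one := hr
    five := fun g => by
      rw [show m * r * 5 = Nat.card G * r by rw [hn]; ring, pow_mul, pow_card_eq_one', one_pow]
    split := fun g hg => by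
      refine orderOf_dvd_iff_pow_eq_one.1 (dvd_mul_of_dvd_left ?_ r)
      refine Nat.Coprime.dvd_of_dvd_mul_left ?_ (hn ▸ orderOf_dvd_natCard g)
      exact ((Nat.Prime.coprime_iff_not_dvd (by norm_num : (5 : ℕ).Prime)).2 hg).symm }

theorem pow_five_part {y : G} (hy : y ^ 5 = 1) {e : ℕ} (he : e % 5 = 1) : y ^ e = y := by
  conv_lhs => rw [← Nat.mod_add_div e 5, he, pow_add, pow_mul, hy, one_pow, mul_one, pow_one]

theorem pow_mod_five {y : G} (hy : y ^ 5 = 1) (i : ℕ) : y ^ i = y ^ (i % 5) := by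
  conv_lhs => rw [← Nat.mod_add_div i 5, pow_add, pow_mul, hy, one_pow, mul_one]

/-- An element of order dividing five commuting with `y` is a power of `y`. -/
theorem mem_powers_of_commute (hsyl : ∀ H : Subgroup G, IsPGroup 5 H → Nat.card H ≤ 5) {y z : G}
    (hy : orderOf y = 5) (hz : z ^ 5 = 1) (hc : Commute y z) : ∃ i < 5, y ^ i = z := by
  haveI : Fact (Nat.Prime 5) := ⟨by norm_num⟩
  have hpg : ∀ w : G, w ^ 5 = 1 → IsPGroup 5 (Subgroup.zpowers w) := fun w hw => by
    obtain ⟨i, -, hi⟩ := (Nat.dvd_prime_pow (by norm_num : (5 : ℕ).Prime)).1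
      (show orderOf w ∣ 5 ^ 1 by rw [pow_one]; exact orderOf_dvd_of_pow_eq_one hw)
    exact IsPGroup.of_card (n := i) (by rw [Nat.card_zpowers, hi])
  have hnorm : Subgroup.zpowers z ≤ Subgroup.normalizer (Subgroup.zpowers y : Set G) := by
    refine le_trans ?_ (Subgroup.centralizer_le_normalizer _)
    rw [Subgroup.zpowers_le, Subgroup.mem_centralizer_iff]
    rintro w ⟨i, rfl⟩
    exact (hc.zpow_left i).eq
  have hy5 : y ^ 5 = 1 := by rw [← hy, pow_orderOf_eq_one]
  have hH := (hpg y hy5).to_sup_of_normal_left' (hpg z hz) hnorm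
  have heq : Subgroup.zpowers y = Subgroup.zpowers y ⊔ Subgroup.zpowers z :=
    Subgroup.eq_of_le_of_card_ge le_sup_left (by rw [Nat.card_zpowers, hy]; exact hsyl _ hH)
  obtain ⟨a, ha⟩ := (isOfFinOrder_of_finite y).mem_powers_iff_mem_zpowers.2
    (heq ▸ Subgroup.mem_sup_right (Subgroup.mem_zpowers z) : z ∈ Subgroup.zpowers y)
  exact ⟨a % 5, Nat.mod_lt _ (by norm_num), by rw [← pow_mod_five hy5]; exact ha⟩

theorem powers_injOn {y : G} (hy : orderOf y = 5) {i j : ℕ} (hi : i < 5) (hj : j < 5)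
    (h : y ^ i = y ^ j) : i = j :=
  pow_injOn_Iio_orderOf (by rw [hy]; exact hi) (by rw [hy]; exact hj) h

/-- The five powers of `y`. -/
noncomputable def powers5 (y : G) : Finset G := (Finset.range 5).image fun i => y ^ i

theorem card_powers5 {y : G} (hy : orderOf y = 5) : (powers5 y).card = 5 := by
  rw [powers5, Finset.card_image_of_injOn fun i hi j hj h =>
    powers_injOn hy (Finset.mem_range.1 hi) (Finset.mem_range.1 hj) h, Finset.card_range]

/-- The conjugating elements sending `t` to an involution inverting `y`. -/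
noncomputable def inverters (t y : G) : Finset G :=
  Finset.univ.filter fun a => (a * t * a⁻¹) * y * (a * t * a⁻¹)⁻¹ = y⁻¹

theorem inverters_shift {t y a : G} (ha : a ∈ inverters t y) (r : ℕ) : y ^ r * a ∈ inverters t y := by
  refine Finset.mem_filter.2 ⟨Finset.mem_univ _, ?_⟩
  have h := (Finset.mem_filter.1 ha).2
  calc y ^ r * a * t * (y ^ r * a)⁻¹ * y * (y ^ r * a * t * (y ^ r * a)⁻¹)⁻¹
      = y ^ r * ((a * t * a⁻¹) * ((y ^ r)⁻¹ * y * y ^ r) * (a * t * a⁻¹)⁻¹) * (y ^ r)⁻¹ := by group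
    _ = y ^ r * y⁻¹ * (y ^ r)⁻¹ := by
        rw [show (y ^ r)⁻¹ * y * y ^ r = y by
          rw [mul_assoc, ← (Commute.pow_self y r).eq, inv_mul_cancel_left], h]
    _ = y⁻¹ := by rw [((Commute.refl y).pow_left r).inv_right.eq, mul_inv_cancel_right]

/-- For `a`, `b` inverting `y`, conjugating `b` by `y ^ r` shifts the product by `y ^ (-2 r)`. -/
theorem product_shift {t y a b : G} (ha : a ∈ inverters t y) (hb : b ∈ inverters t y) (r : ℕ) :
    Commute y (a * t * a⁻¹ * (b * t * b⁻¹)) ∧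
    a * t * a⁻¹ * (y ^ r * b * t * (y ^ r * b)⁻¹) = ((y ^ r)⁻¹ * (y ^ r)⁻¹) * (a * t * a⁻¹ * (b * t * b⁻¹)) := by
  have hA := (Finset.mem_filter.1 ha).2
  have hB := (Finset.mem_filter.1 hb).2
  set A := a * t * a⁻¹
  set B := b * t * b⁻¹
  have hc : Commute y (A * B) := by
    have h : A * B * y * (A * B)⁻¹ = y := by
      calc _ = A * (B * y * B⁻¹) * A⁻¹ := by group
        _ = (A * y * A⁻¹)⁻¹ := by rw [hB]; group
        _ = y := by rw [hA, inv_inv]
    exact (mul_inv_eq_iff_eq_mul.1 h).symm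
  refine ⟨hc, ?_⟩
  have hA' : A * y ^ r = (y ^ r)⁻¹ * A := by
    rw [← mul_inv_eq_iff_eq_mul, ← conj_pow, hA, inv_pow]
  have hB' : B * (y ^ r)⁻¹ = y ^ r * B := by
    rw [← mul_inv_eq_iff_eq_mul, ← conj_inv, ← conj_pow, hB, inv_pow, inv_inv]
  calc A * (y ^ r * b * t * (y ^ r * b)⁻¹) = A * y ^ r * (B * (y ^ r)⁻¹) := by simp only [B]; group
    _ = (y ^ r)⁻¹ * (A * y ^ r) * B := by rw [hB']; nth_rewrite 1 [hA']; group
    _ = ((y ^ r)⁻¹ * (y ^ r)⁻¹) * (A * B) := by rw [hA']; group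

variable {e : ℕ}

/-- The pairs with a prescribed 5-part of the product. -/
noncomputable def pairsWith (t : G) (e : ℕ) (y : G) : Finset (G × G) :=
  Finset.univ.filter fun ab => (ab.1 * t * ab.1⁻¹ * (ab.2 * t * ab.2⁻¹)) ^ e = y

theorem five_mul_pairsWith (he : FiveExp G e) (hsyl : ∀ H : Subgroup G, IsPGroup 5 H → Nat.card H ≤ 5)
    {t y : G} (ht : t * t = 1) (hy : orderOf y = 5) :
    5 * (pairsWith t e y).card = (inverters t y).card * (inverters t y).card := by
  have hy5 : y ^ 5 = 1 := by rw [← hy, pow_orderOf_eq_one]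
  have hsq : ∀ a : G, a * t * a⁻¹ * (a * t * a⁻¹) = 1 := fun a => by
    rw [show a * t * a⁻¹ * (a * t * a⁻¹) = a * (t * t) * a⁻¹ by group, ht]; group
  have hsub : ∀ {a b : G}, (a * t * a⁻¹ * (b * t * b⁻¹)) ^ e = y → a ∈ inverters t y ∧ b ∈ inverters t y := by
    intro a b h
    set A := a * t * a⁻¹
    set B := b * t * b⁻¹
    have hA : A⁻¹ = A := inv_eq_of_mul_eq_one_right (hsq a)
    have hB : B⁻¹ = B := inv_eq_of_mul_eq_one_right (hsq b)
    constructor <;> refine Finset.mem_filter.2 ⟨Finset.mem_univ _, ?_⟩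
    · show A * y * A⁻¹ = y⁻¹
      rw [← h, ← conj_pow, ← inv_pow]
      congr 1
      rw [mul_inv_rev A B, hA, hB, mul_assoc A A B |>.symm, hsq a, one_mul]
    · show B * y * B⁻¹ = y⁻¹
      rw [← h, ← conj_pow, ← inv_pow]
      congr 1
      rw [mul_inv_rev A B, hA, hB, mul_assoc, mul_assoc A B B, hsq b, mul_one]
  rw [← Finset.card_product, Finset.card_eq_sum_card_fiberwise (s := inverters t y ×ˢ inverters t y)
    (f := fun ab : G × G => (ab.1 * t * ab.1⁻¹ * (ab.2 * t * ab.2⁻¹)) ^ e) (t := powers5 y) fun ab hab => ?_]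
  swap
  · obtain ⟨ha, hb⟩ := Finset.mem_product.1 (Finset.mem_coe.1 hab)
    obtain ⟨i, hi, h⟩ := mem_powers_of_commute hsyl hy
      (z := (ab.1 * t * ab.1⁻¹ * (ab.2 * t * ab.2⁻¹)) ^ e) (by rw [← pow_mul, he.five])
      ((product_shift ha hb 0).1.pow_right e)
    exact Finset.mem_image.2 ⟨i, Finset.mem_range.2 hi, h⟩
  rw [Finset.sum_congr rfl fun z hz => (?_ : _ = (pairsWith t e y).card), Finset.sum_const, card_powers5 hy,
    smul_eq_mul]
  symm
  obtain ⟨i, -, rfl⟩ := Finset.mem_image.1 hz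
  have key : ∀ {a b : G}, a ∈ inverters t y → b ∈ inverters t y → ∀ r,
      (a * t * a⁻¹ * (y ^ r * b * t * (y ^ r * b)⁻¹)) ^ e =
        (y ^ r)⁻¹ * (y ^ r)⁻¹ * (a * t * a⁻¹ * (b * t * b⁻¹)) ^ e := by
    intro a b ha hb r
    obtain ⟨hc, h⟩ := product_shift ha hb r
    have hpow : ((y ^ r)⁻¹ * (y ^ r)⁻¹) ^ e = (y ^ r)⁻¹ * (y ^ r)⁻¹ :=
      pow_five_part (by
        rw [((Commute.refl ((y ^ r)⁻¹))).mul_pow, inv_pow, ← pow_mul, mul_comm r 5, pow_mul, hy5, one_pow,
          inv_one, one_mul]) he.one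
    rw [h, ((((hc.pow_left r).inv_left)).mul_left ((hc.pow_left r).inv_left)).mul_pow, hpow]
  refine Finset.card_bij' (fun ab _ => (ab.1, y ^ (2 * (i + 4)) * ab.2))
    (fun ab _ => (ab.1, (y ^ (2 * (i + 4)))⁻¹ * ab.2)) (fun ab hab => ?_) (fun ab hab => ?_)
    (fun ab _ => by simp) (fun ab _ => by simp)
  · have h : (ab.1 * t * ab.1⁻¹ * (ab.2 * t * ab.2⁻¹)) ^ e = y := (Finset.mem_filter.1 hab).2
    obtain ⟨ha, hb⟩ := hsub h
    refine Finset.mem_filter.2 ⟨Finset.mem_product.2 ⟨ha, inverters_shift hb _⟩, ?_⟩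
    show (ab.1 * t * ab.1⁻¹ * (y ^ (2 * (i + 4)) * ab.2 * t * (y ^ (2 * (i + 4)) * ab.2)⁻¹)) ^ e = y ^ i
    rw [key ha hb, h, ← mul_inv_rev, ← pow_add, inv_mul_eq_iff_eq_mul, ← pow_add,
      pow_mod_five hy5 (2 * (i + 4) + 2 * (i + 4) + i)]
    rw [show (2 * (i + 4) + 2 * (i + 4) + i) % 5 = 1 by omega, pow_one]
  · obtain ⟨hab, h⟩ := Finset.mem_filter.1 hab
    obtain ⟨ha, hb⟩ := Finset.mem_product.1 hab
    refine Finset.mem_filter.2 ⟨Finset.mem_univ _, ?_⟩
    have hr : (y ^ (2 * (i + 4)))⁻¹ = y ^ (4 * (2 * (i + 4))) := by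
      refine inv_eq_of_mul_eq_one_right ?_
      rw [← pow_add, show 2 * (i + 4) + 4 * (2 * (i + 4)) = 5 * (2 * (i + 4)) by ring, pow_mul, hy5, one_pow]
    show (ab.1 * t * ab.1⁻¹ * ((y ^ (2 * (i + 4)))⁻¹ * ab.2 * t * ((y ^ (2 * (i + 4)))⁻¹ * ab.2)⁻¹)) ^ e = y
    rw [hr, key ha hb, show (ab.1 * t * ab.1⁻¹ * (ab.2 * t * ab.2⁻¹)) ^ e = y ^ i from h, ← mul_inv_rev,
      ← pow_add, inv_mul_eq_iff_eq_mul, ← pow_succ,
      pow_mod_five hy5 i, pow_mod_five hy5 (4 * (2 * (i + 4)) + 4 * (2 * (i + 4)) + 1)]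
    congr 1
    omega

/-- The elements with a prescribed 5-part. -/
theorem five_mul_fiber (he : FiveExp G e) (hsyl : ∀ H : Subgroup G, IsPGroup 5 H → Nat.card H ≤ 5)
    {y : G} (hy : orderOf y = 5) : 5 * (Finset.univ.filter fun g : G => g ^ e = y).card =
      Nat.card (Subgroup.centralizer ({y} : Set G)) := by
  have hy5 : y ^ 5 = 1 := by rw [← hy, pow_orderOf_eq_one]
  rw [Nat.card_eq_fintype_card, show Fintype.card (Subgroup.centralizer ({y} : Set G)) =
      (Finset.univ.filter fun g : G => Commute y g).card from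
    Fintype.card_of_subtype _ fun g => by
      simp [Subgroup.mem_centralizer_singleton_iff, commute_iff_eq, eq_comm],
    Finset.card_eq_sum_card_fiberwise (s := Finset.univ.filter fun g : G => Commute y g) (f := fun g : G => g ^ e) (t := powers5 y) fun g hg => ?_]
  swap
  · obtain ⟨i, hi, h⟩ := mem_powers_of_commute hsyl hy (z := g ^ e) (by rw [← pow_mul, he.five])
      ((Finset.mem_filter.1 (Finset.mem_coe.1 hg)).2.pow_right e)
    exact Finset.mem_image.2 ⟨i, Finset.mem_range.2 hi, h⟩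
  rw [Finset.sum_congr rfl fun z hz => (?_ : _ = (Finset.univ.filter fun g : G => g ^ e = y).card),
    Finset.sum_const, card_powers5 hy, smul_eq_mul]
  symm
  obtain ⟨i, -, rfl⟩ := Finset.mem_image.1 hz
  refine Finset.card_bij' (fun g _ => y ^ (i + 4) * g) (fun g _ => (y ^ (i + 4))⁻¹ * g) (fun g hg => ?_)
    (fun g hg => ?_) (fun g _ => by simp) (fun g _ => by simp)
  · have h : g ^ e = y := (Finset.mem_filter.1 hg).2
    have hc : Commute y g := h ▸ (Commute.refl g).pow_left e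
    refine Finset.mem_filter.2 ⟨Finset.mem_filter.2 ⟨Finset.mem_univ _,
      ((Commute.refl y).pow_right _).mul_right hc⟩, ?_⟩
    show (y ^ (i + 4) * g) ^ e = y ^ i
    rw [(hc.pow_left _).mul_pow, pow_five_part (by rw [← pow_mul, mul_comm, pow_mul, hy5, one_pow]) he.one,
      h, ← pow_succ, pow_mod_five hy5 i, pow_mod_five hy5 (i + 4 + 1)]
    congr 1
    omega
  · obtain ⟨hg, h⟩ := Finset.mem_filter.1 hg
    have hc : Commute y g := (Finset.mem_filter.1 hg).2
    refine Finset.mem_filter.2 ⟨Finset.mem_univ _, ?_⟩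
    show ((y ^ (i + 4))⁻¹ * g) ^ e = y
    rw [(hc.pow_left _).inv_left.mul_pow, pow_five_part (by rw [inv_pow, ← pow_mul, mul_comm, pow_mul, hy5,
      one_pow, inv_one]) he.one, h, inv_mul_eq_iff_eq_mul, ← pow_succ, pow_mod_five hy5 i,
      pow_mod_five hy5 (i + 4 + 1)]
    congr 1
    omega

theorem card_conjugators (t : G) {u : G} (hu : IsConj t u) :
    (Finset.univ.filter fun a : G => a * t * a⁻¹ = u).card = Nat.card (Subgroup.centralizer ({t} : Set G)) := by
  obtain ⟨a₀, rfl⟩ := isConj_iff.1 hu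
  rw [Nat.card_eq_fintype_card, Fintype.card_of_subtype (Finset.univ.filter fun h : G => h * t = t * h)
    fun h => by simp [Subgroup.mem_centralizer_singleton_iff]]
  refine Finset.card_bij' (fun a _ => a₀⁻¹ * a) (fun h _ => a₀ * h) (fun a ha => ?_) (fun h hh => ?_)
    (fun a _ => by simp) (fun h _ => by simp)
  · refine Finset.mem_filter.2 ⟨Finset.mem_univ _, ?_⟩
    have h := (Finset.mem_filter.1 ha).2
    calc a₀⁻¹ * a * t = a₀⁻¹ * (a * t * a⁻¹) * a := by group
      _ = t * (a₀⁻¹ * a) := by rw [h]; group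
  · refine Finset.mem_filter.2 ⟨Finset.mem_univ _, ?_⟩
    calc a₀ * h * t * (a₀ * h)⁻¹ = a₀ * (h * t) * h⁻¹ * a₀⁻¹ := by group
      _ = a₀ * t * a₀⁻¹ := by rw [(Finset.mem_filter.1 hh).2]; group

/-- The number of inverters is `5 j |C(t)|` with `j ≤ k`. -/
theorem exists_card_inverters {t y : G} (hy : orderOf y = 5) {k : ℕ}
    (hk : Nat.card (Subgroup.centralizer ({y} : Set G)) = 5 * k) :
    ∃ j ≤ k, (inverters t y).card = 5 * j * Nat.card (Subgroup.centralizer ({t} : Set G)) ∧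
      (inverters t y = ∅ ↔ j = 0) := by
  haveI : Fact (Nat.Prime 5) := ⟨by norm_num⟩
  set A := Finset.univ.filter fun u : G => IsConj t u ∧ u * y * u⁻¹ = y⁻¹ with hA
  have h1 : (inverters t y).card = A.card * Nat.card (Subgroup.centralizer ({t} : Set G)) := by
    rw [Finset.card_eq_sum_card_fiberwise (s := inverters t y) (f := fun a : G => a * t * a⁻¹) (t := A) fun a ha =>
      Finset.mem_filter.2 ⟨Finset.mem_univ _, isConj_iff.2 ⟨a, rfl⟩, (Finset.mem_filter.1 ha).2⟩,
      Finset.sum_congr rfl fun u hu => ?_, Finset.sum_const, smul_eq_mul]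
    rw [← card_conjugators t (Finset.mem_filter.1 hu).2.1]
    congr 1
    ext a
    simp only [inverters, Finset.mem_filter, Finset.mem_univ, true_and, and_iff_right_iff_imp]
    intro h
    rw [h]
    exact (Finset.mem_filter.1 hu).2.2
  have hle : A.card ≤ 5 * k := by
    rcases A.eq_empty_or_nonempty with h | ⟨u₀, hu₀⟩
    · simp [h]
    rw [← hk, Nat.card_eq_fintype_card, Fintype.card_of_subtype (Finset.univ.filter fun h : G => h * y = y * h)
      fun h => by simp [Subgroup.mem_centralizer_singleton_iff]]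
    refine Finset.card_le_card_of_injOn (fun u => u₀ * u) (fun u hu => ?_)
      fun u _ v _ h => mul_left_cancel h
    have h₀ := (Finset.mem_filter.1 hu₀).2.2
    have h := (Finset.mem_filter.1 hu).2.2
    refine Finset.mem_filter.2 ⟨Finset.mem_univ _, ?_⟩
    rw [← mul_inv_eq_iff_eq_mul]
    calc u₀ * u * y * (u₀ * u)⁻¹ = u₀ * (u * y * u⁻¹) * u₀⁻¹ := by group
      _ = (u₀ * y * u₀⁻¹)⁻¹ := by rw [h]; group
      _ = y := by rw [h₀, inv_inv]
  have h5 : 5 ∣ A.card := by
    have hy5 : y ^ 5 = 1 := by rw [← hy, pow_orderOf_eq_one]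
    have hmem : ∀ {u : G}, u ∈ A → y * u * y⁻¹ ∈ A := fun {u} hu => by
      obtain ⟨hc, h⟩ := (Finset.mem_filter.1 hu).2
      refine Finset.mem_filter.2 ⟨Finset.mem_univ _, hc.trans (isConj_iff.2 ⟨y, rfl⟩), ?_⟩
      calc y * u * y⁻¹ * y * (y * u * y⁻¹)⁻¹ = y * (u * y * u⁻¹) * y⁻¹ := by group
        _ = y⁻¹ := by rw [h]; group
    let f : A → A := fun u => ⟨y * u.1 * y⁻¹, hmem u.2⟩
    have hf : Function.Injective f := fun u v h => Subtype.ext (mul_left_cancel (mul_right_cancel (congrArg Subtype.val h)))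
    let σ : Equiv.Perm A := Equiv.ofBijective f (Finite.injective_iff_bijective.1 hf)
    have hpow : ∀ n (u : A), ((σ ^ n) u : G) = y ^ n * u * (y ^ n)⁻¹ := by
      intro n
      induction n with
      | zero => simp
      | succ n ih => intro u; rw [pow_succ', Equiv.Perm.mul_apply]; show y * _ * y⁻¹ = _; rw [ih, pow_succ']; group
    have hσ : σ ^ 5 ^ 1 = 1 := Equiv.ext fun u => Subtype.ext (by rw [pow_one, hpow, hy5]; simp)
    have hmod := Equiv.Perm.card_compl_support_modEq hσ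
    have hfix : σ.supportᶜ = (∅ : Finset A) := by
      ext u
      simp only [Finset.mem_compl, Equiv.Perm.mem_support, not_not, Finset.notMem_empty, iff_false]
      intro h
      have h1 : y * u.1 * y⁻¹ = u.1 := congrArg Subtype.val h
      have h2 := (Finset.mem_filter.1 u.2).2.2
      rw [mul_inv_eq_iff_eq_mul] at h1
      rw [← h1, mul_inv_cancel_right] at h2
      have : y ^ 2 = 1 := by rw [pow_two]; nth_rewrite 2 [h2]; exact mul_inv_cancel y
      have := orderOf_dvd_of_pow_eq_one this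
      rw [hy] at this
      norm_num at this
    rw [hfix, Finset.card_empty, Fintype.card_coe] at hmod
    exact Nat.modEq_zero_iff_dvd.1 hmod.symm
  obtain ⟨j, hj⟩ := h5
  refine ⟨j, by omega, by rw [h1, hj], ?_⟩
  rw [← Finset.card_eq_zero, h1, hj]
  have := (Nat.card_pos : 0 < Nat.card (Subgroup.centralizer ({t} : Set G))).ne'
  simp [this]

theorem card_inverters_conj (t y g : G) : (inverters t (g * y * g⁻¹)).card = (inverters t y).card := by
  refine Finset.card_bij' (fun a _ => g⁻¹ * a) (fun a _ => g * a) (fun a ha => ?_) (fun a ha => ?_)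
    (fun a _ => by simp) (fun a _ => by simp) <;>
    refine Finset.mem_filter.2 ⟨Finset.mem_univ _, ?_⟩ <;> have h := (Finset.mem_filter.1 ha).2
  · calc g⁻¹ * a * t * (g⁻¹ * a)⁻¹ * y * (g⁻¹ * a * t * (g⁻¹ * a)⁻¹)⁻¹
        = g⁻¹ * ((a * t * a⁻¹) * (g * y * g⁻¹) * (a * t * a⁻¹)⁻¹) * g := by group
      _ = y⁻¹ := by rw [h]; group
  · calc g * a * t * (g * a)⁻¹ * (g * y * g⁻¹) * (g * a * t * (g * a)⁻¹)⁻¹
        = g * ((a * t * a⁻¹) * y * (a * t * a⁻¹)⁻¹) * g⁻¹ := by group
      _ = (g * y * g⁻¹)⁻¹ := by rw [h]; group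

/-- **The identity.** -/
theorem pairs_identity (he : FiveExp G e) (hsyl : ∀ H : Subgroup G, IsPGroup 5 H → Nat.card H ≤ 5)
    {k : ℕ} (hk : ∀ y : G, orderOf y = 5 → Nat.card (Subgroup.centralizer ({y} : Set G)) = 5 * k)
    (hconj : ∀ y z : G, orderOf y = 5 → orderOf z = 5 → ∃ g : G, ∀ w : G,
      w * (g * y * g⁻¹) * w⁻¹ = (g * y * g⁻¹)⁻¹ ↔ w * z * w⁻¹ = z⁻¹)
    (B : Finset (IrrCharacter G)) (cf : IrrCharacter G → ℤ) (htriv : Char.trivialChar G ∈ B)
    (hreg : ∀ g : G, ¬ 5 ∣ orderOf g → ∑ χ ∈ B, (cf χ : ℂ) * χ.1 g = 0)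
    (hsec : ∀ g : G, g ^ e ≠ 1 → ∑ χ ∈ B, (cf χ : ℂ) * χ.1 g = ∑ χ ∈ B, (cf χ : ℂ) * χ.1 (g ^ e))
    {t y₀ : G} (ht : t * t = 1) (hy₀ : orderOf y₀ = 5) :
    ∃ j ≤ k, (inverters t y₀ = ∅ ↔ j = 0) ∧
      (k : ℂ) * Nat.card G * ∑ χ ∈ B, (cf χ : ℂ) * (χ.1 t * χ.1 t / χ.1 1) =
        5 * (cf (Char.trivialChar G) : ℂ) * (j : ℂ) ^ 2 *
          (Nat.card (Subgroup.centralizer ({t} : Set G)) : ℂ) ^ 2 := by
  obtain ⟨j, hjk, hj, hj0⟩ := exists_card_inverters (t := t) hy₀ (hk y₀ hy₀)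
  refine ⟨j, hjk, hj0, ?_⟩
  set Θ : G → ℂ := fun g => ∑ χ ∈ B, (cf χ : ℂ) * χ.1 g with hΘ
  set O₅ := Finset.univ.filter fun y : G => orderOf y = 5
  have hO : ∀ g : G, g ^ e ≠ 1 → g ^ e ∈ O₅ := fun g hg =>
    Finset.mem_filter.2 ⟨Finset.mem_univ _, by
      haveI : Fact (Nat.Prime 5) := ⟨by norm_num⟩
      exact orderOf_eq_prime (by rw [← pow_mul, he.five]) hg⟩
  have hzero : ∀ g : G, g ^ e = 1 → Θ g = 0 := fun g hg => hreg g fun h5 => by
    obtain ⟨q, hq⟩ := h5.trans (orderOf_dvd_of_pow_eq_one hg)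
    have := he.one
    omega
  have hO1 : ∀ {y : G}, y ∈ O₅ → y ≠ 1 := fun {y} hy h => by
    have := (Finset.mem_filter.1 hy).2
    rw [h, orderOf_one] at this
    omega
  have horth : ∀ χ : IrrCharacter G, ∑ g : G, Θ g * χ.1 g⁻¹ =
      (Nat.card G : ℂ) * (if χ ∈ B then (cf χ : ℂ) else 0) := by
    intro χ
    have h1 : ∀ ψ : IrrCharacter G, ∑ g : G, ψ.1 g * χ.1 g⁻¹ =
        (Nat.card G : ℂ) * (if χ = ψ then 1 else 0) := fun ψ => by
      have hc : (Nat.card G : ℂ) ≠ 0 := Nat.cast_ne_zero.2 Nat.card_pos.ne'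
      have h2 : classInner ψ.1 χ.1 = if χ = ψ then 1 else 0 := by
        by_cases h : χ = ψ
        · rw [h, if_pos rfl, Char.classInner_irr_self ψ.2]
        · rw [if_neg h, Char.classInner_irr_of_ne ψ.2 χ.2 fun h' => h (Subtype.ext h').symm]
      rw [← h2, classInner, ← mul_assoc, mul_inv_cancel₀ hc, one_mul]
      exact Finset.sum_congr rfl fun g _ => by
        rw [Char.IsCharacter.conj_apply (Char.irr_isCharacter χ)]
    simp only [hΘ, Finset.sum_mul]
    rw [Finset.sum_comm]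
    simp only [mul_assoc, ← Finset.mul_sum, h1]
    rw [Finset.sum_congr rfl fun ψ _ => show (cf ψ : ℂ) * ((Nat.card G : ℂ) * if χ = ψ then 1 else 0) =
      if χ = ψ then (Nat.card G : ℂ) * cf ψ else 0 by split_ifs <;> ring, Finset.sum_ite_eq]
    split_ifs <;> ring
  have hnorm : (k : ℂ) * ∑ y ∈ O₅, Θ y = (Nat.card G : ℂ) * cf (Char.trivialChar G) := by
    have h := horth (Char.trivialChar G)
    simp only [Char.trivialChar_apply, mul_one, if_pos htriv] at h
    rw [← h, ← Finset.sum_filter_of_ne (s := (Finset.univ : Finset G)) (p := fun g : G => g ^ e ≠ 1) (fun g _ hg h1 => hg (hzero g h1)),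
      ← Finset.sum_fiberwise_of_maps_to (g := fun g : G => g ^ e) (t := O₅)
        (fun g hg => hO g (Finset.mem_filter.1 hg).2), Finset.mul_sum]
    refine Finset.sum_congr rfl fun y hy => ?_
    rw [Finset.sum_congr rfl fun g hg => show Θ g = Θ y by
        obtain ⟨h1, h2⟩ := Finset.mem_filter.1 hg
        rw [← h2]; exact hsec g (Finset.mem_filter.1 h1).2,
      Finset.sum_const, nsmul_eq_mul]
    congr 2
    rw [Finset.filter_filter, show (Finset.univ.filter fun g : G => g ^ e ≠ 1 ∧ g ^ e = y) =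
      Finset.univ.filter fun g : G => g ^ e = y from Finset.filter_congr fun g _ =>
        and_iff_right_of_imp fun h => h ▸ hO1 hy]
    have := five_mul_fiber he hsyl (Finset.mem_filter.1 hy).2
    rw [hk y (Finset.mem_filter.1 hy).2] at this
    omega
  set T := fun a : G => a * t * a⁻¹ with hT
  have hAi : ∀ y : G, orderOf y = 5 → (inverters t y).card = (inverters t y₀).card := fun y hy => by
    obtain ⟨g, hg⟩ := hconj y₀ y hy₀ hy
    rw [← card_inverters_conj t y₀ g]
    exact congrArg Finset.card (Finset.filter_congr fun a _ => (hg _).symm)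
  have hpairs : 5 * ∑ ab : G × G, Θ (T ab.1 * T ab.2) =
      ((inverters t y₀).card : ℂ) * (inverters t y₀).card * ∑ y ∈ O₅, Θ y := by
    rw [← Finset.sum_filter_of_ne (p := fun ab : G × G => (T ab.1 * T ab.2) ^ e ≠ 1)
        (fun ab _ hg h1 => hg (hzero _ h1)),
      ← Finset.sum_fiberwise_of_maps_to (g := fun ab : G × G => (T ab.1 * T ab.2) ^ e) (t := O₅)
        (fun ab hab => hO _ (Finset.mem_filter.1 hab).2), Finset.mul_sum, Finset.mul_sum]
    refine Finset.sum_congr rfl fun y hy => ?_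
    rw [Finset.sum_congr rfl fun ab hab => show Θ (T ab.1 * T ab.2) = Θ y by
        obtain ⟨h1, h2⟩ := Finset.mem_filter.1 hab
        rw [← h2]; exact hsec _ (Finset.mem_filter.1 h1).2,
      Finset.sum_const, nsmul_eq_mul, ← mul_assoc]
    congr 1
    rw [Finset.filter_filter, show (Finset.univ.filter fun ab : G × G =>
        (T ab.1 * T ab.2) ^ e ≠ 1 ∧ (T ab.1 * T ab.2) ^ e = y) = pairsWith t e y from
      Finset.filter_congr fun ab _ => and_iff_right_of_imp fun h => h ▸ hO1 hy]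
    have hy' := (Finset.mem_filter.1 hy).2
    have h5 := five_mul_pairsWith he hsyl ht hy'
    rw [hAi y hy'] at h5
    exact_mod_cast h5
  have hF : ∀ g : G, ((Finset.univ.filter fun ab : G × G => T ab.1 * T ab.2 = g).card : ℂ) =
      (Nat.card G : ℂ) * ∑ χ : IrrCharacter G, χ.1 t * χ.1 t * χ.1 g⁻¹ / χ.1 1 := fun g => by
    rw [← Char.card_conj_mul_conj_eq t t g, Nat.card_eq_fintype_card, Fintype.card_subtype]
  have hS : ∑ ab : G × G, Θ (T ab.1 * T ab.2) =
      (Nat.card G : ℂ) ^ 2 * ∑ χ ∈ B, (cf χ : ℂ) * (χ.1 t * χ.1 t / χ.1 1) := by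
    rw [← Finset.sum_fiberwise Finset.univ (fun ab : G × G => T ab.1 * T ab.2) fun ab => Θ (T ab.1 * T ab.2)]
    calc ∑ g : G, ∑ ab ∈ Finset.univ.filter (fun ab : G × G => T ab.1 * T ab.2 = g), Θ (T ab.1 * T ab.2)
        = ∑ g : G, ((Finset.univ.filter fun ab : G × G => T ab.1 * T ab.2 = g).card : ℂ) * Θ g :=
          Finset.sum_congr rfl fun g _ => by
            rw [Finset.sum_congr rfl fun ab hab => by rw [(Finset.mem_filter.1 hab).2],
              Finset.sum_const, nsmul_eq_mul]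
      _ = (Nat.card G : ℂ) * ∑ χ : IrrCharacter G, χ.1 t * χ.1 t / χ.1 1 * ∑ g : G, Θ g * χ.1 g⁻¹ := by
          simp only [hF, Finset.mul_sum, Finset.sum_mul]
          rw [Finset.sum_comm]
          exact Finset.sum_congr rfl fun χ _ => Finset.sum_congr rfl fun g _ => by ring
      _ = _ := by
          simp only [horth, mul_ite, mul_zero, Finset.sum_ite_mem, Finset.univ_inter]
          rw [Finset.mul_sum, Finset.mul_sum]
          exact Finset.sum_congr rfl fun χ _ => by ring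
  have hc : ((inverters t y₀).card : ℂ) =
      5 * j * (Nat.card (Subgroup.centralizer ({t} : Set G)) : ℂ) := by exact_mod_cast hj
  rw [hS, hc] at hpairs
  have hG0 : (Nat.card G : ℂ) ≠ 0 := Nat.cast_ne_zero.2 Nat.card_pos.ne'
  apply mul_left_cancel₀ (show (5 : ℂ) * Nat.card G ≠ 0 from mul_ne_zero (by norm_num) hG0)
  linear_combination (k : ℂ) * hpairs +
    (25 * (j : ℂ) ^ 2 * (Nat.card (Subgroup.centralizer ({t} : Set G)) : ℂ) ^ 2) * hnorm

end Cfsg.Agent.FivePairs
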