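import Cfsg.Agent.Lib.OddOrder.SelfCentralizing
import Cfsg.Agent.Lib.Char.PRegular
import Cfsg.Agent.Lib.CharInt.Eigen
import Cfsg.Agent.Lib.SmallSimple.Tools

/-!
# Character values at an element of odd prime order inverted by an involution

For a perfect group an irreducible character `χ` of degree `d` has `d - χ(w)` divisible by 4 at an
involution `w`; if `w` inverts `y` of odd prime order `p` with all values `χ(y^i) = v`, then
`(d + (p-1) v ± p χ(w)) / 2p` are natural numbers.
-/

set_option autoImplicit false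
set_option linter.style.haveILetI false
set_option linter.unusedSectionVars false

namespace Cfsg.Agent.SmallSimple.InvVal

open Cfsg Cfsg.Agent Module

variable {G : Type*} [Group G] [Finite G]

/-- Degree and value at an involution are congruent modulo four in a perfect group. -/
theorem four_dvd_degree_sub (hperf : commutator G = ⊤) {w : G} (hw : w * w = 1) (χ : IrrCharacter G) :
    ∃ a : ℤ, χ.1 w = a ∧ (4 : ℤ) ∣ (Char.degree χ : ℤ) - a ∧ a.natAbs ≤ Char.degree χ := by
  classical
  obtain ⟨n, ρ, hρ, hχ⟩ := χ.2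
  obtain ⟨b, μ, -, hb⟩ := CharInt.exists_eigenbasis_rho ρ w
  have hfin : finrank ℂ (Fin n → ℂ) = n := by simp
  have hsq : ∀ i, μ i = 1 ∨ μ i = -1 := fun i => by
    have h1 : ρ w (ρ w (b i)) = b i := by
      rw [← Module.End.mul_apply, ← map_mul, hw, map_one, Module.End.one_apply]
    rw [hb i, map_smul, hb i, smul_smul] at h1
    have h3 : (μ i * μ i) • b i = (1 : ℂ) • b i := by rw [one_smul]; exact h1
    have h4 : μ i * μ i = 1 := smul_left_injective ℂ (b.ne_zero i) h3
    exact sq_eq_one_iff.mp (by rw [sq]; exact h4)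
  have hmat : LinearMap.toMatrix b b (ρ w) = Matrix.diagonal μ := by
    ext i j
    rw [LinearMap.toMatrix_apply, hb j, map_smul, Finsupp.smul_apply, b.repr_self,
      Finsupp.single_apply, Matrix.diagonal_apply, smul_eq_mul]
    by_cases hij : i = j
    · subst hij; simp
    · rw [if_neg hij, if_neg (fun h => hij h.symm), mul_zero]
  have hdet : LinearMap.det (ρ w) = 1 := by
    let f : G →* ℂˣ := ((LinearMap.det : Module.End ℂ (Fin n → ℂ) →* ℂ).comp ρ).toHomUnits
    have hker : commutator G ≤ f.ker := Abelianization.commutator_subset_ker f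
    rw [hperf] at hker
    exact congrArg Units.val (MonoidHom.mem_ker.mp (hker (Subgroup.mem_top w)))
  rw [← LinearMap.det_toMatrix b, hmat, Matrix.det_diagonal] at hdet
  set N := Finset.univ.filter fun i => μ i = -1 with hN
  have hprod : ∏ i, μ i = (-1) ^ N.card := by
    rw [← Finset.prod_filter_mul_prod_filter_not Finset.univ (fun i => μ i = -1),
      Finset.prod_congr rfl (fun i hi => (Finset.mem_filter.mp hi).2), Finset.prod_const,
      Finset.prod_eq_one (fun i hi => (hsq i).resolve_right (Finset.mem_filter.mp hi).2), mul_one]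
  have heven : Even N.card := by
    rcases Nat.even_or_odd N.card with h | h
    · exact h
    · rw [hprod, h.neg_one_pow] at hdet; norm_num at hdet
  have hsum : χ.1 w = ((n : ℤ) - 2 * N.card : ℤ) := by
    rw [← congrFun hχ w, Representation.character, CharInt.trace_of_eigenbasis b hb]
    have hstep : ∀ i, μ i = (1 : ℂ) - (if μ i = -1 then 2 else 0) := fun i => by
      rcases hsq i with h | h <;> rw [h] <;> norm_num
    rw [Finset.sum_congr rfl fun i _ => hstep i, Finset.sum_sub_distrib, ← Finset.sum_filter,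
      Finset.sum_const, Finset.sum_const, Finset.card_univ, Fintype.card_fin, nsmul_eq_mul, nsmul_eq_mul,
      mul_one, show ((finrank ℂ (Fin n → ℂ) : ℕ) : ℂ) = n from congrArg Nat.cast hfin]
    push_cast
    ring
  have hdeg : Char.degree χ = n := by
    apply Nat.cast_injective (R := ℂ)
    rw [← Char.apply_one_eq_degree, ← congrFun hχ 1, Representation.char_one, hfin]
  refine ⟨(n : ℤ) - 2 * N.card, hsum, ?_, ?_⟩
  · obtain ⟨l, hl⟩ := heven
    exact ⟨l, by rw [hdeg, hl]; push_cast; ring⟩
  · have : N.card ≤ n := by simpa using Finset.card_le_univ N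
    rw [hdeg]; omega

/-- An involution inverting `y` acts on the fixed space of `y`. -/
theorem exists_restriction {p : ℕ} [hp : Fact p.Prime] (hp2 : p ≠ 2) {y w : G} (hy : y ^ p = 1) (hw : w * w = 1)
    (hinv : w * y * w⁻¹ = y⁻¹) (χ : IrrCharacter G) {v a : ℂ} (hv : ∀ i : ℕ, ¬ p ∣ i → χ.1 (y ^ i) = v)
    (ha : χ.1 w = a) {s : ℂ} (hs : s = 1 ∨ s = -1) :
    ∃ M : ℕ, χ.1 1 + ((p : ℂ) - 1) * v + s * (p * a) = 2 * p * M := by
  classical
  have hodd : p % 2 = 1 := (hp.out.eq_two_or_odd).resolve_left hp2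
  have hpp : 0 < p := hp.out.pos
  have hconj : ∀ l : ℕ, w * y ^ l = (y ^ l)⁻¹ * w := fun l => by
    have h : w * y ^ l * w⁻¹ = (y ^ l)⁻¹ := by rw [← conj_pow, hinv, inv_pow]
    rw [← h, inv_mul_cancel_right]
  have hvals : ∀ i : ℕ, χ.1 (w * y ^ i) = a := fun i => by
    set j := i * ((p - 1) / 2) with hj
    have h2 : y ^ (2 * j + i) = 1 := by
      rw [show 2 * j + i = p * i by
        have : 2 * ((p - 1) / 2) + 1 = p := by omega
        calc 2 * j + i = i * (2 * ((p - 1) / 2) + 1) := by rw [hj]; ring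
          _ = p * i := by rw [this, mul_comm]]
      rw [pow_mul, hy, one_pow]
    have h : w * y ^ i = y ^ j * w * (y ^ j)⁻¹ := by
      have h3 : y ^ i = (y ^ (2 * j))⁻¹ := eq_inv_of_mul_eq_one_right (by rw [← pow_add]; exact h2)
      rw [hconj i, h3, inv_inv, two_mul, pow_add]
      have : w * (y ^ j)⁻¹ = y ^ j * w := by
        have := hconj j
        calc w * (y ^ j)⁻¹ = w * ((y ^ j)⁻¹ * w) * w⁻¹ := by group
          _ = w * (w * y ^ j) * w⁻¹ := by rw [this]
          _ = (w * w) * y ^ j * w⁻¹ := by group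
          _ = y ^ j * w := by rw [hw, one_mul, inv_eq_of_mul_eq_one_right hw]
      rw [mul_assoc (y ^ j) w, this, ← mul_assoc]
    rw [h, ← ha]
    exact Char.IsCharacter.isClassFunction (Char.irr_isCharacter χ) w (y ^ j)
  obtain ⟨n, ρ, hρ, hχ⟩ := χ.2
  set S : Module.End ℂ (Fin n → ℂ) := ∑ i ∈ Finset.range p, ρ (y ^ i) with hS
  have hshift : ∀ l : ℕ, ρ (y ^ l) * S = S := by
    have h1 : ρ y * S = S := by
      obtain ⟨q, hq⟩ : ∃ q, p = q + 1 := ⟨p - 1, by omega⟩
      rw [hS, Finset.mul_sum]
      simp only [← map_mul, ← pow_succ']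
      rw [hq, Finset.sum_range_succ, Finset.sum_range_succ', pow_zero, ← hq, hy]
    intro l
    induction l with
    | zero => simp
    | succ l ih => rw [pow_succ, map_mul, mul_assoc, h1, ih]
  have hSS : S * S = (p : ℂ) • S := by
    nth_rewrite 1 [hS]
    rw [Finset.sum_mul, Finset.sum_congr rfl fun l _ => hshift l, Finset.sum_const, Finset.card_range]
    norm_cast
  have hySr : ∀ l : ℕ, S * ρ (y ^ l) = S := fun l => by
    rw [hS, Finset.sum_mul]
    conv_rhs => rw [← hS, ← hshift l, hS, Finset.mul_sum]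
    exact Finset.sum_congr rfl fun i _ => by rw [← map_mul, ← map_mul, ← pow_add, ← pow_add, add_comm]
  have hwS : ρ w * S = S * ρ w := by
    -- `(y^i)⁻¹` runs over the same powers
    have h1 : ∀ i ∈ Finset.range p, ρ w * ρ (y ^ i) = ρ (y ^ ((p - i) % p)) * ρ w := fun i hi => by
      rw [← map_mul, ← map_mul, hconj]
      congr 2
      have hy' : y ^ ((p - i) % p) = y ^ (p - i) := (pow_eq_pow_mod _ hy).symm
      rw [hy']
      exact inv_eq_of_mul_eq_one_right (by rw [← pow_add, Nat.add_sub_cancel' (Finset.mem_range.1 hi).le, hy])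
    rw [hS, Finset.mul_sum, Finset.sum_mul, Finset.sum_congr rfl h1]
    refine Finset.sum_nbij' (fun i => (p - i) % p) (fun i => (p - i) % p)
      (fun i _ => Finset.mem_range.2 (Nat.mod_lt _ hpp)) (fun i _ => Finset.mem_range.2 (Nat.mod_lt _ hpp))
      ?_ ?_ (fun i _ => rfl) <;>
    · intro i hi
      have hi' := Finset.mem_range.1 hi
      rcases Nat.eq_zero_or_pos i with h0 | h0
      · simp [h0]
      · rw [Nat.mod_eq_of_lt (show p - i < p by omega), Nat.mod_eq_of_lt (show p - (p - i) < p by omega)]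
        omega
  have hwwS : ρ w * (ρ w * S) = S := by rw [← mul_assoc, ← map_mul, hw, map_one, one_mul]
  set E : Module.End ℂ (Fin n → ℂ) := (2 * (p : ℂ))⁻¹ • (S + s • (ρ w * S)) with hE
  have hs2 : s * s = 1 := by rcases hs with h | h <;> rw [h] <;> norm_num
  have hp0 : (p : ℂ) ≠ 0 := Nat.cast_ne_zero.2 hp.out.ne_zero
  have hidem : IsIdempotentElem E := by
    show E * E = E
    have h1 : (S + s • (ρ w * S)) * (S + s • (ρ w * S)) = (2 * (p : ℂ)) • (S + s • (ρ w * S)) := by
      have e1 : S * (ρ w * S) = (p : ℂ) • (ρ w * S) := by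
        rw [← mul_assoc, ← hwS, mul_assoc, hSS, mul_smul_comm]
      have e2 : (ρ w * S) * S = (p : ℂ) • (ρ w * S) := by rw [mul_assoc, hSS, mul_smul_comm]
      have e3 : (ρ w * S) * (ρ w * S) = (p : ℂ) • S := by
        rw [mul_assoc, e1, mul_smul_comm, hwwS]
      rw [add_mul, mul_add, mul_add, hSS, mul_smul_comm, e1, smul_mul_assoc, e2, smul_mul_assoc,
        mul_smul_comm, e3, smul_smul s s, hs2, one_smul]
      module
    rw [hE, smul_mul_smul_comm, h1, smul_smul]
    congr 1
    field_simp
  have htr := LinearMap.IsProj.trace (R := ℂ) (LinearMap.isProj_range_iff_isIdempotentElem E |>.2 hidem)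
  generalize Module.finrank ℂ (LinearMap.range E) = M at htr
  refine ⟨M, ?_⟩
  have htrρ : ∀ g : G, LinearMap.trace ℂ _ (ρ g) = χ.1 g := fun g => congrFun hχ g
  rw [hE, map_smul, map_add, map_smul, hS, Finset.mul_sum, map_sum, map_sum] at htr
  simp only [← map_mul, htrρ, smul_eq_mul] at htr
  rw [Finset.sum_congr rfl (s₁ := Finset.range p) (f := fun i => χ.1 (w * y ^ i)) fun i _ => hvals i,
    Finset.sum_const, Finset.card_range, nsmul_eq_mul,
    ← Finset.add_sum_erase _ _ (Finset.mem_range.2 hpp), pow_zero,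
    Finset.sum_congr rfl (fun i hi => hv i (fun hd => (Finset.ne_of_mem_erase hi)
      (Nat.eq_zero_of_dvd_of_lt hd (Finset.mem_range.1 (Finset.mem_of_mem_erase hi))))),
    Finset.sum_const, Finset.card_erase_of_mem (Finset.mem_range.2 hpp), Finset.card_range, nsmul_eq_mul,
    Nat.cast_sub hp.out.one_le, Nat.cast_one] at htr
  field_simp at htr
  linear_combination htr

end Cfsg.Agent.SmallSimple.InvVal
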