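import Cfsg.Agent.Lib.SmallSimple.No1980

/-!
# The simple-group part: `|G| = 495 * 2^j`, `j = 2, 3`, with 45 Sylow 11-subgroups is impossible
-/

set_option autoImplicit false

namespace Cfsg.Agent.M11Order

open Subgroup MulAction
open scoped Pointwise

variable {G : Type*} [Group G] [Finite G]

/-- The elements whose order is divisible by `r`, counted from centralising 2-elements. -/
theorem card_le_of_decode {α : Type*} [Finite α] (f : α → G) (hf : Function.Injective f) (S : Set G)
    (h : ∀ a, f a ∈ S) : Nat.card α ≤ Nat.card S :=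
  Nat.card_le_card_of_injective (fun a => (⟨f a, h a⟩ : S)) fun a b hab => hf (congrArg Subtype.val hab)

theorem orderOf_dvd_of_mul {x z : G} {r : ℕ} [hr : Fact r.Prime] (hx : orderOf x = r) (hc : Commute x z)
    (hz : z ^ 8 = 1) (h2 : r ≠ 2) : r ∣ orderOf (x * z) := by
  have hco : (orderOf x).Coprime (orderOf z) := by
    rw [hx]
    refine Nat.Coprime.coprime_dvd_right (orderOf_dvd_of_pow_eq_one hz) ?_
    exact Nat.Coprime.pow_right 3 ((Nat.coprime_primes hr.out Nat.prime_two).2 h2)
  rw [Commute.orderOf_mul_eq_mul_orderOf_of_coprime hc hco, hx]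
  exact dvd_mul_right r _

theorem pow_twelve_mul {x z : G} (hx : orderOf x = 11) (hc : Commute x z) (hz : z ^ 4 = 1) :
    (x * z) ^ 12 = x := by
  rw [hc.mul_pow, show z ^ 12 = 1 by rw [show 12 = 4 * 3 from rfl, pow_mul, hz, one_pow], mul_one,
    ← pow_mod_orderOf, hx, show 12 % 11 = 1 from rfl, pow_one]

section Simple

variable [IsSimpleGroup G] {j : ℕ}

variable (hG : Nat.card G = 11 * (45 * 2 ^ j)) (hj : j = 2 ∨ j = 3) (h45 : Nat.card (Sylow 11 G) = 45)

include hG hj h45

theorem card_nz_eleven {x : G} (hx : orderOf x = 11) : Nat.card (nz x) = 11 * 2 ^ j := by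
  have : Fact (Nat.Prime 11) := ⟨by norm_num⟩
  have h := card_sylow_mul_nz hx hG (by rcases hj with rfl | rfl <;> norm_num)
  rw [h45, hG] at h
  omega

theorem card_cz_eleven {x : G} (hx : orderOf x = 11) : Nat.card (cz x) = 11 * 2 ^ (j - 1) := by
  have h11 : Fact (Nat.Prime 11) := ⟨by norm_num⟩
  have hN := card_nz_eleven hG hj h45 hx
  have h1 := card_nz_dvd hx
  have h2 : Nat.card (cz x) ∣ Nat.card (nz x) := Subgroup.card_dvd_of_le (cz_le_nz x)
  have h3 : ¬ Nat.card (nz x) ≤ Nat.card (cz x) := fun h =>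
    false_of_nz_le_cz hx hG (by rcases hj with rfl | rfl <;> norm_num) (by rcases hj with rfl | rfl <;> norm_num) h
  have h4 : 11 ∣ Nat.card (cz x) := dvd_card_cz hx rfl
  rw [hN] at h1 h2 h3
  revert h1 h2 h3 h4
  generalize Nat.card (cz x) = c
  intro h1 h2 h3 h4
  have hlt : c ≤ 88 := (Nat.le_of_dvd (by positivity) h2).trans (by rcases hj with rfl | rfl <;> norm_num)
  rcases hj with rfl | rfl <;> norm_num at * <;> interval_cases c <;> omega

theorem five_data {y : G} (hy : orderOf y = 5) :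
    j = 3 ∧ Nat.card (cz y) = 5 ∧ Nat.card (Sylow 5 G) = 396 := by
  have : Fact (Nat.Prime 5) := ⟨Nat.prime_five⟩
  have h11 : Fact (Nat.Prime 11) := ⟨by norm_num⟩
  have h3 : Fact (Nat.Prime 3) := ⟨Nat.prime_three⟩
  have hG5 : Nat.card G = 5 * (99 * 2 ^ j) := by rw [hG]; ring
  have hm5 : ¬ 5 ∣ 99 * 2 ^ j := by rcases hj with rfl | rfl <;> norm_num
  have hn : Nat.card (Sylow 5 G) ∈ ({1, 6, 11, 36, 66, 396} : Finset ℕ) :=
    sylow_count_mem hG5 hm5 (by rcases hj with rfl | rfl <;> decide)
  have hmul := card_sylow_mul_nz hy hG5 hm5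
  have hidx : (nz y).index = Nat.card (Sylow 5 G) := by
    have := (nz y).card_mul_index
    rw [← hmul, mul_comm (Nat.card (Sylow 5 G))] at this
    exact Nat.eq_of_mul_eq_mul_left Nat.card_pos this
  obtain ⟨x, hx⟩ := exists_prime_elt (G := G) 11 (hG ▸ dvd_mul_right 11 _)
  have hC := card_cz_eleven hG hj h45 hx
  -- the 2-group centralising `x`
  have : Fact (Nat.Prime 2) := ⟨Nat.prime_two⟩
  obtain ⟨T₀⟩ : Nonempty (Sylow 2 (cz x)) := inferInstance
  have hT₀ : Nat.card (T₀ : Subgroup (cz x)) = 2 ^ (j - 1) :=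
    SmallSimple.card_sylow_eq_pow T₀ (j - 1) 11 (by rw [hC, mul_comm]) (by norm_num)
  let T : Subgroup G := (T₀ : Subgroup (cz x)).map (cz x).subtype
  have hT : Nat.card T = 2 ^ (j - 1) := by
    rw [← hT₀]; exact (Nat.card_congr ((T₀ : Subgroup (cz x)).equivMapOfInjective _ (cz x).subtype_injective).toEquiv).symm
  have hTc : ∀ t ∈ T, t * x = x * t := fun t ht => mem_cz.1 (Subgroup.map_subtype_le _ ht)
  have hindex : ∀ H : Subgroup G, ¬ 11 ∣ Nat.card H → H.index = 11 ∨ (j = 3 ∧ H.index = 22) → False := by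
    intro H hH11 hHi
    refine false_of_small_index hx H (by omega) ?_ hH11 T hTc ?_ ?_
    · rintro rfl
      rw [index_top] at hHi
      omega
    · rw [hT]; rcases hj with rfl | rfl <;> norm_num
    · rw [hT]; rcases hj with rfl | rfl <;> rcases hHi with h | ⟨h, h'⟩ <;> omega
  rw [Finset.mem_insert, Finset.mem_insert, Finset.mem_insert, Finset.mem_insert, Finset.mem_insert,
    Finset.mem_singleton] at hn
  rcases hn with e | e | e | e | e | e <;> rw [e, hG] at hmul
  · -- normal Sylow
    have htop : nz y = ⊤ := index_eq_one.1 (hidx.trans e)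
    rcases (normalizer_eq_top_iff.1 htop).eq_bot_or_eq_top with h | h
    · have := card_zpowers_prime (G := G) hy
      rw [h, card_bot] at this; omega
    · have := card_zpowers_prime (G := G) hy
      rw [h, card_top, hG] at this
      rcases hj with rfl | rfl <;> omega
  · have hne : nz y ≠ ⊤ := fun h => by rw [h, index_top] at hidx; omega
    have := SmallSimple.card_dvd_factorial hne
    rw [hidx, e, hG] at this
    exact absurd ((dvd_mul_right 11 _).trans this) (by decide)
  · refine (hindex _ (fun h => ?_) (Or.inl (hidx.trans e))).elim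
    rcases hj with rfl | rfl <;> omega
  · -- normaliser contains an element of order 11
    exfalso
    have h11N : 11 ∣ Nat.card (nz y) := by rcases hj with rfl | rfl <;> omega
    obtain ⟨⟨g, hg⟩, hog⟩ := exists_prime_orderOf_dvd_card' 11 h11N
    rw [Subgroup.orderOf_mk] at hog
    have hgy : g * y = y * g := commute_of_normalizes (zpowers y) (s := 11) hg (by rw [← hog, pow_orderOf_eq_one])
      (fun c hc hmod => by
        rw [card_zpowers_prime hy] at hc hmod ⊢
        rcases (Nat.dvd_prime Nat.prime_five).1 hc with rfl | rfl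
        · exact absurd hmod (by decide)
        · rfl) (mem_zpowers y)
    have := dvd_card_cz (x := g) hy hgy.symm
    rw [card_cz_eleven hG hj h45 hog] at this
    rcases hj with rfl | rfl <;> norm_num at this
  · -- 66
    exfalso
    have h3N : 3 ∣ Nat.card (nz y) := by rcases hj with rfl | rfl <;> omega
    obtain ⟨⟨d, hdN⟩, hod⟩ := exists_prime_orderOf_dvd_card' 3 h3N
    rw [Subgroup.orderOf_mk] at hod
    have hdy : d * y = y * d := commute_of_normalizes (zpowers y) (s := 3) hdN (by rw [← hod, pow_orderOf_eq_one])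
      (fun c hc hmod => by
        rw [card_zpowers_prime hy] at hc hmod ⊢
        rcases (Nat.dvd_prime Nat.prime_five).1 hc with rfl | rfl
        · exact absurd hmod (by decide)
        · rfl) (mem_zpowers y)
    have h5C : 5 ∣ Nat.card (cz d) := dvd_card_cz hy hdy.symm
    have h11C : ¬ 11 ∣ Nat.card (cz d) := fun h => by
      obtain ⟨g, hog, hgd⟩ := exists_prime_elt_commute (x := d) h
      have := dvd_card_cz (x := g) hod hgd.symm
      rw [card_cz_eleven hG hj h45 hog] at this
      rcases hj with rfl | rfl <;> norm_num at this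
    have h9C : 9 ∣ Nat.card (cz d) := by
      have hp3 : IsPGroup 3 (zpowers d) :=
        IsPGroup.of_card (n := 1) (by rw [card_zpowers_prime hod, pow_one])
      obtain ⟨Q, hQ⟩ := hp3.exists_le_sylow
      have hQc : Nat.card (Q : Subgroup G) = 3 ^ 2 :=
        SmallSimple.card_sylow_eq_pow Q 2 (55 * 2 ^ j) (by rw [hG]; ring)
          (by rcases hj with rfl | rfl <;> norm_num)
      have hab := IsPGroup.isMulCommutative_of_card_eq_prime_sq hQc
      have hle : (Q : Subgroup G) ≤ cz d := fun q hq => mem_cz.2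
        (congrArg Subtype.val (mul_comm' (⟨q, hq⟩ : (Q : Subgroup G)) ⟨d, hQ (mem_zpowers d)⟩))
      have := Subgroup.card_dvd_of_le hle
      rwa [hQc] at this
    have hdvd : Nat.card (cz d) ∣ 45 * 2 ^ j := by
      have h := card_subgroup_dvd_card (cz d)
      rw [hG] at h
      exact (Nat.Coprime.dvd_mul_left ((Nat.Prime.coprime_iff_not_dvd h11.out).2 h11C).symm).1 h
    obtain ⟨m, hm⟩ : 45 ∣ Nat.card (cz d) := Nat.Coprime.mul_dvd_of_dvd_of_dvd (by norm_num) h5C h9C
    have hm2 : m ∣ 2 ^ j := by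
      rw [hm] at hdvd
      exact (Nat.mul_dvd_mul_iff_left (by norm_num : 0 < 45)).1 hdvd
    have hcd : Nat.card (cz d) = 5 * (9 * m) := by rw [hm]; ring
    have hm5' : ¬ 5 ∣ 9 * m := fun h => by
      have := h.trans (Nat.mul_dvd_mul_left 9 hm2)
      rcases hj with rfl | rfl <;> norm_num at this
    have hyC : y ∈ cz d := mem_cz.2 hdy.symm
    have hsc := card_sylow_sub (cz d) hy hyC hcd hm5'
    have hNd : Nat.card (nz y ⊓ cz d : Subgroup G) ∣ Nat.card (nz y) := Subgroup.card_dvd_of_le inf_le_left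
    have h15 : 15 ∣ Nat.card (nz y ⊓ cz d : Subgroup G) :=
      Nat.Coprime.mul_dvd_of_dvd_of_dvd (by norm_num : Nat.Coprime 3 5)
        (hod ▸ (Subgroup.orderOf_mk d _ ▸
          orderOf_dvd_natCard (⟨d, ⟨hdN, self_mem_cz d⟩⟩ : (nz y ⊓ cz d : Subgroup G))))
        (hy ▸ (Subgroup.orderOf_mk y _ ▸ orderOf_dvd_natCard
          (⟨y, ⟨cz_le_nz y (self_mem_cz y), hyC⟩⟩ : (nz y ⊓ cz d : Subgroup G))))
    have hnmem : Nat.card (Sylow 5 (cz d)) ∈ ({1, 6, 36} : Finset ℕ) :=
      sylow_count_mem hcd hm5' (by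
        obtain ⟨i, hi, rfl⟩ := (Nat.dvd_prime_pow Nat.prime_two).1 hm2
        have : i ≤ 3 := hi.trans (by omega)
        interval_cases i <;> decide)
    have hidxd := (cz d).card_mul_index
    rw [hG] at hidxd
    obtain ⟨i, hi, rfl⟩ := (Nat.dvd_prime_pow Nat.prime_two).1 hm2
    obtain ⟨k, hk⟩ := h15
    rw [hk] at hsc hNd
    rw [hm] at hsc hidxd
    rw [Finset.mem_insert, Finset.mem_insert, Finset.mem_singleton] at hnmem
    rcases hnmem with e' | e' | e' <;> rw [e'] at hsc
    · have hk' : k = 3 * 2 ^ i := by omega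
      rw [hk', show 15 * (3 * 2 ^ i) = 45 * 2 ^ i by ring] at hNd
      have := (dvd_mul_right 9 _).trans ((show 9 * (5 * 2 ^ i) = 45 * 2 ^ i by ring) ▸ hNd)
      rcases hj with rfl | rfl <;> omega
    · have hi3 : i ≤ 3 := hi.trans (by omega)
      by_cases hi1 : i = 1
      · subst hi1
        refine false_of_card_ninety (cz d) (by rw [hm]; norm_num) hy hyC ?_
        rw [hk]; omega
      · refine hindex (cz d) h11C ?_
        rcases hj with rfl | rfl <;> interval_cases i <;> omega
    · have hi3 : i ≤ 3 := hi.trans (by omega)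
      interval_cases i <;> omega
  · -- 396
    rcases hj with rfl | rfl
    · exfalso
      refine false_of_nz_le_cz hy hG5 hm5 (by norm_num) ?_
      exact Nat.le_of_dvd Nat.card_pos ((show Nat.card (nz y) = 5 by omega) ▸ dvd_card_cz hy rfl)
    · refine ⟨rfl, ?_, e⟩
      have hN : Nat.card (nz y) = 10 := by omega
      have hle : Nat.card (cz y) ∣ Nat.card (nz y) := Subgroup.card_dvd_of_le (cz_le_nz y)
      rw [hN] at hle
      have h5 : 5 ∣ Nat.card (cz y) := dvd_card_cz hy rfl
      have hlt : ¬ Nat.card (nz y) ≤ Nat.card (cz y) := fun h => false_of_nz_le_cz hy hG5 hm5 (by norm_num) h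
      rw [hN] at hlt
      obtain ⟨k, hk⟩ := h5
      rw [hk] at hle hlt ⊢
      have hk2 : k ≤ 2 := Nat.le_of_dvd (by norm_num)
        ((Nat.mul_dvd_mul_iff_left (by norm_num : 0 < 5)).1 (show 5 * k ∣ 5 * 2 from hle))
      interval_cases k <;> omega

omit hj in
theorem false_of_card_3960 (hj3 : j = 3) : False := by
  subst hj3
  classical
  have hj : (3 : ℕ) = 2 ∨ (3 : ℕ) = 3 := Or.inr rfl
  have h2 : Fact (Nat.Prime 2) := ⟨Nat.prime_two⟩
  have h3 : Fact (Nat.Prime 3) := ⟨Nat.prime_three⟩
  have h5 : Fact (Nat.Prime 5) := ⟨Nat.prime_five⟩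
  have h11 : Fact (Nat.Prime 11) := ⟨by norm_num⟩
  have hnz : ∀ {x : G}, orderOf x = 11 → Nat.card (nz x) = 88 := fun hx => card_nz_eleven hG hj h45 hx
  have hcz : ∀ {x : G}, orderOf x = 11 → Nat.card (cz x) = 44 := fun hx => card_cz_eleven hG hj h45 hx
  -- an element of order 11 in `N(⟨x⟩)` generates `⟨x⟩`
  have huniq : ∀ {x g : G}, orderOf x = 11 → orderOf g = 11 → g ∈ nz x → g ∈ zpowers x := by
    intro x g hx hg hgN
    have hgx : g * x = x * g := commute_of_normalizes (zpowers x) (s := 11) hgN (by rw [← hg, pow_orderOf_eq_one])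
      (fun c hc hmod => by
        rw [card_zpowers_prime hx] at hc hmod ⊢
        rcases (Nat.dvd_prime h11.out).1 hc with rfl | rfl
        · exact absurd hmod (by decide)
        · rfl) (mem_zpowers x)
    have hcard : Nat.card (cz x) = 11 * 4 := hcz hx
    have h := card_sylow_sub (cz x) hx (self_mem_cz x) hcard (by norm_num)
    have hn : Nat.card (Sylow 11 (cz x)) = 1 :=
      Finset.mem_singleton.1 (sylow_count_mem hcard (by norm_num) (by decide))
    have : Subsingleton (Sylow 11 (cz x)) := (Nat.card_eq_one_iff_unique.1 hn).1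
    let mkS : ∀ u : G, orderOf u = 11 → u ∈ cz x → Sylow 11 (cz x) := fun u hu huC =>
      Sylow.ofCard ((zpowers u).subgroupOf (cz x)) (by
        rw [Nat.card_congr (subgroupOfEquivOfLe (zpowers_le.2 huC)).toEquiv, card_zpowers_prime hu,
          SmallSimple.factorization_mul_eq h11.out (show Nat.card (cz x) = 11 ^ 1 * 4 by rw [hcard]; rfl)
            (by norm_num), pow_one])
    have he : mkS g hg (mem_cz.2 hgx) = mkS x hx (self_mem_cz x) := Subsingleton.elim _ _
    have hmem : (⟨g, mem_cz.2 hgx⟩ : cz x) ∈ (mkS g hg (mem_cz.2 hgx) : Subgroup (cz x)) := mem_zpowers g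
    rw [he] at hmem
    exact hmem
  -- centralisers of 2-elements commuting with elements of order 11
  have hkey : ∀ {x z : G}, orderOf x = 11 → z * x = x * z → z ≠ 1 → z ^ 8 = 1 → cz z ≤ nz x := by
    intro x z hx hzx hz1 hz8
    let C := cz x
    obtain ⟨T, hT⟩ := (IsPGroup.of_card (p := 2) (n := 0) (G := (⊥ : Subgroup C)) (by simp)).exists_le_sylow
    have hzp : IsPGroup 2 (zpowers (⟨z, mem_cz.2 hzx⟩ : C)) := by
      obtain ⟨e, -, he⟩ := (Nat.dvd_prime_pow Nat.prime_two).1
        (orderOf_dvd_of_pow_eq_one (Subtype.ext (by simpa using hz8) : (⟨z, mem_cz.2 hzx⟩ : C) ^ 2 ^ 3 = 1))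
      exact IsPGroup.of_card (n := e) (by rw [Nat.card_zpowers, he])
    obtain ⟨S, hS⟩ := hzp.exists_le_sylow
    have hSc : Nat.card (S : Subgroup C) = 2 ^ 2 :=
      SmallSimple.card_sylow_eq_pow S 2 11 (by rw [show Nat.card C = 44 from hcz hx]; rfl) (by norm_num)
    have hab := IsPGroup.isMulCommutative_of_card_eq_prime_sq hSc
    have h4 : 4 ∣ Nat.card (nz x ⊓ cz z : Subgroup G) := by
      let S' : Subgroup G := (S : Subgroup C).map C.subtype
      have hle : S' ≤ nz x ⊓ cz z := by
        rintro _ ⟨s, hs, rfl⟩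
        refine ⟨cz_le_nz x s.2, mem_cz.2 ?_⟩
        exact congrArg (fun u : (S : Subgroup C) => ((u : C) : G))
          (mul_comm' (⟨s, hs⟩ : (S : Subgroup C)) ⟨_, hS (mem_zpowers _)⟩)
      have := Subgroup.card_dvd_of_le hle
      rwa [show Nat.card S' = 4 from
        (Nat.card_congr ((S : Subgroup C).equivMapOfInjective _ C.subtype_injective).toEquiv).symm.trans hSc] at this
    have h11z : 11 ∣ Nat.card (cz z) := dvd_card_cz hx hzx.symm
    have hne : cz z ≠ ⊤ := by
      intro htop
      have hzc : z ∈ center G := mem_center_iff.2 fun g => mem_cz.1 (htop.ge (mem_top g))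
      rcases (show (center G).Normal from inferInstance).eq_bot_or_eq_top with h | h
      · exact hz1 (mem_bot.1 (h ▸ hzc))
      · have hN := hnz hx
        have hCx := hcz hx
        rw [show cz x = ⊤ from eq_top_iff.2 fun g _ => mem_cz.2
          (mem_center_iff.1 (h.ge (mem_top x)) g), card_top, hG] at hCx
        norm_num at hCx
    obtain ⟨m, hm⟩ := h11z
    have hm11 : ¬ 11 ∣ m := fun h => by
      have := (Nat.mul_dvd_mul_left 11 h).trans (hm ▸ card_subgroup_dvd_card (cz z))
      rw [hG] at this; norm_num at this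
    have h := card_sylow_sub (cz z) hx (mem_cz.2 hzx.symm) hm hm11
    have hmG : m ∣ 360 := by
      have := card_subgroup_dvd_card (cz z)
      rw [hm, hG] at this
      exact (Nat.mul_dvd_mul_iff_left (by norm_num : 0 < 11)).1 (by simpa using this)
    have hn : Nat.card (Sylow 11 (cz z)) ∈ ({1, 12, 45} : Finset ℕ) :=
      sylow_count_mem hm hm11 ((Finset.filter_subset_filter _ (Nat.divisors_subset_of_dvd (by norm_num) hmG)).trans
        (by decide))
    rw [Finset.mem_insert, Finset.mem_insert, Finset.mem_singleton] at hn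
    have hMd : Nat.card (nz x ⊓ cz z : Subgroup G) ∣ 88 := hnz hx ▸ Subgroup.card_dvd_of_le inf_le_left
    have h44 : 44 ∣ Nat.card (nz x ⊓ cz z : Subgroup G) :=
      Nat.Coprime.mul_dvd_of_dvd_of_dvd (by norm_num : Nat.Coprime 4 11) h4
        (hx ▸ (Subgroup.orderOf_mk x _ ▸ orderOf_dvd_natCard
          (⟨x, ⟨cz_le_nz x (self_mem_cz x), mem_cz.2 hzx.symm⟩⟩ : (nz x ⊓ cz z : Subgroup G))))
    have hidx := (cz z).card_mul_index
    have hd := card_subgroup_dvd_card (cz z)
    rw [hG] at hidx hd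
    rcases hn with e | e | e <;> rw [e] at h
    · rw [one_mul] at h
      exact (eq_of_le_of_card_ge inf_le_right h.ge).ge.trans inf_le_left
    · exfalso
      rw [← h] at hd
      have := (Nat.mul_dvd_mul_left 12 h44).trans hd
      norm_num at this
    · exfalso
      have h1 : 45 * 44 ≤ Nat.card (cz z) := h ▸ Nat.mul_le_mul_left 45 (Nat.le_of_dvd Nat.card_pos h44)
      have h2 : (cz z).index ≤ 2 := by nlinarith
      have := SmallSimple.card_dvd_factorial hne
      have h' := Nat.le_of_dvd (Nat.factorial_pos _) this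
      rw [hG] at h'
      have : (cz z).index.factorial ≤ 2 := Nat.factorial_le h2
      omega
  -- counting
  let A11 : Set G := {g | 11 ∣ orderOf g}
  let A5 : Set G := {g | 5 ∣ orderOf g}
  let A3 : Set G := {g | 3 ∣ orderOf g}
  let U : Set G := {g | g ≠ 1 ∧ g ^ 8 = 1}
  have hS : ∀ x : G, orderOf x = 11 → ∃ f : Fin 4 → G, Function.Injective f ∧
      ∀ a, f a * x = x * f a ∧ f a ^ 4 = 1 := by
    intro x hx
    obtain ⟨S⟩ : Nonempty (Sylow 2 (cz x)) := inferInstance
    have hSc : Nat.card (S : Subgroup (cz x)) = 4 :=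
      SmallSimple.card_sylow_eq_pow S 2 11 (by rw [hcz hx]; rfl) (by norm_num)
    let e : (S : Subgroup (cz x)) ≃ Fin 4 := Finite.equivFinOfCardEq hSc
    refine ⟨fun a => ((e.symm a : cz x) : G), fun a b h => e.symm.injective (Subtype.ext (Subtype.ext h)),
      fun a => ⟨mem_cz.1 (e.symm a).1.2, ?_⟩⟩
    have := congrArg (fun u : (S : Subgroup (cz x)) => ((u : cz x) : G)) (pow_card_eq_one' (x := e.symm a))
    rw [hSc] at this
    simpa using this
  have c11 : 1800 ≤ Nat.card A11 := by
    choose f hf hf' using hS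
    have h450 := card_orderOf_eq_ge (G := G) (r := 11) hG (by norm_num)
    rw [h45] at h450
    refine le_trans ?_ (card_le_of_decode (α := {x : G // orderOf x = 11} × Fin 4)
      (fun a => a.1.1 * f a.1.1 a.1.2 a.2) ?_ A11 fun a => ?_)
    · rw [Nat.card_prod, Nat.card_fin]; omega
    · rintro ⟨⟨x, hx⟩, a⟩ ⟨⟨y, hy⟩, b⟩ h
      dsimp only at h
      have hxy : x = y := by
        rw [← pow_twelve_mul hx (hf' x hx a).1.symm (hf' x hx a).2, h,
          pow_twelve_mul hy (hf' y hy b).1.symm (hf' y hy b).2]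
      subst hxy
      rw [hf x hx (mul_left_cancel h)]
    · exact orderOf_dvd_of_mul a.1.2 (hf' _ a.1.2 a.2).1.symm
        (by rw [show 8 = 4 * 2 from rfl, pow_mul, (hf' _ a.1.2 a.2).2, one_pow]) (by norm_num)
  have hG5 : Nat.card G = 5 * 792 := by rw [hG]; norm_num
  obtain ⟨y₀, hy₀⟩ := exists_prime_elt (G := G) 5 (hG5 ▸ dvd_mul_right 5 _)
  have c5 : 1584 ≤ Nat.card A5 := by
    have h := card_orderOf_eq_ge (G := G) (r := 5) hG5 (by norm_num)
    rw [(five_data hG hj h45 hy₀).2.2] at h
    exact h.trans (card_le_of_decode Subtype.val Subtype.val_injective A5 fun a => (dvd_of_eq a.2.symm))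
  -- an element of order 3
  obtain ⟨d, hd⟩ := exists_prime_elt (G := G) 3 (hG ▸ (by norm_num : 3 ∣ 11 * (45 * 2 ^ 3)))
  have hcd5 : ¬ 5 ∣ Nat.card (cz d) := fun h => by
    obtain ⟨y, hy, hyd⟩ := exists_prime_elt_commute h
    have := dvd_card_cz (x := y) hd hyd.symm
    rw [(five_data hG hj h45 hy).2.1] at this
    norm_num at this
  have hcd11 : ¬ 11 ∣ Nat.card (cz d) := fun h => by
    obtain ⟨x, hx, hxd⟩ := exists_prime_elt_commute h
    have := dvd_card_cz (x := x) hd hxd.symm
    rw [hcz hx] at this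
    norm_num at this
  have c3 : 440 ≤ Nat.card A3 := by
    have : Nonempty (orbit (ConjAct G) d) := ⟨⟨d, mem_orbit_self d⟩⟩
    have hdG := card_subgroup_dvd_card (cz d)
    rw [hG] at hdG
    have h72 : Nat.card (cz d) ∣ 72 := by
      have h1 := (Nat.Coprime.dvd_mul_left ((Nat.Prime.coprime_iff_not_dvd h11.out).2 hcd11).symm).1 hdG
      have h2 : Nat.card (cz d) ∣ 5 * 72 := by simpa using h1
      exact (Nat.Coprime.dvd_mul_left ((Nat.Prime.coprime_iff_not_dvd h5.out).2 hcd5).symm).1 h2
    obtain ⟨a, b, hab⟩ : ∃ a b, Nat.card (cz d) = 2 ^ a * b ∧ ¬ 2 ∣ b :=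
      ⟨_, _, (Nat.ordProj_mul_ordCompl_eq_self _ 2).symm, Nat.not_dvd_ordCompl Nat.prime_two Nat.card_pos.ne'⟩
    have hb9 : b ≤ 9 := Nat.le_of_dvd (by norm_num) ((Nat.Coprime.dvd_mul_left
      (((Nat.Prime.coprime_iff_not_dvd Nat.prime_two).2 hab.2).pow_left 3).symm).1
      ((dvd_mul_left b (2 ^ a)).trans (hab.1 ▸ h72) : b ∣ 2 ^ 3 * 9))
    have ha3 : a ≤ 3 := by
      by_contra hh
      have := (pow_dvd_pow 2 (show 4 ≤ a by omega)).trans ((dvd_mul_right (2 ^ a) b).trans (hab.1 ▸ h72))
      norm_num at this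
    have hS3 : ∀ e : orbit (ConjAct G) d, ∃ f : Fin (2 ^ a) → G, Function.Injective f ∧
        ∀ i, orderOf (e : G) = 3 ∧ f i * e = e * f i ∧ f i ^ 8 = 1 := by
      intro e
      have hoe : orderOf (e : G) = 3 := by
        obtain ⟨g, hg⟩ := MulAction.mem_orbit_iff.1 e.2
        rw [← hd, ← hg, ConjAct.smul_def]
        exact orderOf_injective (MulAut.conj (ConjAct.ofConjAct g)).toMonoidHom (MulEquiv.injective _) d
      have hce : Nat.card (cz (e : G)) = 2 ^ a * b := by
        have h1 := card_class_mul (e : G)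
        have h2 := card_class_mul d
        rw [MulAction.orbit_eq_iff.2 e.2, ← h2] at h1
        rw [← hab.1]
        exact Nat.eq_of_mul_eq_mul_left (Nat.card_pos (α := orbit (ConjAct G) d)) h1
      obtain ⟨S⟩ : Nonempty (Sylow 2 (cz (e : G))) := inferInstance
      have hSc : Nat.card (S : Subgroup (cz (e : G))) = 2 ^ a :=
        SmallSimple.card_sylow_eq_pow S a b hce hab.2
      let q : (S : Subgroup (cz (e : G))) ≃ Fin (2 ^ a) := Finite.equivFinOfCardEq hSc
      refine ⟨fun i => ((q.symm i : cz (e : G)) : G), fun i k h => q.symm.injective (Subtype.ext (Subtype.ext h)),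
        fun i => ⟨hoe, mem_cz.1 (q.symm i).1.2, ?_⟩⟩
      have := congrArg (fun u : (S : Subgroup (cz (e : G))) => ((u : cz (e : G)) : G))
        (pow_card_eq_one' (x := q.symm i))
      rw [hSc] at this
      obtain ⟨c, hc⟩ : 2 ^ a ∣ 8 := pow_dvd_pow 2 ha3
      simp only [SubgroupClass.coe_pow, OneMemClass.coe_one] at this
      rw [hc, pow_mul, this, one_pow]
    choose f hf hf' using hS3
    refine le_trans ?_ (card_le_of_decode (α := orbit (ConjAct G) d × Fin (2 ^ a))
      (fun q => (q.1 : G) * f q.1 q.2) ?_ A3 fun q => ?_)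
    · rw [Nat.card_prod, Nat.card_fin]
      have h2 := card_class_mul d
      rw [hab.1, hG, ← mul_assoc] at h2
      have := Nat.mul_le_mul_left (Nat.card (orbit (ConjAct G) d) * 2 ^ a) hb9
      rw [show 11 * (45 * 2 ^ 3) = 3960 from rfl] at h2
      omega
    · rintro ⟨e, i⟩ ⟨e', i'⟩ h
      dsimp only at h
      have hdec : ∀ (e : orbit (ConjAct G) d) (i : Fin (2 ^ a)), ((e : G) * f e i) ^ 16 = e := fun e i => by
        obtain ⟨hoe, hc, h8⟩ := hf' e i
        rw [(Commute.symm hc).mul_pow, show f e i ^ 16 = 1 by rw [show 16 = 8 * 2 from rfl, pow_mul, h8, one_pow],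
          mul_one, ← pow_mod_orderOf, hoe, show 16 % 3 = 1 from rfl, pow_one]
      obtain rfl : e = e' := Subtype.ext (by rw [← hdec e i, h, hdec e' i'])
      rw [hf e (mul_left_cancel h)]
    · obtain ⟨hoe, hc, h8⟩ := hf' q.1 q.2
      exact orderOf_dvd_of_mul hoe (Commute.symm hc) h8 (by norm_num)
  have hordU : ∀ g : G, g ^ 8 = 1 → ∀ r, r.Prime → r ≠ 2 → ¬ r ∣ orderOf g := fun g hg r hr h2 h => h2
    ((Nat.prime_dvd_prime_iff_eq hr Nat.prime_two).1
      (hr.dvd_of_dvd_pow (h.trans (orderOf_dvd_of_pow_eq_one hg) : r ∣ 2 ^ 3)))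
  have hU : Nat.card U ≤ 135 := by
    have : Fintype G := Fintype.ofFinite G
    have hd53 : Disjoint A5 A3 := Set.disjoint_left.2 fun g h5' h3' => by
      have hy : orderOf (g ^ (orderOf g / 5)) = 5 := orderOf_pow_orderOf_div (orderOf_pos g).ne' h5'
      have hz : orderOf (g ^ (orderOf g / 3)) = 3 := orderOf_pow_orderOf_div (orderOf_pos g).ne' h3'
      have := dvd_card_cz (x := g ^ (orderOf g / 5)) hz ((Commute.refl g).pow_pow _ _).eq
      rw [(five_data hG hj h45 hy).2.1] at this
      norm_num at this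
    have hd11 : Disjoint A11 (A5 ∪ A3) := Set.disjoint_left.2 fun g h11' h' => by
      have hx : orderOf (g ^ (orderOf g / 11)) = 11 := orderOf_pow_orderOf_div (orderOf_pos g).ne' h11'
      have hC := hcz hx
      rcases h' with h' | h'
      · have := dvd_card_cz (x := g ^ (orderOf g / 11)) (orderOf_pow_orderOf_div (orderOf_pos g).ne' h')
          ((Commute.refl g).pow_pow _ _).eq
        rw [hC] at this; norm_num at this
      · have := dvd_card_cz (x := g ^ (orderOf g / 11)) (orderOf_pow_orderOf_div (orderOf_pos g).ne' h')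
          ((Commute.refl g).pow_pow _ _).eq
        rw [hC] at this; norm_num at this
    have hdU : Disjoint U (A11 ∪ (A5 ∪ A3)) := Set.disjoint_left.2 fun g hgU h' => by
      rcases h' with h' | h' | h'
      · exact hordU g hgU.2 11 h11.out (by norm_num) h'
      · exact hordU g hgU.2 5 h5.out (by norm_num) h'
      · exact hordU g hgU.2 3 h3.out (by norm_num) h'
    have hone : (1 : G) ∉ U ∪ (A11 ∪ (A5 ∪ A3)) := by simp [U, A11, A5, A3]
    have hle := Set.ncard_le_ncard (Set.subset_univ (insert (1 : G) (U ∪ (A11 ∪ (A5 ∪ A3)))))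
    rw [Set.ncard_insert_of_notMem hone, Set.ncard_union_eq hdU, Set.ncard_union_eq hd11, Set.ncard_union_eq hd53,
      Set.ncard_univ, hG] at hle
    simp only [← Nat.card_coe_set_eq] at hle
    rw [show 11 * (45 * 2 ^ 3) = 3960 from rfl] at hle
    omega
  -- the 2-elements are exactly the ones in the centralisers
  obtain ⟨x₀, hx₀⟩ := exists_prime_elt (G := G) 11 (hG ▸ dvd_mul_right 11 _)
  have hf0 : (Nat.card G).factorization 11 = 1 :=
    SmallSimple.factorization_mul_eq h11.out (show Nat.card G = 11 ^ 1 * (45 * 2 ^ 3) by rw [hG, pow_one]) (by norm_num)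
  have hgen : ∀ Q : Sylow 11 G, ∃ x : G, orderOf x = 11 ∧ zpowers x = (Q : Subgroup G) := by
    intro Q
    have hQ : Nat.card (Q : Subgroup G) = 11 := by rw [Q.card_eq_multiplicity, hf0, pow_one]
    obtain ⟨⟨x, hx⟩, hox⟩ := exists_prime_orderOf_dvd_card' 11 (dvd_of_eq hQ.symm)
    rw [Subgroup.orderOf_mk] at hox
    exact ⟨x, hox, eq_of_le_of_card_ge (zpowers_le.2 hx) (by rw [hQ, card_zpowers_prime hox])⟩
  choose gen hgen1 hgen2 using hgen
  choose tf htf htf' using hS
  have hT1 : ∀ (Q : Sylow 11 G) (a : {a : Fin 4 // tf (gen Q) (hgen1 Q) a ≠ 1}),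
      tf (gen Q) (hgen1 Q) a.1 ∈ U := fun Q a =>
    ⟨a.2, by rw [show 8 = 4 * 2 from rfl, pow_mul, (htf' _ (hgen1 Q) a.1).2, one_pow]⟩
  let F : (Σ Q : Sylow 11 G, {a : Fin 4 // tf (gen Q) (hgen1 Q) a ≠ 1}) → U :=
    fun q => ⟨_, hT1 q.1 q.2⟩
  have hFinj : Function.Injective F := by
    rintro ⟨Q, a⟩ ⟨R, b⟩ h
    have hv : tf (gen Q) (hgen1 Q) a.1 = tf (gen R) (hgen1 R) b.1 := congrArg Subtype.val h
    have hle := hkey (hgen1 Q) (htf' _ (hgen1 Q) a.1).1 a.2 (hT1 Q a).2
    have hRmem : gen R ∈ cz (tf (gen Q) (hgen1 Q) a.1) :=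
      mem_cz.2 (by rw [hv]; exact (htf' _ (hgen1 R) b.1).1.symm)
    have := zpowers_eq_of_mem (hgen1 Q) (hgen1 R) (huniq (hgen1 Q) (hgen1 R) (hle hRmem))
    obtain rfl : Q = R := Sylow.ext (by rw [← hgen2 Q, ← hgen2 R, this])
    obtain rfl : a = b := Subtype.ext (htf _ (hgen1 Q) hv)
    rfl
  have hFsurj : Function.Surjective F := by
    refine ((Nat.bijective_iff_injective_and_card F).2 ⟨hFinj, le_antisymm
      (Nat.card_le_card_of_injective F hFinj) (hU.trans ?_)⟩).2
    have : Fintype (Sylow 11 G) := Fintype.ofFinite _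
    rw [Nat.card_sigma]
    calc 135 = ∑ _Q : Sylow 11 G, 3 := by
          rw [Finset.sum_const, Finset.card_univ, ← Nat.card_eq_fintype_card, h45]; rfl
      _ ≤ _ := Finset.sum_le_sum fun Q _ => by
          rw [Nat.card_eq_fintype_card, Fintype.card_subtype_compl, Fintype.card_fin]
          have : Fintype.card {a : Fin 4 // tf (gen Q) (hgen1 Q) a = 1} ≤ 1 :=
            Fintype.card_le_one_iff.2 fun a b => Subtype.ext (htf _ (hgen1 Q) (a.2.trans b.2.symm))
          omega
  have hsurj : ∀ u : G, u ≠ 1 → u ^ 8 = 1 → ∃ x, orderOf x = 11 ∧ u * x = x * u := fun u h1 h8 => by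
    obtain ⟨⟨Q, a⟩, h⟩ := hFsurj ⟨u, h1, h8⟩
    have he : tf (gen Q) (hgen1 Q) a.1 = u := congrArg Subtype.val h
    refine ⟨gen Q, hgen1 Q, ?_⟩
    rw [← he]
    exact (htf' _ (hgen1 Q) a.1).1
  -- outer elements of `N(⟨x₀⟩)` are involutions
  set M := nz x₀ with hMdef
  have hCM : cz x₀ ≤ M := cz_le_nz x₀
  have hidx2 : ((cz x₀).subgroupOf M).index = 2 := by
    have := ((cz x₀).subgroupOf M).card_mul_index
    rw [Nat.card_congr (subgroupOfEquivOfLe hCM).toEquiv, hcz hx₀, hnz hx₀] at this
    omega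
  have houter : ∀ g ∈ M, g ∉ cz x₀ → g ^ 2 = 1 := by
    intro g hg hgC
    have h88 : g ^ 88 = 1 := by
      have := congrArg Subtype.val (pow_card_eq_one' (x := (⟨g, hg⟩ : M)))
      rw [hnz hx₀] at this
      simpa using this
    have hg8 : g ^ 8 = 1 := by
      by_contra h
      have ho : orderOf (g ^ 8) = 11 := orderOf_eq_prime (by rw [← pow_mul, h88]) h
      exact hgC (mem_cz.2 (commute_of_mem_zpowers_of hx₀ ho (huniq hx₀ ho (pow_mem hg 8))
        ((Commute.refl g).pow_right 8).eq))
    have hg1 : g ≠ 1 := fun h => hgC (h ▸ one_mem _)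
    obtain ⟨x', hx', hgx'⟩ := hsurj g hg1 hg8
    by_contra h2
    have hc : g ^ 2 * x₀ = x₀ * g ^ 2 := mem_cz.1 (Subgroup.sq_mem_of_index_two hidx2 ⟨g, hg⟩ :)
    have hle := hkey hx₀ hc h2 (by rw [← pow_mul, mul_comm, pow_mul, hg8, one_pow])
    exact hgC (mem_cz.2 (commute_of_mem_zpowers_of hx₀ hx'
      (huniq hx₀ hx' (hle (mem_cz.2 (Commute.pow_left hgx' 2).eq.symm))) hgx'))
  by_cases hcyc : ∃ z, z * x₀ = x₀ * z ∧ z ^ 4 = 1 ∧ z ^ 2 ≠ 1
  · -- all involutions lie in `M`
    obtain ⟨z, hzx, hz4, hz2⟩ := hcyc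
    let I : Set G := {g | g ^ 2 = 1 ∧ g ≠ 1}
    have hconj : ∀ Q : Sylow 11 G, ∃ g : G, MulAut.conj g • zpowers x₀ = (Q : Subgroup G) := by
      intro Q
      obtain ⟨g, hg⟩ := MulAction.exists_smul_eq G
        (Sylow.ofCard (zpowers x₀) (by rw [card_zpowers_prime hx₀, hf0, pow_one])) Q
      exact ⟨g, by rw [← hg, Sylow.coe_subgroup_smul]; rfl⟩
    choose cg hcg using hconj
    let V : Sylow 11 G → G := fun Q => cg Q * z * (cg Q)⁻¹
    have hz1 : z ≠ 1 := fun h => hz2 (by rw [h, one_pow])
    have hVx : ∀ Q, V Q * (cg Q * x₀ * (cg Q)⁻¹) = (cg Q * x₀ * (cg Q)⁻¹) * V Q := fun Q => by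
      simp only [V]; rw [conj_mul, conj_mul, hzx]
    have hV1 : ∀ Q, V Q ≠ 1 := fun Q h => hz1 (conj_eq_one_iff.1 h)
    have hV4 : ∀ Q, V Q ^ 4 = 1 := fun Q => by simp only [V]; rw [conj_pow, hz4, mul_one, mul_inv_cancel]
    have hV2 : ∀ Q, V Q ^ 2 ≠ 1 := fun Q h => hz2 (by simp only [V] at h; rwa [conj_pow, conj_eq_one_iff] at h)
    have hox : ∀ Q, orderOf (cg Q * x₀ * (cg Q)⁻¹) = 11 := fun Q => by
      rw [← hx₀]; exact orderOf_injective (MulAut.conj (cg Q)).toMonoidHom (MulEquiv.injective _) x₀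
    let W : Sylow 11 G × Bool → G := fun q => cond q.2 (V q.1) (V q.1)⁻¹
    have hW8 : ∀ Q b, W (Q, b) ^ 8 = 1 := fun Q b => by
      have h : V Q ^ 8 = 1 := by rw [show (8 : ℕ) = 4 * 2 from rfl, pow_mul, hV4, one_pow]
      cases b
      · show (V Q)⁻¹ ^ 8 = 1; rw [inv_pow, h, inv_one]
      · exact h
    have hW : Function.Injective W := by
      rintro ⟨Q, b⟩ ⟨R, c⟩ h
      have hQR : Q = R := by
        have hcom : ∀ (S : Sylow 11 G) (b : Bool),
            W (S, b) * (cg S * x₀ * (cg S)⁻¹) = (cg S * x₀ * (cg S)⁻¹) * W (S, b) := fun S b => by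
          cases b
          · exact (Commute.inv_left (hVx S)).eq
          · exact hVx S
        have hne : W (Q, b) ≠ 1 := by cases b <;> simp [W, hV1]
        have h8 : W (Q, b) ^ 8 = 1 := hW8 Q b
        have hle := hkey (hox Q) (hcom Q b) hne h8
        have hRm : cg R * x₀ * (cg R)⁻¹ ∈ cz (W (Q, b)) := mem_cz.2 (by rw [h]; exact (hcom R c).symm)
        have := zpowers_eq_of_mem (hox Q) (hox R) (huniq (hox Q) (hox R) (hle hRm))
        refine Sylow.ext ?_
        rw [← hcg Q, ← hcg R]
        exact (MonoidHom.map_zpowers (MulAut.conj (cg Q)).toMonoidHom x₀).trans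
          (this.symm.trans (MonoidHom.map_zpowers (MulAut.conj (cg R)).toMonoidHom x₀).symm)
      subst hQR
      cases b <;> cases c <;> simp only [W, cond_true, cond_false] at h
      · rfl
      · exact absurd (by rw [sq]; nth_rewrite 1 [← h]; exact inv_mul_cancel _) (hV2 Q)
      · exact absurd (by rw [sq]; nth_rewrite 1 [h]; exact inv_mul_cancel _) (hV2 Q)
      · rfl
    have hI : Nat.card I ≤ 45 := by
      have hWU : ∀ q, W q ∈ U := fun q => by
        obtain ⟨Q, b⟩ := q
        exact ⟨by cases b <;> simp [W, hV1], hW8 Q b⟩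
      have hdis : Disjoint I (Set.range W) := Set.disjoint_left.2 fun g hg ⟨q, hq⟩ => by
        obtain ⟨Q, b⟩ := q
        subst hq
        cases b <;> exact hV2 Q (by simpa [W, inv_pow] using hg.1)
      have hsub : I ∪ Set.range W ⊆ U := by
        rintro g (hg | ⟨q, rfl⟩)
        · exact ⟨hg.2, by rw [show 8 = 2 * 4 from rfl, pow_mul, hg.1, one_pow]⟩
        · exact hWU q
      have h1 := Set.ncard_le_ncard hsub
      rw [Set.ncard_union_eq hdis, Set.ncard_range_of_injective hW] at h1
      simp only [← Nat.card_coe_set_eq] at h1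
      rw [Nat.card_prod, h45, show Nat.card Bool = 2 by simp] at h1
      omega
    let J : Set G := insert (z ^ 2) {g | g ∈ M ∧ g ∉ cz x₀}
    have hJI : J ⊆ I := by
      rintro g (rfl | ⟨hgM, hgC⟩)
      · exact ⟨by rw [← pow_mul, hz4], hz2⟩
      · exact ⟨houter g hgM hgC, fun h => hgC (h ▸ one_mem _)⟩
    have hJ : 45 ≤ J.ncard := by
      rw [Set.ncard_insert_of_notMem (fun h => h.2 (mem_cz.2 (Commute.pow_left hzx 2).eq)),
        show {g | g ∈ M ∧ g ∉ cz x₀} = (M : Set G) \ (cz x₀ : Set G) from rfl,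
        Set.ncard_sdiff (show (cz x₀ : Set G) ⊆ M from hCM)]
      simp only [← Nat.card_coe_set_eq]
      have h1 : Nat.card ((M : Set G) : Type _) = 88 := hnz hx₀
      have h2' : Nat.card ((cz x₀ : Set G) : Type _) = 44 := hcz hx₀
      omega
    have hIM : I ⊆ M := by
      have := Set.eq_of_subset_of_ncard_le hJI (by rw [← Nat.card_coe_set_eq]; omega)
      rw [← this]
      rintro g (rfl | h)
      · exact hCM (mem_cz.2 (Commute.pow_left hzx 2).eq)
      · exact h.1
    have hle : normalClosure I ≤ M := by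
      rw [normalClosure, closure_le]
      refine Set.Subset.trans ?_ hIM
      intro g hg
      obtain ⟨i, hi, hgi⟩ := Group.mem_conjugatesOfSet_iff.1 hg
      obtain ⟨c, rfl⟩ := isConj_iff.1 hgi
      exact ⟨by rw [conj_pow, hi.1, mul_one, mul_inv_cancel], by rw [Ne, conj_eq_one_iff]; exact hi.2⟩
    rcases (normalClosure_normal (s := I)).eq_bot_or_eq_top with h | h
    · exact hz2 (mem_bot.1 (h ▸ subset_normalClosure (hJI (Set.mem_insert _ _))))
    · rw [h, top_le_iff] at hle
      have := hnz hx₀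
      rw [← hMdef, hle, card_top, hG] at this
      norm_num at this
  · -- elementary abelian Sylow 2-subgroup, self-normalising
    push Not at hcyc
    have hUinv : ∀ u : G, u ^ 8 = 1 → u ^ 2 = 1 := by
      intro u hu
      by_cases h1 : u = 1
      · rw [h1, one_pow]
      obtain ⟨x, hx, hux⟩ := hsurj u h1 hu
      obtain ⟨g, hg⟩ := MulAction.exists_smul_eq G
        (Sylow.ofCard (zpowers x) (by rw [card_zpowers_prime hx, hf0, pow_one]))
        (Sylow.ofCard (zpowers x₀) (by rw [card_zpowers_prime hx₀, hf0, pow_one]))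
      have hmem : g * x * g⁻¹ ∈ zpowers x₀ := by
        have h := congrArg (fun Q : Sylow 11 G => (Q : Subgroup G)) hg
        rw [Sylow.coe_subgroup_smul] at h
        change MulAut.conj g • zpowers x = zpowers x₀ at h
        rw [← h]
        exact ⟨x, mem_zpowers x, rfl⟩
      have ho : orderOf (g * x * g⁻¹) = 11 :=
        hx ▸ orderOf_injective (MulAut.conj g).toMonoidHom (MulEquiv.injective _) x
      have hc := commute_of_mem_zpowers_of hx₀ ho hmem (g := g * u * g⁻¹) (by rw [conj_mul, conj_mul, hux])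
      have h4 : (g * u * g⁻¹) ^ 4 = 1 := by
        have h44 := congrArg Subtype.val (pow_card_eq_one' (x := (⟨_, mem_cz.2 hc⟩ : cz x₀)))
        rw [hcz hx₀] at h44
        simp only [SubgroupClass.coe_pow, OneMemClass.coe_one] at h44
        have h8 : (g * u * g⁻¹) ^ 8 = 1 := by rw [conj_pow, hu, mul_one, mul_inv_cancel]
        rwa [show 44 = 8 * 5 + 4 from rfl, pow_add, pow_mul, h8, one_pow, one_mul] at h44
      have := hcyc _ hc h4
      rwa [conj_pow, conj_eq_one_iff] at this
    obtain ⟨S⟩ : Nonempty (Sylow 2 G) := inferInstance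
    have hSc : Nat.card (S : Subgroup G) = 2 ^ 3 :=
      SmallSimple.card_sylow_eq_pow S 3 495 (by rw [hG]; norm_num) (by norm_num)
    have hS8 : ∀ s ∈ (S : Subgroup G), s ^ 8 = 1 := fun s hs => by
      have := congrArg Subtype.val (pow_card_eq_one' (x := (⟨s, hs⟩ : (S : Subgroup G))))
      rw [hSc] at this
      simpa using this
    have hinv : ∀ s ∈ (S : Subgroup G), s⁻¹ = s := fun s hs =>
      inv_eq_of_mul_eq_one_right (by rw [← sq]; exact hUinv s (hS8 s hs))
    have hN : normalizer ((S : Subgroup G) : Set G) ≤ centralizer ((S : Subgroup G) : Set G) := by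
      have hnodd : ∀ s : ℕ, s.Prime → s ∣ Nat.card (normalizer ((S : Subgroup G) : Set G)) → s = 2 := by
        intro s hs hsd
        by_contra hs2
        have : Fact s.Prime := ⟨hs⟩
        obtain ⟨⟨y, hyN⟩, hoy⟩ := exists_prime_orderOf_dvd_card' s hsd
        rw [Subgroup.orderOf_mk] at hoy
        have hsG : s ∣ 11 * (45 * 2 ^ 3) := hG ▸ hsd.trans (card_subgroup_dvd_card _)
        have hs' : s = 3 ∨ s = 5 ∨ s = 11 := by
          have hle : s ≤ 11 := by
            rcases hs.dvd_mul.1 hsG with h | h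
            · exact Nat.le_of_dvd (by norm_num) h
            · rcases hs.dvd_mul.1 h with h | h
              · have : s ∣ 3 ^ 2 * 5 := h
                rcases hs.dvd_mul.1 this with h | h
                · exact (Nat.le_of_dvd (by norm_num) (hs.dvd_of_dvd_pow h)).trans (by norm_num)
                · exact (Nat.le_of_dvd (by norm_num) h).trans (by norm_num)
              · exact (Nat.le_of_dvd (by norm_num) (hs.dvd_of_dvd_pow h)).trans (by norm_num)
          interval_cases s <;> first | omega | exact absurd hs (by norm_num) | exact absurd hsG (by norm_num)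
        -- `y` fixes a non-trivial element of `S`
        by_cases hfix : ∃ v ∈ (S : Subgroup G), v ≠ 1 ∧ y * v = v * y
        · obtain ⟨v, hv, hv1, hyv⟩ := hfix
          obtain ⟨x, hx, hvx⟩ := hsurj v hv1 (hS8 v hv)
          have hle := hkey hx hvx hv1 (hS8 v hv)
          have h88 : s ∣ 88 := by
            have := dvd_card_cz (x := v) hoy hyv
            exact hnz hx ▸ this.trans (Subgroup.card_dvd_of_le hle)
          have hs11 : s = 11 := by rcases hs' with rfl | rfl | rfl <;> first | rfl | (norm_num at h88)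
          subst hs11
          have hcent : (S : Subgroup G) ≤ cz y := fun a ha => mem_cz.2 (commute_of_normalizes _ (s := 11) hyN
            (by rw [← hoy, pow_orderOf_eq_one]) (fun c hc hmod => by
              rw [hSc] at hc hmod ⊢
              obtain ⟨i, hi, rfl⟩ := (Nat.dvd_prime_pow Nat.prime_two).1 hc
              interval_cases i <;> first | rfl | exact absurd hmod (by decide)) ha).symm
          have := Subgroup.card_dvd_of_le hcent
          rw [hSc, hcz hoy] at this
          norm_num at this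
        · push Not at hfix
          have hm := card_fixed_modEq (S : Subgroup G) hyN (s := s) (by rw [← hoy, pow_orderOf_eq_one])
          have hb : (cz y).subgroupOf (S : Subgroup G) = ⊥ := eq_bot_iff.2 fun v hv => mem_bot.2 (by
            by_contra hv1
            exact hfix v.1 v.2 (fun h => hv1 (Subtype.ext h)) (mem_cz.1 (mem_subgroupOf.1 hv)).symm)
          rw [hb, card_bot, hSc] at hm
          rcases hs' with rfl | rfl | rfl <;> exact absurd hm (by decide)
      have hp2 : IsPGroup 2 (normalizer ((S : Subgroup G) : Set G)) :=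
        IsPGroup.of_card
          (Nat.eq_prime_pow_of_unique_prime_dvd Nat.card_pos.ne' (fun {d} hd hd' => hnodd d hd hd'))
      have heq := S.3 hp2 le_normalizer
      intro g hg
      rw [heq] at hg
      refine mem_centralizer_iff.2 fun a ha => ?_
      rw [← hinv (a * g) (mul_mem ha hg), _root_.mul_inv_rev, hinv g hg, hinv a ha]
    obtain ⟨Q, K, hK, hc⟩ := Transfer.hasNormalPComplement_of_normalizer_le_centralizer S hN
    have hQ : Nat.card (Q : Subgroup G) = 2 ^ 3 :=
      SmallSimple.card_sylow_eq_pow Q 3 495 (by rw [hG]; norm_num) (by norm_num)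
    exact SmallSimple.no_complement_of_lt Q (by rw [hQ]; norm_num) (by rw [hQ, hG]; norm_num) K hK hc

theorem false_of_simple : False := by
  have : Fact (Nat.Prime 5) := ⟨Nat.prime_five⟩
  obtain ⟨y, hy⟩ := exists_prime_elt (G := G) 5 (hG ▸ (dvd_mul_right 5 9).trans ((dvd_mul_right 45 _).trans (dvd_mul_left _ 11)))
  exact false_of_card_3960 hG h45 (five_data hG hj h45 hy).1

end Simple

end Cfsg.Agent.M11Order
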