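import Cfsg.Agent.Lib.SmallSimple.Low
import Cfsg.Agent.Lib.SmallSimple.Criteria
import Cfsg.Agent.Lib.Transfer.Burnside

/-!
# Counting tools for groups of order `7920`: prime-order elements, their normalisers and centralisers

Tools for the proof that a group of order `7920` with disconnected prime graph is simple.
-/

set_option autoImplicit false

namespace Cfsg.Agent.M11Order

open Subgroup MulAction

variable {G : Type*} [Group G]

/-- The cyclic subgroup of an element, its normaliser. -/
abbrev nz (x : G) : Subgroup G := normalizer ((zpowers x : Subgroup G) : Set G)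

/-- The centraliser of an element. -/
abbrev cz (x : G) : Subgroup G := centralizer {x}

theorem mem_cz {x y : G} : y ∈ cz x ↔ y * x = x * y := Subgroup.mem_centralizer_singleton_iff

theorem self_mem_cz (x : G) : x ∈ cz x := mem_cz.2 rfl

theorem centralizer_zpowers_eq (x : G) : centralizer ((zpowers x : Subgroup G) : Set G) = cz x := by
  refine le_antisymm (centralizer_le (by simp)) fun y hy => ?_
  refine mem_centralizer_iff.2 fun z hz => ?_
  obtain ⟨k, rfl⟩ := mem_zpowers_iff.1 hz
  exact (Commute.zpow_right (mem_cz.1 hy) k).symm.eq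

theorem cz_le_nz (x : G) : cz x ≤ nz x :=
  (centralizer_zpowers_eq x).ge.trans (centralizer_le_normalizer _)

variable [Finite G]

/-- The fixed subgroup of an element of prime order normalising a subgroup. -/
theorem card_fixed_modEq (H : Subgroup G) {y : G} {s : ℕ} [Fact s.Prime]
    (hy : y ∈ normalizer (H : Set G)) (hs : y ^ s = 1) :
    Nat.card ((cz y).subgroupOf H) ≡ Nat.card H [MOD s] := by
  classical
  have : Fintype H := Fintype.ofFinite H
  let σ : Equiv.Perm H := (MulAut.conj y).toEquiv.subtypeEquiv fun a => by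
    simpa [MulAut.conj_apply] using (mem_normalizer_iff.1 hy a)
  have hpow : ∀ (k : ℕ) (a : H), (((σ ^ k) a : H) : G) = y ^ k * a * (y ^ k)⁻¹ := by
    intro k
    induction k with
    | zero => simp
    | succ k ih =>
      intro a
      rw [pow_succ', Equiv.Perm.mul_apply, pow_succ']
      show y * _ * y⁻¹ = _
      rw [ih]; group
  have hσ : σ ^ s ^ 1 = 1 := Equiv.ext fun a => Subtype.ext (by rw [pow_one, hpow, hs]; simp)
  have hm := Equiv.Perm.card_compl_support_modEq hσ
  have hset : ∀ a : H, a ∈ σ.supportᶜ ↔ a ∈ (cz y).subgroupOf H := fun a => by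
    rw [Finset.mem_compl, Equiv.Perm.notMem_support, mem_subgroupOf, mem_cz, Subtype.ext_iff]
    show y * a * y⁻¹ = a ↔ _
    rw [mul_inv_eq_iff_eq_mul, eq_comm]
  rw [← Nat.card_eq_fintype_card, ← Nat.card_eq_finsetCard] at hm
  rw [Nat.card_congr (Equiv.subtypeEquivRight hset)] at hm
  exact hm

/-- An element of prime order normalising a subgroup centralises it, given the divisor condition. -/
theorem commute_of_normalizes (H : Subgroup G) {y : G} {s : ℕ} [Fact s.Prime]
    (hy : y ∈ normalizer (H : Set G)) (hs : y ^ s = 1)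
    (h : ∀ c, c ∣ Nat.card H → c ≡ Nat.card H [MOD s] → c = Nat.card H) {x : G} (hx : x ∈ H) :
    y * x = x * y := by
  have htop := eq_top_of_card_eq _ (h _ (card_subgroup_dvd_card _) (card_fixed_modEq H hy hs))
  have := htop.ge (mem_top (⟨x, hx⟩ : H))
  exact (mem_cz.1 (mem_subgroupOf.1 this)).symm

theorem card_zpowers_prime {x : G} {r : ℕ} (hx : orderOf x = r) : Nat.card (zpowers x) = r := by
  rw [Nat.card_zpowers, hx]

theorem zpowers_eq_of_mem {x y : G} {r : ℕ} [hr : Fact r.Prime] (hx : orderOf x = r) (hy : orderOf y = r)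
    (h : y ∈ zpowers x) : zpowers y = zpowers x :=
  eq_of_le_of_card_ge (zpowers_le.2 h) (by rw [card_zpowers_prime hx, card_zpowers_prime hy])

theorem commute_of_mem_zpowers_of {x y g : G} {r : ℕ} [hr : Fact r.Prime] (hx : orderOf x = r)
    (hy : orderOf y = r) (h : y ∈ zpowers x) (hg : g * y = y * g) : g * x = x * g := by
  have : x ∈ zpowers y := (zpowers_eq_of_mem hx hy h).symm ▸ mem_zpowers x
  obtain ⟨k, rfl⟩ := mem_zpowers_iff.1 this
  exact (Commute.zpow_right hg k).eq

/-- `N(⟨x⟩)/C(x)` embeds into the automorphisms of a group of prime order. -/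
theorem card_nz_dvd {x : G} {r : ℕ} [hr : Fact r.Prime] (hx : orderOf x = r) :
    Nat.card (nz x) ∣ Nat.card (cz x) * (r - 1) := by
  let P : Subgroup G := zpowers x
  let f := P.normalizerMonoidHom
  have hk : f.ker = (centralizer (P : Set G)).subgroupOf _ := normalizerMonoidHom_ker P
  have hle : centralizer (P : Set G) ≤ normalizer (P : Set G) := centralizer_le_normalizer _
  rw [← card_mul_index f.ker, index_ker, hk, Nat.card_congr (subgroupOfEquivOfLe hle).toEquiv]
  rw [show centralizer (P : Set G) = cz x from centralizer_zpowers_eq x]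
  refine Nat.mul_dvd_mul_left _ ((card_subgroup_dvd_card f.range).trans ?_)
  rw [IsCyclic.card_mulAut, card_zpowers_prime hx, Nat.totient_prime hr.out]

/-- The normaliser count inside a subgroup. -/
theorem card_sylow_sub (K : Subgroup G) {x : G} {r m : ℕ} [hr : Fact r.Prime] (hx : orderOf x = r) (hxK : x ∈ K)
    (hK : Nat.card K = r * m) (hm : ¬ r ∣ m) :
    Nat.card (Sylow r K) * Nat.card (nz x ⊓ K : Subgroup G) = Nat.card K := by
  have hf : (Nat.card K).factorization r = 1 :=
    SmallSimple.factorization_mul_eq hr.out (by rw [hK, pow_one]) hm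
  have hle : zpowers x ≤ K := zpowers_le.2 hxK
  let Q : Sylow r K := Sylow.ofCard ((zpowers x).subgroupOf K) (by
    rw [Nat.card_congr (subgroupOfEquivOfLe hle).toEquiv, card_zpowers_prime hx, hf, pow_one])
  have h := SmallSimple.card_sylow_mul_card_normalizer Q
  have he : normalizer ((Q : Subgroup K) : Set K) = (nz x ⊓ K).subgroupOf K := by
    rw [inf_subgroupOf_right]
    exact (subgroupOf_normalizer_eq hle).symm
  rw [he, Nat.card_congr (subgroupOfEquivOfLe inf_le_right).toEquiv] at h
  exact h

theorem card_sylow_mul_nz {x : G} {r m : ℕ} [hr : Fact r.Prime] (hx : orderOf x = r) (hG : Nat.card G = r * m)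
    (hm : ¬ r ∣ m) : Nat.card (Sylow r G) * Nat.card (nz x) = Nat.card G := by
  have hf : (Nat.card G).factorization r = 1 :=
    SmallSimple.factorization_mul_eq hr.out (by rw [hG, pow_one]) hm
  have h := SmallSimple.card_sylow_mul_card_normalizer
    (Sylow.ofCard (zpowers x) (by rw [card_zpowers_prime hx, hf, pow_one]))
  exact h

theorem sylow_count_dvd {r m : ℕ} [hr : Fact r.Prime] (hG : Nat.card G = r * m) (hm : ¬ r ∣ m) :
    Nat.card (Sylow r G) ∣ m := by
  obtain ⟨P⟩ : Nonempty (Sylow r G) := inferInstance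
  have h := P.card_dvd_index
  have hP : Nat.card (P : Subgroup G) = r := by
    rw [SmallSimple.card_sylow_eq_pow P 1 m (by rw [pow_one, hG]) hm, pow_one]
  have := (P : Subgroup G).card_mul_index
  rw [hP, hG] at this
  rwa [Nat.eq_of_mul_eq_mul_left hr.out.pos this] at h

theorem sylow_count_mem {r m : ℕ} [hr : Fact r.Prime] (hG : Nat.card G = r * m) (hm : ¬ r ∣ m) {L : Finset ℕ}
    (hL : (Nat.divisors m).filter (fun n => n % r = 1) ⊆ L) : Nat.card (Sylow r G) ∈ L := by
  refine hL (Finset.mem_filter.2 ⟨Nat.mem_divisors.2 ⟨sylow_count_dvd hG hm, fun h => hm (h ▸ dvd_zero r)⟩, ?_⟩)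
  rw [card_sylow_modEq_one r G, Nat.mod_eq_of_lt hr.out.one_lt]

/-- Number of elements of prime order `r` is at least `n_r * (r - 1)` when Sylow subgroups have order `r`. -/
theorem card_orderOf_eq_ge {r m : ℕ} [hr : Fact r.Prime] (hG : Nat.card G = r * m) (hm : ¬ r ∣ m) :
    Nat.card (Sylow r G) * (r - 1) ≤ Nat.card {x : G // orderOf x = r} := by
  classical
  have hP : ∀ P : Sylow r G, Nat.card (P : Subgroup G) = r := fun P => by
    rw [SmallSimple.card_sylow_eq_pow P 1 m (by rw [pow_one, hG]) hm, pow_one]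
  have hord : ∀ P : Sylow r G, ∀ y : {y : (P : Subgroup G) // y ≠ 1}, orderOf ((y.1 : G)) = r := fun P y => by
    rw [Subgroup.orderOf_coe]
    have h := orderOf_dvd_natCard y.1
    rw [hP] at h
    exact ((Nat.dvd_prime hr.out).1 h).resolve_left fun h1 => y.2 (orderOf_eq_one_iff.1 h1)
  let f : (Σ P : Sylow r G, {y : (P : Subgroup G) // y ≠ 1}) → {x : G // orderOf x = r} :=
    fun a => ⟨a.2.1, hord a.1 a.2⟩
  have hf : Function.Injective f := by
    rintro ⟨P, y⟩ ⟨Q, z⟩ h
    have hyz : ((y.1 : G)) = z.1 := congrArg Subtype.val h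
    have hPy : zpowers (y.1 : G) = P :=
      eq_of_le_of_card_ge (zpowers_le.2 y.1.2) (by rw [hP, card_zpowers_prime (hord P y)])
    have hQz : zpowers (z.1 : G) = Q :=
      eq_of_le_of_card_ge (zpowers_le.2 z.1.2) (by rw [hP, card_zpowers_prime (hord Q z)])
    obtain rfl : P = Q := Sylow.ext (by rw [← hPy, ← hQz, hyz])
    obtain rfl : y = z := Subtype.ext (Subtype.ext hyz)
    rfl
  refine le_trans ?_ (Nat.card_le_card_of_injective f hf)
  have : Fintype (Sylow r G) := Fintype.ofFinite _
  rw [Nat.card_sigma, Finset.sum_congr rfl fun P _ => show _ = r - 1 from ?_, Finset.sum_const, Finset.card_univ,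
    smul_eq_mul, Nat.card_eq_fintype_card]
  have : Fintype (P : Subgroup G) := Fintype.ofFinite _
  rw [Nat.card_eq_fintype_card, Fintype.card_subtype_compl, Fintype.card_subtype_eq, ← Nat.card_eq_fintype_card, hP]

theorem exists_prime_elt_commute {x : G} {s : ℕ} [Fact s.Prime] (h : s ∣ Nat.card (cz x)) :
    ∃ y : G, orderOf y = s ∧ y * x = x * y := by
  obtain ⟨⟨y, hy⟩, hoy⟩ := exists_prime_orderOf_dvd_card' s h
  exact ⟨y, by rwa [Subgroup.orderOf_mk] at hoy, mem_cz.1 hy⟩

theorem exists_prime_elt (s : ℕ) [Fact s.Prime] (h : s ∣ Nat.card G) : ∃ y : G, orderOf y = s :=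
  exists_prime_orderOf_dvd_card' s h

theorem dvd_card_cz {x y : G} {s : ℕ} (hy : orderOf y = s) (h : y * x = x * y) : s ∣ Nat.card (cz x) :=
  hy ▸ (Subgroup.orderOf_mk y (mem_cz.2 h) ▸ orderOf_dvd_natCard (⟨y, mem_cz.2 h⟩ : cz x))

/-- An order `p * q` element from commuting elements. -/
theorem edge_of_commute {x y : G} {p q : ℕ} (hp : p.Prime) (hq : q.Prime) (hne : p ≠ q) (hx : orderOf x = p)
    (hy : orderOf y = q) (h : y * x = x * y) : ∃ g : G, orderOf g = p * q := by
  refine ⟨x * y, ?_⟩
  rw [Commute.orderOf_mul_eq_mul_orderOf_of_coprime h.symm, hx, hy]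
  rw [hx, hy]; exact (Nat.coprime_primes hp hq).2 hne

theorem edge_of_dvd_cz {x : G} {p q : ℕ} (hp : p.Prime) [hq : Fact q.Prime] (hne : p ≠ q) (hx : orderOf x = p)
    (h : q ∣ Nat.card (cz x)) : ∃ g : G, orderOf g = p * q := by
  obtain ⟨y, hy, hyx⟩ := exists_prime_elt_commute h
  exact edge_of_commute hp hq.out hne hx hy hyx

theorem card_dvd_of_le {H K : Subgroup G} (h : H ≤ K) : Nat.card H ∣ Nat.card K := Subgroup.card_dvd_of_le h

/-- Conjugacy class size times centraliser order. -/
theorem card_class_mul (x : G) : Nat.card (orbit (ConjAct G) x) * Nat.card (cz x) = Nat.card G := by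
  have : Finite (ConjAct G) := ‹Finite G›
  have h := SmallSimple.card_orbit_mul_card_stabilizer (G := ConjAct G) x
  rw [ConjAct.stabilizer_eq_centralizer] at h
  exact h

/-- No simple group has an abelian, self-centralising, non-trivial proper Sylow normaliser condition. -/
theorem false_of_nz_le_cz [IsSimpleGroup G] {x : G} {r m : ℕ} [hr : Fact r.Prime] (hx : orderOf x = r)
    (hG : Nat.card G = r * m) (hm : ¬ r ∣ m) (hm1 : 1 < m) (h : Nat.card (nz x) ≤ Nat.card (cz x)) : False := by
  have hf : (Nat.card G).factorization r = 1 :=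
    SmallSimple.factorization_mul_eq hr.out (by rw [hG, pow_one]) hm
  let P : Sylow r G := Sylow.ofCard (zpowers x) (by rw [card_zpowers_prime hx, hf, pow_one])
  have heq : cz x = nz x := eq_of_le_of_card_ge (cz_le_nz x) h
  have hle : normalizer ((P : Subgroup G) : Set G) ≤ centralizer ((P : Subgroup G) : Set G) := by
    intro y hy
    have hyx : y ∈ cz x := heq.ge hy
    refine mem_centralizer_iff.2 fun z hz => ?_
    obtain ⟨k, rfl⟩ := mem_zpowers_iff.1 hz
    exact (Commute.zpow_right (mem_cz.1 hyx) k).symm.eq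
  obtain ⟨Q, K, hK, hc⟩ := Transfer.hasNormalPComplement_of_normalizer_le_centralizer P hle
  have hQ : Nat.card (Q : Subgroup G) = r := by
    rw [SmallSimple.card_sylow_eq_pow Q 1 m (by rw [pow_one, hG]) hm, pow_one]
  exact SmallSimple.no_complement_of_lt Q (by rw [hQ]; exact hr.out.one_lt)
    (by rw [hQ, hG]; exact lt_mul_of_one_lt_right hr.out.pos hm1) K hK hc

end Cfsg.Agent.M11Order
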