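import Cfsg.Agent.Lib.SmallSimple.Basic
import Cfsg.Agent.Lib.SylowCount.Basic

/-!
# No group has exactly 21 Sylow 5-subgroups: reduction, orbits, and the case of large intersection

`Tight21 G`: `G` has 21 Sylow 5-subgroups, is generated by them and acts faithfully on them.
-/

set_option autoImplicit false

namespace Cfsg.Agent.SmallSimple

open MulAction
open scoped commutatorElement

/-- Twenty-one Sylow 5-subgroups, generating, with faithful conjugation action. -/
structure Tight21 (G : Type*) [Group G] : Prop where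
  card_eq : Nat.card (Sylow 5 G) = 21
  generated : ∀ H : Subgroup G, (∀ Q : Sylow 5 G, (Q : Subgroup G) ≤ H) → H = ⊤
  faithful : ∀ g : G, (∀ Q : Sylow 5 G, g • Q = Q) → g = 1

universe u

instance fact_prime_five : Fact (Nat.Prime 5) := ⟨by norm_num⟩

theorem tight21_reduction {P : Prop} (base : ∀ (G : Type u) [Group G] [Finite G], Tight21 G → P)
    (n : ℕ) : ∀ (G : Type u) [Group G] [Finite G], Nat.card G = n → Nat.card (Sylow 5 G) = 21 → P := by
  induction n using Nat.strong_induction_on with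
  | _ n ih =>
    intro G _ _ hn h21
    by_cases hgen : ∀ H : Subgroup G, (∀ Q : Sylow 5 G, (Q : Subgroup G) ≤ H) → H = ⊤
    · by_cases hf : ∀ g : G, (∀ Q : Sylow 5 G, g • Q = Q) → g = 1
      · exact base G ⟨h21, hgen, hf⟩
      · push Not at hf
        obtain ⟨g, hg, hg1⟩ := hf
        set K := (toPermHom G (Sylow 5 G)).ker with hK
        have hKne : K ≠ ⊥ := fun hc => hg1 (by
          have : g ∈ K := by
            rw [hK, MonoidHom.mem_ker]
            exact Equiv.ext fun Q => hg Q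
          rwa [hc, Subgroup.mem_bot] at this)
        have hlt : Nat.card (G ⧸ K) < n := by
          have h1 := Subgroup.card_eq_card_quotient_mul_card_subgroup K
          have h2 : 1 < Nat.card K := Subgroup.one_lt_card_iff_ne_bot K |>.mpr hKne
          have h3 : 0 < Nat.card (G ⧸ K) := Nat.card_pos
          rw [hn] at h1
          nlinarith
        obtain ⟨R⟩ : Nonempty (Sylow 5 G) := inferInstance
        have hle : K ≤ Subgroup.normalizer ((R : Subgroup G) : Set G) := fun x hx => by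
          apply Sylow.smul_eq_iff_mem_normalizer.mp
          exact congrArg (fun σ : Equiv.Perm (Sylow 5 G) => σ R) (MonoidHom.mem_ker.mp hx)
        have hc := SylowCount.card_sylow_eq R K
        rw [Subgroup.relIndex_eq_one.mpr hle, mul_one, h21] at hc
        exact ih _ hlt (G ⧸ K) rfl hc.symm
    · push Not at hgen
      obtain ⟨H, hH, hne⟩ := hgen
      have hlt : Nat.card H < n := by
        rw [← hn]
        exact lt_of_le_of_ne (Subgroup.card_le_card_group H) fun hc =>
          hne (Subgroup.eq_top_of_card_eq H hc)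
      refine ih _ hlt H rfl ?_
      rw [← h21]
      refine (Nat.card_congr (Equiv.ofBijective (fun Q : Sylow 5 G => Q.subtype (hH Q)) ⟨?_, ?_⟩)).symm
      · exact fun Q R h => Sylow.subtype_injective h
      · intro S
        obtain ⟨Q, hQ⟩ := S.exists_comap_subtype_eq
        exact ⟨Q, Sylow.ext hQ⟩

section Orbits

variable {G : Type u} [Group G] [Finite G]

theorem smul_eq_self_iff_mem {P : Sylow 5 G} {x : G} (hx : x ∈ (P : Subgroup G)) (Q : Sylow 5 G) :
    x • Q = Q ↔ x ∈ (Q : Subgroup G) := by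
  rw [Sylow.smul_eq_iff_mem_normalizer]
  exact ⟨fun h => ((P.isPGroup'.inf_normalizer_sylow Q).le ⟨hx, h⟩).2,
    fun h => Subgroup.le_normalizer h⟩

theorem card_orbit_five (hG : Tight21 G) (P Q : Sylow 5 G) (h : Q ≠ P) :
    Nat.card (orbit (P : Subgroup G) Q) = 5 := by
  classical
  have h0 := card_orbit_sylow P Q
  obtain ⟨n, hn⟩ := P.isPGroup'.exists_card_eq
  obtain ⟨i, -, hi⟩ := (Nat.dvd_prime_pow (by norm_num : Nat.Prime 5)).mp
    (hn ▸ Subgroup.index_dvd_card ((Q : Subgroup G).subgroupOf (P : Subgroup G)))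
  rw [h0, hi]
  have hle : 5 ^ i ≤ 20 := by
    rw [← hi, ← h0]
    have hsub : orbit (P : Subgroup G) Q ⊆ {R : Sylow 5 G | R ≠ P} := by
      rintro R ⟨x, rfl⟩ hc
      apply h
      have h2 : Q = x⁻¹ • P := eq_inv_smul_iff.mpr hc
      rw [h2, Subgroup.smul_def, Sylow.smul_eq_iff_mem_normalizer]
      exact Subgroup.le_normalizer (x⁻¹).2
    have h20 : Nat.card {R : Sylow 5 G | R ≠ P} = 20 := by
      have := Fintype.ofFinite (Sylow 5 G)
      show Nat.card {R : Sylow 5 G // R ≠ P} = 20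
      rw [Nat.card_eq_fintype_card, Fintype.card_subtype_compl, Fintype.card_subtype_eq,
        ← Nat.card_eq_fintype_card, hG.card_eq]
    exact h20 ▸ Nat.card_mono (Set.toFinite _) hsub
  have hi0 : i ≠ 0 := by
    intro hc
    rw [hc, pow_zero, Subgroup.index_eq_one, Subgroup.subgroupOf_eq_top] at hi
    exact h (Sylow.ext (P.3 Q.isPGroup' hi))
  have hi2 : i < 2 := by
    by_contra hc
    have := (Nat.pow_le_pow_right (show 0 < 5 by norm_num) (show 2 ≤ i by omega)).trans hle
    omega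
  interval_cases i
  all_goals first | omega | norm_num

theorem sylow_comm (hG : Tight21 G) (P : Sylow 5 G) :
    ∀ x ∈ (P : Subgroup G), ∀ y ∈ (P : Subgroup G), x * y = y * x := by
  intro x hx y hy
  rw [← commutatorElement_eq_one_iff_mul_comm]
  refine hG.faithful _ fun Q => ?_
  have hc : ⁅x, y⁆ ∈ (P : Subgroup G) := by
    rw [commutatorElement_def]
    exact mul_mem (mul_mem (mul_mem hx hy) (inv_mem hx)) (inv_mem hy)
  rw [smul_eq_self_iff_mem hc]
  by_cases hQ : Q = P
  · rwa [hQ]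
  · set S := (Q : Subgroup G).subgroupOf (P : Subgroup G) with hS
    have hidx : S.index = 5 := by rw [hS, ← card_orbit_sylow, card_orbit_five hG P Q hQ]
    obtain ⟨n, hn⟩ := P.isPGroup'.exists_card_eq
    have hn0 : n ≠ 0 := by
      rintro rfl
      have := hidx ▸ Subgroup.index_dvd_card S
      rw [hn] at this
      norm_num at this
    have : S.Normal := Subgroup.normal_of_index_eq_minFac_card (by
      rw [hidx, hn, Nat.pow_minFac hn0, Nat.Prime.minFac_eq (by norm_num)])
    have hcard : Nat.card ((P : Subgroup G) ⧸ S) = 5 := hidx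
    have hcy : IsCyclic ((P : Subgroup G) ⧸ S) := isCyclic_of_prime_card hcard
    let _ := hcy.commGroup
    have hmem : (⟨⁅x, y⁆, hc⟩ : (P : Subgroup G)) ∈ S := by
      rw [← QuotientGroup.eq_one_iff]
      have : (⟨⁅x, y⁆, hc⟩ : (P : Subgroup G)) = ⁅(⟨x, hx⟩ : (P : Subgroup G)), ⟨y, hy⟩⁆ := rfl
      rw [this, ← QuotientGroup.mk'_apply, map_commutatorElement,
        commutatorElement_eq_one_iff_mul_comm]
      exact mul_comm _ _
    exact hmem

/-- A subgroup fixing a point cannot be transitive on a set of 6, 11 or 16 points while fixing all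
other points. -/
theorem no_small_moving (hG : Tight21 G) (a : Sylow 5 G) (H : Subgroup G)
    (F : Set (Sylow 5 G)) (ha : a ∉ F) (hfix : ∀ b ∉ F, ∀ h ∈ H, h • b = b)
    (htrans : ∀ b ∈ F, ∀ c ∈ F, ∃ h ∈ H, h • b = c) : 5 ∣ Nat.card F ∨ Nat.card F ≤ 5 := by
  classical
  have hHa : ∀ h ∈ H, h ∈ Subgroup.normalizer ((a : Subgroup G) : Set G) := fun h hh =>
    Sylow.smul_eq_iff_mem_normalizer.mp (hfix a ha h hh)
  by_cases hb : ∃ b ∈ F, ∀ h ∈ H, h • b ∈ orbit (a : Subgroup G) b
  · obtain ⟨b, hbF, hb⟩ := hb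
    right
    have hba : b ≠ a := fun hc => ha (hc ▸ hbF)
    have hsub : F ⊆ orbit (a : Subgroup G) b := fun c hc => by
      obtain ⟨h, hh, rfl⟩ := htrans b hbF c hc
      exact hb h hh
    exact (Nat.card_mono (Set.toFinite _) hsub).trans (card_orbit_five hG a b hba).le
  · left
    push Not at hb
    have hclosed : ∀ b ∈ F, ∀ x : (a : Subgroup G), x • b ∈ F := by
      intro b hbF x
      obtain ⟨h, hh, hhb⟩ := hb b hbF
      by_contra hxb
      apply hhb
      -- `h` fixes `x • b`, and normalizes `a`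
      have h1 : h • (x • b) = x • b := hfix _ hxb h hh
      have hx' : h * x * h⁻¹ ∈ (a : Subgroup G) :=
        (Subgroup.mem_normalizer_iff.mp (hHa h hh) _).mp x.2
      refine ⟨⟨h * x * h⁻¹, hx'⟩⁻¹ * x, ?_⟩
      show ((⟨h * x * h⁻¹, hx'⟩⁻¹ * x : (a : Subgroup G)) : G) • b = h • b
      have h2 : (x : G) • b = (h * x * h⁻¹) • (h • b) := by
        rw [← mul_smul, inv_mul_cancel_right, mul_smul]
        exact h1.symm
      rw [Subgroup.coe_mul, Subgroup.coe_inv, mul_smul, inv_smul_eq_iff]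
      exact h2
    let act : MulAction (a : Subgroup G) F :=
      { smul := fun x b => ⟨x • b.1, hclosed b.1 b.2 x⟩
        mul_smul := fun x y b => Subtype.ext (mul_smul x y b.1)
        one_smul := fun b => Subtype.ext (one_smul _ b.1) }
    refine dvd_card_of_dvd_card_orbit (G := (a : Subgroup G)) 5 fun b => ?_
    have him : Subtype.val '' (orbit (a : Subgroup G) b) = orbit (a : Subgroup G) b.1 := by
      ext T
      constructor
      · rintro ⟨_, ⟨x, rfl⟩, rfl⟩
        exact ⟨x, rfl⟩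
      · rintro ⟨x, rfl⟩
        exact ⟨_, ⟨x, rfl⟩, rfl⟩
    rw [← Nat.card_image_of_injective Subtype.val_injective, him,
      card_orbit_five hG a b.1 fun hc => ha (hc ▸ b.2)]

/-- A set of points through `P` stable under `P` has size `1` mod `5`. -/
theorem card_stable_mod_five (hG : Tight21 G) (P : Sylow 5 G) (F : Set (Sylow 5 G)) (hP : P ∈ F)
    (hF : ∀ b ∈ F, ∀ x : (P : Subgroup G), x • b ∈ F) : Nat.card F ≡ 1 [MOD 5] := by
  classical
  let act : MulAction (P : Subgroup G) F :=
    { smul := fun x b => ⟨x • b.1, hF b.1 b.2 x⟩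
      mul_smul := fun x y b => Subtype.ext (mul_smul x y b.1)
      one_smul := fun b => Subtype.ext (one_smul _ b.1) }
  have hfix : fixedPoints (P : Subgroup G) F = {⟨P, hP⟩} := by
    ext b
    rw [mem_fixedPoints, Set.mem_singleton_iff]
    constructor
    · intro hb
      apply Subtype.ext
      by_contra hne
      have h5 := card_orbit_five hG P b.1 hne
      have h1 : orbit (P : Subgroup G) b.1 = {b.1} := by
        ext T
        constructor
        · rintro ⟨x, rfl⟩
          exact congrArg Subtype.val (hb x)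
        · rintro rfl
          exact mem_orbit_self _
      rw [h1] at h5
      simp at h5
    · rintro rfl x
      exact Subtype.ext ((smul_eq_self_iff_mem x.2 P).mpr x.2)
  have h := P.isPGroup'.card_modEq_card_fixedPoints (α := F)
  rw [hfix] at h
  simpa using h

/-- Sylow 5-subgroups of a tight group have order 5. -/
theorem card_sylow_eq_five (hG : Tight21 G) (P₀ : Sylow 5 G)
    (hex : ¬ Nat.card (Sylow 5 G) ≡ 1 [MOD 5 ^ 2] → ∃ P R : Sylow 5 G, P ≠ R ∧
      ((R : Subgroup G).subgroupOf (P : Subgroup G)).index ≤ 5 ^ (2 - 1)) :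
    Nat.card (P₀ : Subgroup G) = 5 := by
  classical
  by_contra h5
  obtain ⟨P, R, hPR, -⟩ := hex (by rw [hG.card_eq]; decide)
  set D := (P : Subgroup G) ⊓ (R : Subgroup G) with hD
  have hDcard : Nat.card D * 5 = Nat.card (P : Subgroup G) := by
    have h1 := Subgroup.card_mul_index ((R : Subgroup G).subgroupOf (P : Subgroup G))
    have h2 : Nat.card ((R : Subgroup G).subgroupOf (P : Subgroup G)) = Nat.card D := by
      rw [← Subgroup.inf_subgroupOf_right, inf_comm, ← hD]
      exact Nat.card_congr (Subgroup.subgroupOfEquivOfLe inf_le_left).toEquiv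
    rwa [h2, ← card_orbit_sylow, card_orbit_five hG P R hPR.symm] at h1
  have hDne : D ≠ ⊥ := by
    intro hc
    rw [hc, Subgroup.card_bot, one_mul] at hDcard
    exact h5 (by rw [Nat.card_congr (P₀.equiv P).toEquiv, ← hDcard])
  set F : Set (Sylow 5 G) := {Q | D ≤ (Q : Subgroup G)} with hF
  have hPF : P ∈ F := show D ≤ (P : Subgroup G) from inf_le_left
  have hRF : R ∈ F := show D ≤ (R : Subgroup G) from inf_le_right
  -- D fixes exactly the points of F
  have hFiff : ∀ Q, Q ∈ F ↔ ∀ d ∈ D, d • Q = Q := fun Q =>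
    ⟨fun h d hd => (smul_eq_self_iff_mem (P := P) hd.1 Q).mpr (h hd),
      fun h d hd => (smul_eq_self_iff_mem (P := P) hd.1 Q).mp (h d hd)⟩
  have hDcomm : ∀ Q ∈ F, ∀ d ∈ D, ∀ x ∈ (Q : Subgroup G), d * x = x * d := fun Q hQ d hd x hx =>
    sylow_comm hG Q d (hQ hd) x hx
  -- outside F, members of F move points like D
  have hlike : ∀ Q ∈ F, ∀ b ∉ F, ∀ x ∈ (Q : Subgroup G), ∃ d ∈ D, x • b = d • b := by
    intro Q hQ b hb x hx
    have hbQ : b ≠ Q := fun hc => hb (hc ▸ hQ)
    have hsub : orbit D b ⊆ orbit (Q : Subgroup G) b := by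
      rintro _ ⟨d, rfl⟩
      exact ⟨⟨d.1, hQ d.2⟩, rfl⟩
    have h5 := card_orbit_five hG Q b hbQ
    have hDp : IsPGroup 5 D := P.isPGroup'.to_inf_left
    obtain ⟨i, hi⟩ : ∃ i, Nat.card (orbit D b) = 5 ^ i := hDp.card_orbit b
    have hle : Nat.card (orbit D b) ≤ 5 := (Nat.card_mono (Set.toFinite _) hsub).trans h5.le
    have hge : Nat.card (orbit (Q : Subgroup G) b) ≤ Nat.card (orbit D b) := by
      rw [h5]
      rcases i with _ | i
      · exfalso
        apply hb
        rw [hFiff]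
        intro d hd
        have hs := (Nat.card_eq_one_iff_unique.mp (hi.trans (pow_zero 5))).1
        exact congrArg Subtype.val (Subsingleton.elim
          (⟨(⟨d, hd⟩ : D) • b, mem_orbit _ _⟩ : orbit D b) ⟨b, mem_orbit_self _⟩)
      · rw [hi]
        exact Nat.le_self_pow (Nat.succ_ne_zero i) 5
    have heq : orbit D b = orbit (Q : Subgroup G) b :=
      Set.eq_of_subset_of_ncard_le hsub (by simpa [← Nat.card_coe_set_eq] using hge) (Set.toFinite _)
    have : (⟨x, hx⟩ : (Q : Subgroup G)) • b ∈ orbit D b := heq ▸ mem_orbit _ _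
    obtain ⟨d, hd⟩ := this
    exact ⟨d.1, d.2, hd.symm⟩
  let M : Subgroup G :=
    { carrier := {y | (∀ d ∈ D, d * y = y * d) ∧ ∀ b ∉ F, ∃ d ∈ D, y • b = d • b}
      mul_mem' := by
        rintro y z ⟨hy, hy'⟩ ⟨hz, hz'⟩
        refine ⟨fun d hd => by rw [← mul_assoc, hy d hd, mul_assoc, hz d hd, mul_assoc], fun b hb => ?_⟩
        obtain ⟨d, hd, e1⟩ := hy' b hb
        obtain ⟨d', hd', e2⟩ := hz' b hb
        refine ⟨d' * d, mul_mem hd' hd, ?_⟩
        rw [mul_smul, e2, ← mul_smul, ← hy d' hd', mul_smul, e1, mul_smul]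
      one_mem' := ⟨fun d _ => by simp, fun b _ => ⟨1, one_mem _, rfl⟩⟩
      inv_mem' := by
        rintro y ⟨hy, hy'⟩
        refine ⟨fun d hd => (Commute.inv_right (hy d hd)).eq, fun b hb => ?_⟩
        obtain ⟨d, hd, e1⟩ := hy' b hb
        refine ⟨d⁻¹, inv_mem hd, ?_⟩
        rw [inv_smul_eq_iff, ← mul_smul, ← hy _ (inv_mem hd), mul_smul, e1, inv_smul_smul] }
  set E : Subgroup G := ⨆ Q ∈ F, (Q : Subgroup G) with hE
  have hQE : ∀ Q ∈ F, (Q : Subgroup G) ≤ E := fun Q hQ => le_iSup₂_of_le Q hQ le_rfl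
  have hEM : E ≤ M := iSup₂_le fun Q hQ x hx =>
    ⟨fun d hd => hDcomm Q hQ d hd x hx, fun b hb => hlike Q hQ b hb x hx⟩
  have hDE : D ≤ E := le_trans inf_le_left (hQE P hPF)
  have hEF : ∀ y ∈ E, ∀ b ∈ F, y • b ∈ F := by
    intro y hy b hb
    rw [hFiff] at hb ⊢
    intro d hd
    rw [← mul_smul, (hEM hy).1 d hd, mul_smul, hb d hd]
  have hEtrans : ∀ b ∈ F, ∀ c ∈ F, ∃ y ∈ E, y • b = c := by
    intro b hb c hc
    obtain ⟨y, hy⟩ := MulAction.exists_smul_eq E (b.subtype (hQE b hb)) (c.subtype (hQE c hc))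
    refine ⟨y, y.2, ?_⟩
    rw [Sylow.smul_subtype] at hy
    exact Sylow.subtype_injective hy
  set H := ⁅E, E⁆ with hH
  have hHE : H ≤ E := Subgroup.commutator_le.mpr fun u hu v hv =>
    mul_mem (mul_mem (mul_mem hu hv) (inv_mem hu)) (inv_mem hv)
  have hHout : ∀ b ∉ F, ∀ h ∈ H, h • b = b := by
    intro b hb h hh
    have : H ≤ stabilizer G b := by
      rw [hH, Subgroup.commutator_le]
      intro u hu v hv
      rw [mem_stabilizer_iff, commutatorElement_def]
      have hu' : u⁻¹ ∈ E := inv_mem hu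
      have hv' : v⁻¹ ∈ E := inv_mem hv
      obtain ⟨d, hd, e1⟩ := (hEM hu').2 b hb
      obtain ⟨d', hd', e2⟩ := (hEM hv').2 b hb
      have hswap : u⁻¹ • v⁻¹ • b = v⁻¹ • u⁻¹ • b := by
        rw [e2, e1, ← mul_smul, ← (hEM hu').1 d' hd', mul_smul, e1, ← mul_smul v⁻¹,
          ← (hEM hv').1 d hd, mul_smul, e2, ← mul_smul, ← mul_smul,
          show d' * d = d * d' from sylow_comm hG P d' hd'.1 d hd.1]
      rw [mul_smul, mul_smul, mul_smul, hswap, smul_inv_smul, smul_inv_smul]
    exact this hh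
  have hHnorm : ∀ y ∈ E, ∀ h ∈ H, y * h * y⁻¹ ∈ H := by
    intro y hy h hh
    have h1 : H.map (MulAut.conj y).toMonoidHom = H := by
      rw [hH, Subgroup.map_commutator]
      have hEy : E.map (MulAut.conj y).toMonoidHom = E := by
        ext z
        constructor
        · rintro ⟨w, hw, rfl⟩
          exact mul_mem (mul_mem hy hw) (inv_mem hy)
        · intro hz
          exact ⟨y⁻¹ * z * y, mul_mem (mul_mem (inv_mem hy) hz) hy, by simp [mul_assoc]⟩
      rw [hEy]
    rw [← h1]
    exact ⟨h, hh, rfl⟩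
  set O : Sylow 5 G → Set (Sylow 5 G) := fun b => orbit H b with hO
  have hOF : ∀ b ∈ F, O b ⊆ F := fun b hb => by
    rintro _ ⟨h, rfl⟩
    exact hEF _ (hHE h.2) b hb
  have hOconj : ∀ b ∈ F, ∀ c ∈ F, Nat.card (O b) = Nat.card (O c) := by
    intro b hb c hc
    obtain ⟨y, hy, rfl⟩ := hEtrans b hb c hc
    refine le_antisymm ?_ ?_
    · refine Nat.card_le_card_of_injective (fun T => ⟨y • T.1, ?_⟩) fun T T' hTT =>
        Subtype.ext (MulAction.injective y (congrArg Subtype.val hTT))
      obtain ⟨h, hh⟩ := T.2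
      refine ⟨⟨y * h * y⁻¹, hHnorm y hy _ h.2⟩, ?_⟩
      show (y * (h : G) * y⁻¹) • y • b = y • T.1
      rw [← hh, ← mul_smul, inv_mul_cancel_right, mul_smul]
      rfl
    · refine Nat.card_le_card_of_injective (fun T => ⟨y⁻¹ • T.1, ?_⟩) fun T T' hTT =>
        Subtype.ext (MulAction.injective y⁻¹ (congrArg Subtype.val hTT))
      obtain ⟨h, hh⟩ := T.2
      refine ⟨⟨y⁻¹ * h * y⁻¹⁻¹, hHnorm _ (inv_mem hy) _ h.2⟩, ?_⟩
      show (y⁻¹ * (h : G) * y⁻¹⁻¹) • b = y⁻¹ • T.1
      rw [← hh, inv_inv, mul_smul, mul_smul]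
      rfl
  have hPstab : ∀ b ∈ O P, ∀ x : (P : Subgroup G), x • b ∈ O P := by
    rintro _ ⟨h, rfl⟩ x
    refine ⟨⟨x * h * (x : G)⁻¹, hHnorm _ (hQE P hPF x.2) _ h.2⟩, ?_⟩
    show ((x : G) * (h : G) * (x : G)⁻¹) • P = (x : G) • ((h : G) • P)
    rw [mul_smul, mul_smul, (smul_eq_self_iff_mem (P := P) (inv_mem x.2) P).mpr (inv_mem x.2)]
  have hOmod := card_stable_mod_five hG P (O P) (mem_orbit_self _) hPstab
  have hFmod := card_stable_mod_five hG P F hPF fun b hb x => hEF _ (hQE P hPF x.2) b hb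
  have hFlt : Nat.card F < 21 := by
    rw [← hG.card_eq]
    refine lt_of_le_of_ne (Nat.card_le_card_of_injective _ Subtype.val_injective) fun hc => hDne ?_
    rw [eq_bot_iff]
    intro d hd
    rw [Subgroup.mem_bot]
    refine hG.faithful d fun Q => (hFiff Q).mp ?_ d hd
    by_contra hQ
    have h2 : F.ncard < (Set.univ : Set (Sylow 5 G)).ncard :=
      Set.ncard_lt_ncard (Set.ssubset_univ_iff.mpr fun h => hQ (h ▸ Set.mem_univ Q)) (Set.toFinite _)
    rw [Set.ncard_univ, ← Nat.card_coe_set_eq] at h2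
    omega
  have hdvd : Nat.card (O P) ∣ Nat.card F := by
    let act : MulAction H F :=
      { smul := fun h b => ⟨(h : G) • b.1, hEF _ (hHE h.2) b.1 b.2⟩
        mul_smul := fun x y b => Subtype.ext (mul_smul (x : G) (y : G) b.1)
        one_smul := fun b => Subtype.ext (one_smul G b.1) }
    refine dvd_card_of_dvd_card_orbit (G := H) _ fun b => ?_
    have him : Subtype.val '' (orbit H b) = O b.1 := by
      ext T
      constructor
      · rintro ⟨_, ⟨x, rfl⟩, rfl⟩
        exact ⟨x, rfl⟩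
      · rintro ⟨x, rfl⟩
        exact ⟨_, ⟨x, rfl⟩, rfl⟩
    rw [← Nat.card_image_of_injective Subtype.val_injective, him, hOconj P hPF b.1 b.2]
  -- H does not fix the point P
  have hO1 : Nat.card (O P) ≠ 1 := by
    intro hc
    have hsub := (Nat.card_eq_one_iff_unique.mp hc).1
    have hH1 : H = ⊥ := by
      rw [eq_bot_iff]
      intro h hh
      rw [Subgroup.mem_bot]
      refine hG.faithful h fun b => ?_
      by_cases hb : b ∈ F
      · obtain ⟨y, hy, rfl⟩ := hEtrans P hPF b hb
        have h2 : y⁻¹ * h * y⁻¹⁻¹ ∈ H := hHnorm _ (inv_mem hy) h hh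
        have h3 : (y⁻¹ * h * y⁻¹⁻¹) • P = P := congrArg Subtype.val (Subsingleton.elim
          (⟨(y⁻¹ * h * y⁻¹⁻¹) • P, ⟨⟨_, h2⟩, rfl⟩⟩ : O P) ⟨P, mem_orbit_self _⟩)
        rw [inv_inv, mul_smul, mul_smul, inv_smul_eq_iff] at h3
        exact h3
      · exact hHout b hb h hh
    have hRP : (R : Subgroup G) ≤ Subgroup.normalizer ((P : Subgroup G) : Set G) := by
      intro r hr
      rw [Subgroup.mem_normalizer_iff]
      have hc : ∀ p ∈ (E : Subgroup G), r * p = p * r := fun p hp => by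
        rw [← commutatorElement_eq_one_iff_mul_comm, ← Subgroup.mem_bot, ← hH1, hH]
        exact Subgroup.commutator_mem_commutator (hQE R hRF hr) hp
      intro p
      constructor
      · intro hp
        rwa [hc p (hQE P hPF hp), mul_inv_cancel_right]
      · intro hp
        have h2 := hc _ (hQE P hPF hp)
        have : r * p * r⁻¹ = p := mul_left_cancel (h2.trans (inv_mul_cancel_right _ _))
        rwa [this] at hp
    exact hPR (Sylow.ext (R.3 P.isPGroup' (le_of_le_of_eq (le_inf le_rfl hRP)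
      (R.isPGroup'.inf_normalizer_sylow P) |>.trans inf_le_right)))
  have hlo : 0 < Nat.card (O P) := by
    have : Nonempty (O P) := ⟨⟨P, mem_orbit_self _⟩⟩
    exact Nat.card_pos
  have heq : Nat.card (O P) = Nat.card F := by
    obtain ⟨k, hk⟩ := hdvd
    unfold Nat.ModEq at hOmod hFmod
    have h6 : 6 ≤ Nat.card (O P) := by omega
    have hk4 : k < 4 := by nlinarith
    rw [hk] at hFlt hFmod ⊢
    interval_cases k <;> omega
  have hOeq : O P = F := Set.eq_of_subset_of_ncard_le (hOF P hPF)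
    (by rw [← Nat.card_coe_set_eq, ← Nat.card_coe_set_eq, heq]) (Set.toFinite _)
  obtain ⟨a, ha⟩ : ∃ a, a ∉ F := by
    by_contra hc
    push Not at hc
    have : Nat.card F = 21 := by
      rw [← hG.card_eq]
      exact Nat.card_congr (Equiv.subtypeUnivEquiv hc)
    omega
  have hsmall := no_small_moving hG a H F ha hHout fun b hb c hc => by
    obtain ⟨h, rfl⟩ := hOeq ▸ hb
    obtain ⟨k, rfl⟩ := hOeq ▸ hc
    refine ⟨k * (h : G)⁻¹, mul_mem k.2 (inv_mem h.2), ?_⟩
    show ((k : G) * (h : G)⁻¹) • (h : G) • P = (k : G) • P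
    rw [← mul_smul, inv_mul_cancel_right]
  unfold Nat.ModEq at hFmod hOmod
  omega

end Orbits

end Cfsg.Agent.SmallSimple
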