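import Cfsg.Agent.Lib.SmallSimple.M11OrderTools

/-!
# No simple group of order `1980` or `3960` has 45 Sylow 11-subgroups

Elementary: Sylow 5 counts, small index actions and an element count.
-/

set_option autoImplicit false

namespace Cfsg.Agent.M11Order

open Subgroup MulAction

variable {G : Type*} [Group G] [Finite G]

/-- A simple group with an element `x` of order 11 commuting with enough 2-elements has no subgroup
of index at most 22 and order prime to 11. -/
theorem false_of_small_index [IsSimpleGroup G] {x : G} (hx : orderOf x = 11) (H : Subgroup G)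
    (hk : H.index ≤ 22) (hH : H ≠ ⊤) (h11 : ¬ 11 ∣ Nat.card H) (T : Subgroup G)
    (hT : ∀ t ∈ T, t * x = x * t) (hT11 : ¬ 11 ∣ Nat.card T) (hTk : H.index < 11 * Nat.card T) : False := by
  classical
  have hp : Fact (Nat.Prime 11) := ⟨by norm_num⟩
  have : Fintype (G ⧸ H) := Fintype.ofFinite _
  have hx11 : x ^ 11 = 1 := by rw [← hx, pow_orderOf_eq_one]
  have hmod : ∀ k : ℕ, x ^ (k % 11) = x ^ k := fun k => by rw [← hx, pow_mod_orderOf]
  have hxfix : ∀ q : G ⧸ H, x • q ≠ q := by
    intro q hq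
    obtain ⟨g, rfl⟩ := QuotientGroup.mk_surjective q
    have hmem : g⁻¹ * (x⁻¹) * g ∈ H := by
      have := QuotientGroup.eq.1 (show ((x * g : G) : G ⧸ H) = g from hq)
      rwa [_root_.mul_inv_rev] at this
    have h := orderOf_dvd_natCard (⟨_, hmem⟩ : H)
    rw [Subgroup.orderOf_mk] at h
    refine h11 ?_
    have e : orderOf (g⁻¹ * x⁻¹ * g) = orderOf x⁻¹ := by
      have := orderOf_injective (MulAut.conj g⁻¹).toMonoidHom (MulEquiv.injective _) x⁻¹
      simpa [MulAut.conj_apply] using this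
    rwa [e, orderOf_inv, hx] at h
  have hfree : ∀ (q : G ⧸ H) (i i' : Fin 11), x ^ (i : ℕ) • q = x ^ (i' : ℕ) • q → i = i' := by
    intro q i i' h
    by_contra hne
    have hdiff : x ^ (((i : ℕ) + (11 - (i' : ℕ))) % 11) • q = q := by
      have e := congrArg (fun r => x ^ (11 - (i' : ℕ)) • r) h
      simp only [smul_smul, ← pow_add] at e
      rw [Nat.sub_add_cancel i'.2.le, hx11, one_smul] at e
      rwa [hmod, add_comm]
    set d := ((i : ℕ) + (11 - (i' : ℕ))) % 11 with hd
    have hd0 : d ≠ 0 := fun h0 => hne (Fin.ext (by have := i.2; have := i'.2; omega))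
    have hdlt : d < 11 := Nat.mod_lt _ (by norm_num)
    obtain ⟨e, -, he⟩ := Nat.exists_mul_mod_eq_one_of_coprime
      (((Nat.Prime.coprime_iff_not_dvd hp.out).2 (Nat.not_dvd_of_pos_of_lt (Nat.pos_of_ne_zero hd0) hdlt)).symm)
      (by norm_num)
    refine hxfix q ?_
    have hmul : ∀ k : ℕ, (x ^ d) ^ k • q = q := fun k => by
      induction k with
      | zero => rw [pow_zero, one_smul]
      | succ k ih => rw [pow_succ, mul_smul, hdiff, ih]
    have := hmul e
    rwa [← pow_mul, ← pow_mod_orderOf, hx, he, pow_one] at this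
  obtain ⟨q₀⟩ : Nonempty (G ⧸ H) := inferInstance
  have hidx : H.index = Fintype.card (G ⧸ H) := (Subgroup.index_eq_card H).trans Nat.card_eq_fintype_card
  have : Fintype T := Fintype.ofFinite T
  -- a non-trivial element of `T` preserving the orbit of `q₀`
  obtain ⟨⟨t, i⟩, ⟨t', i'⟩, heq, hne⟩ : ∃ a b : T × Fin 11,
      x ^ (a.2 : ℕ) • (a.1 : G) • q₀ = x ^ (b.2 : ℕ) • (b.1 : G) • q₀ ∧ a ≠ b := by
    by_contra hno
    have hinj : Function.Injective (fun a : T × Fin 11 => x ^ (a.2 : ℕ) • (a.1 : G) • q₀) := fun a b h => by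
      by_contra hab
      exact hno ⟨a, b, h, hab⟩
    have := Fintype.card_le_of_injective _ hinj
    rw [Fintype.card_prod, Fintype.card_fin, ← hidx, Fintype.card_eq_nat_card] at this
    omega
  have htt : t ≠ t' := fun h => hne (by
    subst h
    rw [show i = i' from hfree _ _ _ heq])
  set z : G := (t' : G)⁻¹ * t with hz
  have hzT : z ∈ T := mul_mem (inv_mem t'.2) t.2
  have hzx : Commute z x := hT z hzT
  have hzc : ∀ (k : ℕ) (q : G ⧸ H), z • x ^ k • q = x ^ k • z • q := fun k q => by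
    rw [smul_smul, smul_smul, (hzx.pow_right k).eq]
  -- `z` sends `q₀` into its orbit
  obtain ⟨e₀, he₀⟩ : ∃ e : Fin 11, z • q₀ = x ^ (e : ℕ) • q₀ := by
    refine ⟨⟨((i' : ℕ) + (11 - (i : ℕ))) % 11, Nat.mod_lt _ (by norm_num)⟩, ?_⟩
    have h1 := congrArg (fun r => (t' : G)⁻¹ • r) heq
    have ht' : Commute (t' : G)⁻¹ x := (show Commute (t' : G) x from hT _ t'.2).inv_left
    simp only [smul_smul] at h1
    rw [← mul_assoc, ← mul_assoc, (ht'.pow_right _).eq, (ht'.pow_right _).eq, mul_assoc, mul_assoc,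
      inv_mul_cancel, mul_one, mul_smul, ← hz] at h1
    have h2 := congrArg (fun r => x ^ (11 - (i : ℕ)) • r) h1
    simp only [smul_smul, ← mul_assoc, ← pow_add] at h2
    rw [Nat.sub_add_cancel i.2.le, hx11, one_mul] at h2
    show z • q₀ = x ^ (((i' : ℕ) + (11 - (i : ℕ))) % 11) • q₀
    rwa [hmod, add_comm]
  -- hence every point
  have hall : ∀ q : G ⧸ H, ∃ e : ℕ, z • q = x ^ e • q := by
    intro q
    by_cases hq : ∃ i : Fin 11, q = x ^ (i : ℕ) • q₀
    · obtain ⟨i, rfl⟩ := hq
      exact ⟨e₀, by rw [hzc, he₀, smul_smul, smul_smul, ← pow_add, ← pow_add, add_comm]⟩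
    push Not at hq
    let A : Finset (G ⧸ H) := Finset.univ.image fun i : Fin 11 => x ^ (i : ℕ) • q₀
    let B : Finset (G ⧸ H) := Finset.univ.image fun i : Fin 11 => x ^ (i : ℕ) • q
    have hA : A.card = 11 := by
      rw [Finset.card_image_of_injective _ (fun a b h => hfree q₀ a b h), Finset.card_univ, Fintype.card_fin]
    have hB : B.card = 11 := by
      rw [Finset.card_image_of_injective _ (fun a b h => hfree q a b h), Finset.card_univ, Fintype.card_fin]
    have hmem : ∀ k : ℕ, x ^ k • q₀ ∈ A := fun k =>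
      Finset.mem_image.2 ⟨⟨k % 11, Nat.mod_lt _ (by norm_num)⟩, Finset.mem_univ _, by
        show x ^ (k % 11) • q₀ = _
        rw [hmod]⟩
    have hdisj : Disjoint A B := Finset.disjoint_left.2 fun r hrA hrB => by
      obtain ⟨a, -, rfl⟩ := Finset.mem_image.1 hrA
      obtain ⟨b, -, hb⟩ := Finset.mem_image.1 hrB
      have h2 := congrArg (fun r => x ^ (11 - (b : ℕ)) • r) hb
      simp only [smul_smul, ← pow_add] at h2
      rw [Nat.sub_add_cancel b.2.le, hx11, one_smul] at h2
      obtain ⟨i, -, hi⟩ := Finset.mem_image.1 (hmem (11 - (b : ℕ) + (a : ℕ)))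
      exact hq i (h2.trans hi.symm)
    have huniv : A ∪ B = Finset.univ := Finset.eq_univ_of_card _ (le_antisymm (Finset.card_le_univ _)
      (by rw [Finset.card_union_of_disjoint hdisj, hA, hB, ← hidx]; omega))
    rcases Finset.mem_union.1 (huniv ▸ Finset.mem_univ (z • q)) with h | h
    · obtain ⟨a, -, ha⟩ := Finset.mem_image.1 h
      exfalso
      obtain ⟨b, -, hb⟩ := Finset.mem_image.1 (hmem ((a : ℕ) + (11 - (e₀ : ℕ))))
      refine hq b (smul_left_cancel z ?_)
      rw [hzc, he₀, smul_smul, ← pow_add, ← ha]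
      have hb' := congrArg (fun r => x ^ (e₀ : ℕ) • r) hb
      simp only [smul_smul, ← pow_add] at hb'
      rw [show (e₀ : ℕ) + ((a : ℕ) + (11 - (e₀ : ℕ))) = (a : ℕ) + 11 by have := e₀.2; omega, pow_add x (a : ℕ) 11,
        hx11, mul_one] at hb'
      rw [add_comm, hb']
    · obtain ⟨b, -, hb⟩ := Finset.mem_image.1 h
      exact ⟨b, hb.symm⟩
  have hz11 : z ^ 11 = 1 := by
    refine SmallSimple.toPermHom_injective hH (Equiv.ext fun q => ?_)
    rw [map_one, Equiv.Perm.one_apply]
    show (z ^ 11) • q = q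
    obtain ⟨e, he⟩ := hall q
    have hk : ∀ k : ℕ, z ^ k • q = x ^ (k * e) • q := fun k => by
      induction k with
      | zero => simp
      | succ k ih => rw [pow_succ', mul_smul, ih, hzc, he, smul_smul, ← pow_add, Nat.succ_mul]
    rw [hk, pow_mul, hx11, one_pow, one_smul]
  have hz1 : z = 1 := by
    have h1 := orderOf_dvd_of_pow_eq_one hz11
    have h2 : orderOf z ∣ Nat.card T := Subgroup.orderOf_mk z hzT ▸ orderOf_dvd_natCard (⟨z, hzT⟩ : T)
    rcases (Nat.dvd_prime hp.out).1 h1 with h | h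
    · exact orderOf_eq_one_iff.1 h
    · exact absurd (h ▸ h2) hT11
  exact htt (Subtype.ext (inv_mul_eq_one.1 hz1).symm)

/-- A group of order 90 does not have an element of order 5 with normaliser of order 15. -/
theorem false_of_card_ninety (K : Subgroup G) (hK : Nat.card K = 90) {x : G} (hx : orderOf x = 5) (hxK : x ∈ K)
    (h15 : Nat.card (nz x ⊓ K : Subgroup G) = 15) : False := by
  have : Fact (Nat.Prime 2) := ⟨Nat.prime_two⟩
  have : Fact (Nat.Prime 5) := ⟨Nat.prime_five⟩
  obtain ⟨P⟩ : Nonempty (Sylow 2 K) := inferInstance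
  have hP : Nat.card (P : Subgroup K) = 2 := by
    rw [SmallSimple.card_sylow_eq_pow P 1 45 (by rw [hK]; norm_num) (by norm_num), pow_one]
  have hmin : (Nat.card K).minFac = 2 := by rw [hK]; rfl
  have hc := (isCyclic_of_prime_card hP).isComplement' hmin
  set L := (MonoidHom.transferSylow P ((isCyclic_of_prime_card hP).normalizer_le_centralizer hmin)).ker
  have hidx : L.index = 2 := hc.symm.index_eq_card.trans hP
  have hcardL : Nat.card L = 45 := by
    have := L.card_mul_index
    rw [hidx, hK] at this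
    omega
  let L' : Subgroup G := L.map K.subtype
  have hL' : L' ≤ K := Subgroup.map_subtype_le L
  have hcL' : Nat.card L' = 5 * 9 := by
    rw [Nat.card_congr (L.equivMapOfInjective K.subtype K.subtype_injective).toEquiv.symm, hcardL]
  have hxL : x ∈ L' := by
    refine ⟨⟨x, hxK⟩, ?_, rfl⟩
    have h6 : (⟨x, hxK⟩ : K) = ((⟨x, hxK⟩ : K) ^ 3) ^ 2 := Subtype.ext (by
      simp only [SubgroupClass.coe_pow]
      rw [← pow_mul, ← pow_mod_orderOf, hx, show 3 * 2 % 5 = 1 from rfl, pow_one])
    rw [h6]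
    exact Subgroup.sq_mem_of_index_two hidx _
  have h := card_sylow_sub L' hx hxL hcL' (by norm_num)
  have hn : Nat.card (Sylow 5 L') ∈ ({1} : Finset ℕ) := sylow_count_mem hcL' (by norm_num) (by decide)
  rw [Finset.mem_singleton.1 hn, one_mul, hcL'] at h
  have hd : Nat.card (nz x ⊓ L' : Subgroup G) ∣ Nat.card (nz x ⊓ K : Subgroup G) :=
    Subgroup.card_dvd_of_le (inf_le_inf_left _ hL')
  rw [h, h15] at hd
  norm_num at hd

end Cfsg.Agent.M11Order
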