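import Mathlib

/-!
Order 5040: no signed degree and value system for a self-centralising Sylow 7-subgroup with
normaliser of order 42.

A triple `(d, v, a)` is a degree, a value at an element of order 7 and a value at an involution
inverting it.
-/

set_option autoImplicit false

namespace Cfsg.Agent.SmallSimple.No5040

/-- The conditions on a triple. -/
def Ok (d : ℕ) (v a : ℤ) : Prop :=
  2 ≤ d ∧ d ≤ 70 ∧ 5040 % d = 0 ∧ v ≠ 0 ∧ v.natAbs ≤ 2 ∧ a.natAbs ≤ d ∧ ((d : ℤ) - v) % 7 = 0 ∧
    ((d : ℤ) - a) % 4 = 0 ∧ ((d : ℤ) + 6 * v + 7 * a) % 14 = 0 ∧ 7 * a ≤ d + 6 * v ∧ -(7 * a) ≤ d + 6 * v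

instance decOk (d : ℕ) (v a : ℤ) : Decidable (Ok d v a) := by unfold Ok; infer_instance

/-- The possible triples. -/
def cands : List (ℕ × ℤ × ℤ) :=
  [(2, 2, -2), (2, 2, 2), (8, 1, 0), (9, 2, -3), (9, 2, 1), (12, -2, 0), (15, 1, -1), (15, 1, 3), (16, 2, -4),
   (16, 2, 0), (16, 2, 4), (20, -1, 0), (30, 2, -6), (30, 2, -2), (30, 2, 2), (30, 2, 6), (36, 1, -4), (36, 1, 0),
   (36, 1, 4), (40, -2, -4), (40, -2, 0), (40, -2, 4), (48, -1, -4), (48, -1, 0), (48, -1, 4)]

theorem ok_mem_aux : ∀ d ∈ List.range 71, ∀ v ∈ ([-2, -1, 1, 2] : List ℤ), ∀ i ∈ List.range (2 * d + 1),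
    Ok d v ((i : ℤ) - d) → (d, v, (i : ℤ) - d) ∈ cands := by decide +kernel

theorem ok_mem {d : ℕ} {v a : ℤ} (h : Ok d v a) : (d, v, a) ∈ cands := by
  have := ok_mem_aux d (List.mem_range.mpr (by have := h.2.1; omega)) v (by
    obtain ⟨-, -, -, h0, h2, -⟩ := h
    simp only [List.mem_cons, List.not_mem_nil, or_false]
    omega) (a + d).toNat (List.mem_range.mpr (by have := h.2.2.2.2.2.1; omega))
  have e : ((a + d).toNat : ℤ) - d = a := by have := h.2.2.2.2.2.1; omega
  rw [e] at this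
  exact this h

theorem cands_dvd : ∀ c ∈ cands, c.1 ∣ 720 ∧ c.2.1 ≠ 0 := by decide +kernel

/-- The weight of a triple in the class multiplication equation, times 720. -/
def kTerm (c : ℕ × ℤ × ℤ) : ℤ := ((720 / c.1 : ℕ) : ℤ) * c.2.1 * (c.2.2 * c.2.2)

/-- `K` is not a square. -/
def notSquare (K : ℤ) : Bool := decide (K < 6400) && (List.range 80).all fun c => decide ((c : ℤ) * c ≠ K)

/-- No completion has linear sums `-1` and a square weight. -/
def search : List (ℕ × ℤ × ℤ) → ℕ → ℤ → ℤ → ℤ → Bool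
  | [], left, sd, sa, K => decide (left ≠ 0) || decide (sd ≠ -1) || decide (sa ≠ -1) || notSquare K
  | h :: t, left, sd, sa, K => (List.range (left / (h.2.1.natAbs * h.2.1.natAbs) + 1)).all fun k =>
      search t (left - k * (h.2.1.natAbs * h.2.1.natAbs)) (sd + k * (h.2.1 * (h.1 : ℤ))) (sa + k * (h.2.1 * h.2.2))
        (K + k * kTerm h)

theorem search_cands : search cands 6 0 0 720 = true := by decide +kernel

theorem search_sound : ∀ (L : List (ℕ × ℤ × ℤ)) (left : ℕ) (sd sa K : ℤ), (∀ c ∈ L, c.2.1 ≠ 0) →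
    search L left sd sa K = true → ∀ s : Multiset (ℕ × ℤ × ℤ), (∀ x ∈ s, x ∈ L) →
      (s.map fun x => x.2.1.natAbs * x.2.1.natAbs).sum = left → sd + (s.map fun x => x.2.1 * (x.1 : ℤ)).sum = -1 →
      sa + (s.map fun x => x.2.1 * x.2.2).sum = -1 → ∀ c : ℕ, K + (s.map kTerm).sum ≠ (c : ℤ) * c := by
  intro L
  induction L with
  | nil =>
    intro left sd sa K _ hS s hs h1 h2 h3 c hc
    have hs0 : s = 0 := Multiset.eq_zero_of_forall_notMem fun x hx => by simpa using hs x hx
    subst hs0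
    simp only [Multiset.map_zero, Multiset.sum_zero, add_zero] at h1 h2 h3 hc
    simp only [search, ← h1, h2, h3, notSquare, Bool.or_eq_true, Bool.and_eq_true, decide_eq_true_eq,
      List.all_eq_true, List.mem_range] at hS
    simp only [ne_eq, not_true_eq_false, false_or] at hS
    refine hS.2 c ?_ hc.symm
    by_contra hc80
    have hle : (80 : ℤ) ≤ c := by omega
    nlinarith [hS.1]
  | cons h t ih =>
    intro left sd sa K hne hS s hs h1 h2 h3 c
    classical
    obtain ⟨k, s', hss, hs'⟩ : ∃ k s', s = Multiset.replicate k h + s' ∧ ∀ x ∈ s', x ∈ t := by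
      refine ⟨_, s.filter (fun x => ¬ x = h),
        (by rw [← Multiset.filter_eq' s h, Multiset.filter_add_not]), fun x hx => ?_⟩
      obtain ⟨hxs, hxh⟩ := Multiset.mem_filter.mp hx
      exact (List.mem_cons.mp (hs x hxs)).resolve_left hxh
    subst hss
    simp only [Multiset.map_add, Multiset.map_replicate, Multiset.sum_add, Multiset.sum_replicate,
      nsmul_eq_mul, smul_eq_mul, Nat.cast_id] at h1 h2 h3 ⊢
    simp only [search, List.all_eq_true, List.mem_range] at hS
    have hw : 0 < h.2.1.natAbs * h.2.1.natAbs := by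
      have := hne h List.mem_cons_self
      exact Nat.mul_pos (by omega) (by omega)
    have hk : k ≤ left / (h.2.1.natAbs * h.2.1.natAbs) := (Nat.le_div_iff_mul_le hw).mpr (by omega)
    have := ih _ _ _ _ (fun x hx => hne x (List.mem_cons_of_mem _ hx)) (hS k (by omega)) s' hs'
      (by omega) (by linarith) (by linarith) c
    intro hc
    exact this (by linarith)

/-- No system of triples solves the three equations. -/
theorem no_system (s : Multiset (ℕ × ℤ × ℤ)) (hs : ∀ x ∈ s, x ∈ cands)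
    (h1 : (s.map fun x => x.2.1.natAbs * x.2.1.natAbs).sum = 6) (h2 : (s.map fun x => x.2.1 * (x.1 : ℤ)).sum = -1)
    (h3 : (s.map fun x => x.2.1 * x.2.2).sum = -1) (c : ℕ) : 720 + (s.map kTerm).sum ≠ (c : ℤ) * c :=
  search_sound cands 6 0 0 720 (fun x hx => (cands_dvd x hx).2) search_cands s hs h1 (by rw [zero_add, h2])
    (by rw [zero_add, h3]) c

end Cfsg.Agent.SmallSimple.No5040
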