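import Cfsg.Agent.Lib.SmallSimple.ExceptionalDegree
import Cfsg.Agent.Lib.SmallSimple.SevenTriples
import Cfsg.Agent.Lib.SmallSimple.No5040Search

/-!
# Order 5040: the normaliser of a Sylow 7-subgroup is not a Frobenius group of order 42

The principal character column at an element `x` of order 7, an inverting involution `u`, and the class
multiplication of `u` with itself at `x` have no common solution.
-/

set_option autoImplicit false
set_option linter.style.haveILetI false
set_option linter.unusedSectionVars false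

open scoped ComplexConjugate commutatorElement

namespace Cfsg.Agent.SmallSimple.No5040

open Cfsg Cfsg.Agent Cfsg.Agent.Char Cfsg.Agent.OddOrder

variable {G : Type*} [Group G] [Finite G]

theorem conj_all {A : Subgroup G} (hA : IsSelfCent A) (hcard : Nat.card A = 7)
    (hN : Nat.card (Subgroup.normalizer (A : Set G)) = 42) {x : G} (hx : x ∈ A) (hx1 : x ≠ 1)
    {y : G} (hy : y ∈ A) (hy1 : y ≠ 1) : IsConj x y := by
  classical
  haveI := Fintype.ofFinite G
  set N := Subgroup.normalizer (A : Set G) with hNdef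
  let f : N → G := fun g => g.1 * x * g.1⁻¹
  let T : Finset G := (Finset.univ.filter fun z => z ∈ A).erase 1
  have hsub : (Finset.univ : Finset N).image f ⊆ T := by
    intro z hz
    obtain ⟨g, -, rfl⟩ := Finset.mem_image.1 hz
    exact Finset.mem_erase.2 ⟨fun h => hx1 (conj_eq_one_iff.1 h), Finset.mem_filter.2
      ⟨Finset.mem_univ _, (Subgroup.mem_normalizer_iff.1 g.2 x).1 hx⟩⟩
  have hTc : T.card = 6 := by
    have h7 : (Finset.univ.filter fun z => z ∈ A).card = 7 := by
      rw [← hcard, Nat.card_eq_fintype_card]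
      exact (Fintype.card_of_subtype _ fun z => by simp).symm
    rw [Finset.card_erase_of_mem (by simp [one_mem]), h7]
  have hfib : (Finset.univ : Finset N).card ≤ 7 * ((Finset.univ : Finset N).image f).card := by
    refine Finset.card_le_mul_card_image _ 7 fun z hz => ?_
    obtain ⟨g₀, -, rfl⟩ := Finset.mem_image.1 hz
    rw [← hcard, ← Nat.card_eq_finsetCard]
    refine Nat.card_le_card_of_injective
      (fun g : (Finset.univ.filter fun g : N => f g = f g₀) => (⟨g₀.1⁻¹ * g.1.1, ?_⟩ : A))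
      fun a b e => Subtype.ext (Subtype.ext (mul_left_cancel (congrArg Subtype.val e)))
    rw [← hA x hx hx1, Subgroup.mem_centralizer_singleton_iff]
    have h : g.1.1 * x * g.1.1⁻¹ = g₀.1 * x * g₀.1⁻¹ := (Finset.mem_filter.1 g.2).2
    calc g₀.1⁻¹ * g.1.1 * x = g₀.1⁻¹ * (g.1.1 * x * g.1.1⁻¹) * g.1.1 := by group
      _ = x * (g₀.1⁻¹ * g.1.1) := by rw [h]; group
  rw [Finset.card_univ, ← Nat.card_eq_fintype_card, hN] at hfib
  have heq := Finset.eq_of_subset_of_card_le hsub (by omega)
  have hyT : y ∈ (Finset.univ : Finset N).image f := by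
    rw [heq]; exact Finset.mem_erase.2 ⟨hy1, Finset.mem_filter.2 ⟨Finset.mem_univ _, hy⟩⟩
  obtain ⟨g, -, hg⟩ := Finset.mem_image.1 hyT
  exact isConj_iff.2 ⟨g.1, hg⟩

variable [IsSimpleGroup G]

/-- The normaliser of a self-centralising subgroup of order 7 does not have order 42. -/
theorem false_of_frobenius (hG : ¬ IsMulCommutative G) (hn : Nat.card G = 5040) {A : Subgroup G}
    (hA : IsSelfCent A) (hcard : Nat.card A = 7) (hN : Nat.card (Subgroup.normalizer (A : Set G)) = 42) :
    False := by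
  classical
  haveI := Fintype.ofFinite G
  haveI : Fact (Nat.Prime 7) := ⟨by norm_num⟩
  haveI : Fact (Nat.Prime 2) := ⟨Nat.prime_two⟩
  have hperf : commutator G = ⊤ := by
    rcases (inferInstance : (commutator G).Normal).eq_bot_or_eq_top with h | h
    · refine absurd (isMulCommutative_iff.2 fun a b => ?_) hG
      have h1 : ⁅a, b⁆ ∈ (⊥ : Subgroup G) :=
        h ▸ Subgroup.commutator_mem_commutator (Subgroup.mem_top a) (Subgroup.mem_top b)
      exact commutatorElement_eq_one_iff_mul_comm.1 (Subgroup.mem_bot.1 h1)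
    · exact h
  obtain ⟨x', hx'⟩ : ∃ x : A, x ≠ 1 := by
    haveI : Nontrivial A := Finite.one_lt_card_iff_nontrivial.1 (by omega)
    exact exists_ne 1
  set x : G := (x' : G)
  have hx : x ∈ A := x'.2
  have hx1 : x ≠ 1 := fun h => hx' (Subtype.ext h)
  have hAord : ∀ y ∈ A, y ≠ 1 → orderOf y = 7 := fun y hy hy1 => by
    rcases (Nat.dvd_prime (by norm_num : Nat.Prime 7)).1 (hcard ▸ Subgroup.orderOf_dvd_natCard _ hy) with h | h
    · exact absurd (orderOf_eq_one_iff.1 h) hy1
    · exact h
  have hx7 : x ^ 7 = 1 := by rw [← hAord x hx hx1, pow_orderOf_eq_one]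
  -- the inverting involution
  obtain ⟨u', hu'⟩ := exists_prime_orderOf_dvd_card' (G := Subgroup.normalizer (A : Set G)) 2
    (by rw [hN]; norm_num)
  set u : G := (u' : G)
  have huo : orderOf u = 2 := by rw [← hu', Subgroup.orderOf_coe]
  have hu2 : u * u = 1 := by rw [← sq, ← huo, pow_orderOf_eq_one]
  have hinv : u * x * u⁻¹ = x⁻¹ := by
    have hy : u * x * u⁻¹ ∈ A := (Subgroup.mem_normalizer_iff.1 u'.2 x).1 hx
    set y := u * x * u⁻¹ with hydef
    have huy : u * y * u⁻¹ = x := by
      rw [hydef, show u * (u * x * u⁻¹) * u⁻¹ = (u * u) * x * (u * u)⁻¹ by group, hu2]; group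
    have hxy : u * (x * y) = x * y * u := by
      have h : u * (x * y) * u⁻¹ = x * y := by
        rw [show u * (x * y) * u⁻¹ = (u * x * u⁻¹) * (u * y * u⁻¹) by group, huy, ← hydef,
          hA.comm hy hx]
      exact mul_inv_eq_iff_eq_mul.1 h
    by_contra hne
    have huA := (hA (x * y) (mul_mem hx hy) fun h => hne (eq_inv_of_mul_eq_one_right h)).le
      (Subgroup.mem_centralizer_singleton_iff.2 hxy)
    have := hAord u huA fun h => by rw [h, orderOf_one] at huo; omega
    omega
  have hconst : ∀ (χ : IrrCharacter G) (i : ℕ), ¬ 7 ∣ i → χ.1 (x ^ i) = χ.1 x := fun χ i hi =>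
    (Char.IsClassFunction.apply_of_isConj (Char.IsCharacter.isClassFunction (Char.irr_isCharacter χ))
      (conj_all hA hcard hN hx hx1 (pow_mem hx i)
        fun h => hi (hAord x hx hx1 ▸ orderOf_dvd_of_pow_eq_one h))).symm
  -- values
  have hval : ∀ χ : IrrCharacter G, ∃ v a : ℤ, χ.1 x = v ∧ χ.1 u = a ∧ ((degree χ : ℤ) - a) % 4 = 0 ∧
      a.natAbs ≤ degree χ ∧ ((degree χ : ℤ) + 6 * v + 7 * a) % 14 = 0 ∧
      7 * a ≤ degree χ + 6 * v ∧ -(7 * a) ≤ degree χ + 6 * v := fun χ => by
    obtain ⟨a, ha, h4, hle⟩ := InvVal.four_dvd_degree_sub hperf hu2 χ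
    obtain ⟨M₁, hM₁⟩ := InvVal.exists_restriction (p := 7) (by norm_num) hx7 hu2 hinv χ
      (hconst χ) ha (Or.inl rfl)
    obtain ⟨M₂, hM₂⟩ := InvVal.exists_restriction (p := 7) (by norm_num) hx7 hu2 hinv χ
      (hconst χ) ha (Or.inr rfl)
    rw [apply_one_eq_degree] at hM₁ hM₂
    push_cast at hM₁ hM₂
    have hq : χ.1 x = ((((7 : ℚ) * (M₁ + M₂) - degree χ) / 6 : ℚ) : ℂ) := by
      push_cast
      linear_combination (1 / 12 : ℂ) * hM₁ + (1 / 12 : ℂ) * hM₂
    have hi := CharInt.isIntegral_char (irr_isCharacter χ) x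
    rw [hq] at hi
    have hqi : IsIntegral ℤ (((7 : ℚ) * (M₁ + M₂) - degree χ) / 6) := by
      rw [show ((((7 : ℚ) * (M₁ + M₂) - degree χ) / 6 : ℚ) : ℂ) =
        algebraMap ℚ ℂ (((7 : ℚ) * (M₁ + M₂) - degree χ) / 6) from (eq_ratCast _ _).symm] at hi
      exact (isIntegral_algebraMap_iff (algebraMap ℚ ℂ).injective).1 hi
    obtain ⟨v, hv⟩ := IsIntegrallyClosed.isIntegral_iff.1 hqi
    have hxv : χ.1 x = (v : ℂ) := by rw [hq, ← hv]; simp
    rw [hxv] at hM₁ hM₂
    have h1 : (degree χ : ℤ) + 6 * v + 7 * a = 14 * M₁ := by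
      apply Int.cast_injective (α := ℂ); push_cast; linear_combination hM₁
    have h2 : (degree χ : ℤ) + 6 * v - 7 * a = 14 * M₂ := by
      apply Int.cast_injective (α := ℂ); push_cast; linear_combination hM₂
    exact ⟨v, a, hxv, ha, Int.emod_eq_zero_of_dvd h4, hle, by omega, by omega, by omega⟩
  choose v a hv ha h4 hle h14 hpos hneg using hval
  -- column relations
  have hCx : Nat.card (Subgroup.centralizer ({x} : Set G)) = 7 := by rw [hA x hx hx1, hcard]
  have hsq : ∑ χ : IrrCharacter G, v χ * v χ = 7 := by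
    have h := sum_irr_mul_conj x x
    rw [if_pos (IsConj.refl _), hCx] at h
    apply Int.cast_injective (α := ℂ)
    push_cast at h ⊢
    rw [← h]
    exact Finset.sum_congr rfl fun χ _ => by rw [hv, map_intCast]
  have hdeg : ∑ χ : IrrCharacter G, v χ * (degree χ : ℤ) = 0 := by
    have h := sum_irr_degree_mul (G := G) x
    rw [if_neg hx1] at h
    apply Int.cast_injective (α := ℂ)
    push_cast
    rw [← h]
    exact Finset.sum_congr rfl fun χ _ => by rw [hv, apply_one_eq_degree]; ring
  have hnc : ¬ IsConj u x := fun h => by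
    obtain ⟨g, hg⟩ := isConj_iff.1 h
    have h7 := hAord x hx hx1
    rw [← hg, ← MulAut.conj_apply, MulEquiv.orderOf_eq, huo] at h7
    omega
  have hcol : ∑ χ : IrrCharacter G, v χ * a χ = 0 := by
    have h := sum_irr_mul_conj u x
    rw [if_neg hnc] at h
    apply Int.cast_injective (α := ℂ)
    push_cast
    rw [← h]
    exact Finset.sum_congr rfl fun χ _ => by rw [hv, ha, map_intCast]; ring
  set c := Nat.card (Subgroup.centralizer ({u} : Set G)) with hc
  have hcls : (Nat.card G : ℂ) * ∑ χ : IrrCharacter G, (v χ : ℂ) * ((a χ : ℂ) * a χ / degree χ) =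
      ((c ^ 2 * 7 : ℕ) : ℂ) := by
    rw [hc, ← card_inverting_pairs (p := 7) (by norm_num) hA hcard hx hx1 hu2 hinv, Finset.mul_sum,
      Finset.sum_congr rfl fun ψ _ => show (Nat.card G : ℂ) * ((v ψ : ℂ) * ((a ψ : ℂ) * a ψ / degree ψ)) =
        ∑ y : G, ψ.1 (u * (y * u * y⁻¹)) * conj (ψ.1 x) by
          rw [← Finset.sum_mul, BlockCount.mul_eq_sum_conj ψ.2, hv, ha, map_intCast, apply_one_eq_degree]
          ring,
      Finset.sum_comm, Finset.sum_congr rfl fun y _ => sum_irr_mul_conj (u * (y * u * y⁻¹)) x, hCx]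
    simp [Finset.sum_ite, Fintype.card_subtype, Nat.card_eq_fintype_card, x]
  -- restrict to the non-trivial characters with non-zero value
  set one := trivialChar G with hone
  have hv1 : v one = 1 := by
    have := hv one; rw [hone, trivialChar_apply] at this; exact_mod_cast this.symm
  have ha1 : a one = 1 := by
    have := ha one; rw [hone, trivialChar_apply] at this; exact_mod_cast this.symm
  have hd1 : degree one = 1 := by
    apply Nat.cast_injective (R := ℂ)
    rw [← apply_one_eq_degree, hone, trivialChar_apply, Nat.cast_one]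
  set T := (Finset.univ.erase one).filter (fun χ => v χ ≠ 0) with hT
  have hsum : ∀ F : IrrCharacter G → ℂ, (∀ χ, v χ = 0 → F χ = 0) → ∑ χ, F χ = F one + ∑ χ ∈ T, F χ := by
    intro F hF
    rw [← Finset.add_sum_erase _ _ (Finset.mem_univ one), hT,
      Finset.sum_filter_of_ne (p := fun χ => v χ ≠ 0) fun χ _ h h0 => h (hF χ h0)]
  have hT2 : ∑ χ ∈ T, v χ * v χ = 6 := by
    have h : ((∑ χ : IrrCharacter G, v χ * v χ : ℤ) : ℂ) = 7 := by rw [hsq]; norm_num
    push_cast at h
    rw [hsum (fun χ => (v χ : ℂ) * v χ) (fun χ h0 => by simp [h0]), hv1] at h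
    apply Int.cast_injective (α := ℂ)
    push_cast at h ⊢
    linear_combination h
  have hTd : ∑ χ ∈ T, v χ * (degree χ : ℤ) = -1 := by
    have h : ((∑ χ : IrrCharacter G, v χ * (degree χ : ℤ) : ℤ) : ℂ) = 0 := by rw [hdeg]; norm_num
    push_cast at h
    rw [hsum (fun χ => (v χ : ℂ) * degree χ) (fun χ h0 => by simp [h0]), hv1, hd1] at h
    apply Int.cast_injective (α := ℂ)
    push_cast at h ⊢
    linear_combination h
  have hTa : ∑ χ ∈ T, v χ * a χ = -1 := by
    have h : ((∑ χ : IrrCharacter G, v χ * a χ : ℤ) : ℂ) = 0 := by rw [hcol]; norm_num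
    push_cast at h
    rw [hsum (fun χ => (v χ : ℂ) * a χ) (fun χ h0 => by simp [h0]), hv1, ha1] at h
    apply Int.cast_injective (α := ℂ)
    push_cast at h ⊢
    linear_combination h
  have hok : ∀ χ ∈ T, Ok (degree χ) (v χ) (a χ) := fun χ hχ => by
    obtain ⟨h1, h0⟩ := Finset.mem_filter.1 hχ
    have hne := (Finset.mem_erase.1 h1).1
    have h2 : 2 ≤ degree χ := by
      have := degree_pos χ
      by_contra hc'
      exact hne (eq_trivialChar_of_degree_one hG _ (by
        rw [apply_one_eq_degree, show degree χ = 1 by omega, Nat.cast_one]))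
    have h70 : degree χ ≤ 70 := by
      have h := sum_degree_sq (G := G)
      rw [hn, ← Finset.add_sum_erase _ _ (Finset.mem_univ χ)] at h
      have hone' : 1 ≤ ∑ ψ ∈ Finset.univ.erase χ, degree ψ ^ 2 := by
        refine le_trans (le_of_eq ?_) (Finset.single_le_sum (fun ψ _ => Nat.zero_le (degree ψ ^ 2))
          (Finset.mem_erase.2 ⟨fun h => hne h.symm, Finset.mem_univ one⟩))
        rw [hd1, one_pow]
      by_contra hc'
      have : 71 ^ 2 ≤ degree χ ^ 2 := Nat.pow_le_pow_left (by omega) 2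
      omega
    have hvb : (v χ).natAbs ≤ 2 := by
      have hle6 : v χ * v χ ≤ 6 := by
        rw [← hT2]
        exact Finset.single_le_sum (fun ψ _ => mul_self_nonneg (v ψ)) hχ
      have h2' : v χ ≤ 2 := by
        by_contra hc'
        nlinarith [show (3 : ℤ) ≤ v χ by omega]
      have h2'' : -2 ≤ v χ := by
        by_contra hc'
        nlinarith [show v χ ≤ -3 by omega]
      omega
    have hdvd : degree χ ∣ 5040 := hn ▸ degree_dvd_natCard χ
    refine ⟨h2, h70, Nat.mod_eq_zero_of_dvd hdvd, h0, hvb, hle χ, ?_, h4 χ, h14 χ, hpos χ, hneg χ⟩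
    have := h14 χ; omega
  let sT : Multiset (ℕ × ℤ × ℤ) := T.val.map fun χ => (degree χ, v χ, a χ)
  have hmap : ∀ {M : Type} [AddCommMonoid M] (F : ℕ × ℤ × ℤ → M),
      (sT.map F).sum = ∑ χ ∈ T, F (degree χ, v χ, a χ) := fun {M} _ F => by
    rw [Finset.sum_eq_multiset_sum, Multiset.map_map]; rfl
  have hk : (720 : ℤ) + (sT.map kTerm).sum = (c : ℤ) * c := by
    rw [hmap]
    rw [hn, hsum _ (fun χ h0 => by simp [h0]), hv1, ha1, hd1] at hcls
    have hterm : ∀ χ ∈ T, (720 : ℂ) * ((v χ : ℂ) * ((a χ : ℂ) * a χ / degree χ)) =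
        ((kTerm (degree χ, v χ, a χ) : ℤ) : ℂ) := fun χ hχ => by
      obtain ⟨q, hq⟩ := (cands_dvd _ (ok_mem (hok χ hχ))).1
      have hd0 : (degree χ : ℂ) ≠ 0 := Nat.cast_ne_zero.2 (degree_pos χ).ne'
      dsimp only [kTerm] at hq ⊢
      rw [hq, Nat.mul_div_cancel_left _ (degree_pos χ),
        show (720 : ℂ) = (degree χ : ℂ) * q by exact_mod_cast congrArg (fun n : ℕ => (n : ℂ)) hq]
      push_cast
      field_simp
    apply Int.cast_injective (α := ℂ)
    push_cast at hcls ⊢
    rw [← Finset.sum_congr rfl hterm, ← Finset.mul_sum]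
    linear_combination hcls / 7
  refine no_system sT ?_ ?_ ?_ ?_ c hk
  · intro z hz
    obtain ⟨χ, hχ, rfl⟩ := Multiset.mem_map.1 hz
    exact ok_mem (hok χ hχ)
  · rw [hmap]
    apply Int.ofNat_inj.1
    push_cast
    rw [← hT2]
    exact Finset.sum_congr rfl fun χ _ => abs_mul_abs_self (v χ)
  · rw [hmap]; exact hTd
  · rw [hmap]; exact hTa

end Cfsg.Agent.SmallSimple.No5040
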