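import Cfsg.Agent.Lib.SmallSimple.Order168Two
import Cfsg.Agent.S1012

/-!
# Simple groups of order 168: Klein four-subgroups and maximal subgroups
-/

set_option autoImplicit false

namespace Cfsg.Agent.SmallSimple.Simple168

open MulAction Subgroup

universe u

variable {G : Type u} [Group G] [Finite G]

theorem klein_normal_in_two {K : Subgroup G} {D : Subgroup G} (hle : D ≤ K)
    (hidx : Nat.card K = 2 * Nat.card D) : K ≤ normalizer (D : Set G) := by
  refine (normal_subgroupOf_iff_le_normalizer hle).mp (normal_of_index_eq_two ?_)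
  have h1 := card_mul_index (D.subgroupOf K)
  rw [Nat.card_congr (subgroupOfEquivOfLe hle).toEquiv, hidx] at h1
  exact Nat.eq_of_mul_eq_mul_left Nat.card_pos (h1.trans (mul_comm _ _))

variable [Fact (Nat.Prime 2)] (h : Simple168 G)

/-- The four-element set generated by two commuting involutions, as a subgroup. -/
def fourOf (z a : G) (hz : z * z = 1) (ha : a * a = 1) (hc : a * z = z * a) : Subgroup G where
  carrier := {1, z, a, a * z}
  one_mem' := by simp
  mul_mem' := by
    have hz' : ∀ w, z * (z * w) = w := fun w => by rw [← mul_assoc, hz, one_mul]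
    have ha' : ∀ w, a * (a * w) = w := fun w => by rw [← mul_assoc, ha, one_mul]
    have hc' : z * a = a * z := hc.symm
    have hc'' : ∀ w, z * (a * w) = a * (z * w) := fun w => by rw [← mul_assoc, hc', mul_assoc]
    intro x y hx hy
    simp only [Set.mem_insert_iff, Set.mem_singleton_iff] at hx hy ⊢
    rcases hx with rfl | rfl | rfl | rfl <;> rcases hy with rfl | rfl | rfl | rfl <;>
      simp [mul_assoc, hz, ha, hz', ha', hc', hc'']
  inv_mem' := by
    intro x hx
    simp only [Set.mem_insert_iff, Set.mem_singleton_iff] at hx ⊢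
    rcases hx with rfl | rfl | rfl | rfl
    · simp
    · exact Or.inr (Or.inl (inv_eq_of_mul_eq_one_right hz))
    · exact Or.inr (Or.inr (Or.inl (inv_eq_of_mul_eq_one_right ha)))
    · refine Or.inr (Or.inr (Or.inr (inv_eq_of_mul_eq_one_right ?_)))
      calc a * z * (a * z) = a * (z * a) * z := by group
        _ = a * (a * z) * z := by rw [hc]
        _ = a * a * (z * z) := by group
        _ = 1 := by rw [ha, hz, one_mul]

theorem mem_fourOf {z a : G} {hz : z * z = 1} {ha : a * a = 1} {hc : a * z = z * a} {x : G} :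
    x ∈ fourOf z a hz ha hc ↔ x = 1 ∨ x = z ∨ x = a ∨ x = a * z := Iff.rfl

theorem fourOf_klein {z a : G} (hz : z * z = 1) (ha : a * a = 1) (hc : a * z = z * a)
    (hz1 : z ≠ 1) (ha1 : a ≠ 1) (haz : a ≠ z) : IsKleinFour (fourOf z a hz ha hc) := by
  have hcard : Nat.card (fourOf z a hz ha hc) = 4 := by
    classical
    rw [← SetLike.coe_sort_coe, Nat.card_coe_set_eq]
    show ({1, z, a, a * z} : Set G).ncard = 4
    have h1 : a * z ≠ 1 := fun hh => haz (by
      rw [← mul_one a, ← hz, ← mul_assoc, hh, one_mul])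
    have h2 : a * z ≠ z := fun hh => ha1 (by simpa using hh)
    have h3 : a * z ≠ a := fun hh => hz1 (by simpa using hh)
    rw [Set.ncard_insert_of_notMem (by simp [hz1.symm, ha1.symm, h1.symm]),
      Set.ncard_insert_of_notMem (by simp [haz.symm, h2.symm]), Set.ncard_pair h3.symm]
  refine ⟨hcard, ?_⟩
  have hsq : ∀ x : fourOf z a hz ha hc, x ^ 2 = 1 := by
    rintro ⟨x, hx⟩
    apply Subtype.ext
    show x ^ 2 = 1
    rw [pow_two]
    rcases mem_fourOf.mp hx with rfl | rfl | rfl | rfl
    · simp
    · exact hz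
    · exact ha
    · calc a * z * (a * z) = a * (z * a) * z := by group
        _ = a * (a * z) * z := by rw [hc]
        _ = a * a * (z * z) := by group
        _ = 1 := by rw [ha, hz, one_mul]
  refine Nat.dvd_antisymm (Monoid.exponent_dvd_of_forall_pow_eq_one hsq) ?_
  rcases (Nat.dvd_prime Nat.prime_two).mp (Monoid.exponent_dvd_of_forall_pow_eq_one hsq) with h1 | h1
  · rw [Monoid.exp_eq_one_iff] at h1
    exact absurd (congrArg Subtype.val (Subsingleton.elim
      (⟨z, mem_fourOf.mpr (Or.inr (Or.inl rfl))⟩ : fourOf z a hz ha hc) 1)) hz1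
  · rw [h1]

theorem klein_sq {U : Subgroup G} (hU : IsKleinFour U) {x : G} (hx : x ∈ U) : x * x = 1 :=
  congrArg Subtype.val (IsKleinFour.mul_self (⟨x, hx⟩ : U))

include h in
/-- The two Klein four-subgroups of a Sylow 2-subgroup. -/
theorem klein_pair (T : Sylow 2 G) : ∃ U W : Subgroup G, U ≠ W ∧ IsKleinFour U ∧ IsKleinFour W ∧
    U ≤ T ∧ W ≤ T ∧ (∀ V : Subgroup G, V ≤ T → IsKleinFour V → V = U ∨ V = W) := by
  obtain ⟨g, s, hgT, hsT, hg, hs, hsg, hinv⟩ := h.dihedral_pair T
  obtain ⟨hz, hcen⟩ := h.sq_central T hgT hg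
  have hg4 : g ^ 4 = 1 := by rw [← hg, pow_orderOf_eq_one]
  have hzz : g ^ 2 * g ^ 2 = 1 := by rw [← pow_add, hg4]
  have hss : s * s = 1 := by rw [← pow_two, ← hs, pow_orderOf_eq_one]
  have hz1 : g ^ 2 ≠ 1 := fun hc => by rw [hc, orderOf_one] at hz; omega
  have hgsg : g * s * g = s := by
    have h1 : s * g = g⁻¹ * s := mul_inv_eq_iff_eq_mul.mp hinv
    rw [mul_assoc, h1, mul_inv_cancel_left]
  have hsgs : s * g * (s * g) = 1 := by
    calc s * g * (s * g) = s * (g * s * g) := by group
      _ = 1 := by rw [hgsg, hss]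
  have hsgT : s * g ∈ (T : Subgroup G) := mul_mem hsT hgT
  have hsgg : s * g ∉ zpowers g := fun hc => hsg (by
    simpa using mul_mem hc (inv_mem (mem_zpowers g)))
  have hne : ∀ x, x ∉ zpowers g → x ≠ 1 ∧ x ≠ g ^ 2 := fun x hx =>
    ⟨fun hc => hx (hc ▸ one_mem _), fun hc => hx (hc ▸ pow_mem (mem_zpowers g) 2)⟩
  let U := fourOf (g ^ 2) s hzz hss (hcen s hsT)
  let W := fourOf (g ^ 2) (s * g) hzz hsgs (hcen _ hsgT)
  have hU : IsKleinFour U := fourOf_klein _ _ _ hz1 (hne s hsg).1 (hne s hsg).2
  have hW : IsKleinFour W := fourOf_klein _ _ _ hz1 (hne _ hsgg).1 (hne _ hsgg).2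
  refine ⟨U, W, fun hUW => ?_, hU, hW, ?_, ?_, fun V hVT hV => ?_⟩
  · have hsW : s ∈ W := hUW ▸ mem_fourOf.mpr (Or.inr (Or.inr (Or.inl rfl)))
    rcases mem_fourOf.mp hsW with h1 | h1 | h1 | h1
    · exact (hne s hsg).1 h1
    · exact (hne s hsg).2 h1
    · rw [left_eq_mul] at h1
      rw [h1, orderOf_one] at hg; omega
    · rw [mul_assoc, left_eq_mul, ← pow_succ'] at h1
      have := orderOf_dvd_of_pow_eq_one h1
      rw [hg] at this
      norm_num at this
  · intro x hx
    rcases mem_fourOf.mp hx with rfl | rfl | rfl | rfl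
    exacts [one_mem _, pow_mem hgT 2, hsT, mul_mem hsT (pow_mem hgT 2)]
  · intro x hx
    rcases mem_fourOf.mp hx with rfl | rfl | rfl | rfl
    exacts [one_mem _, pow_mem hgT 2, hsgT, mul_mem hsgT (pow_mem hgT 2)]
  -- classify a Klein subgroup of T
  · have hpow : ∀ x ∈ zpowers g, x * x = 1 → x = 1 ∨ x = g ^ 2 := by
      intro x hx hx2
      obtain ⟨i, rfl⟩ := mem_zpowers_iff.mp hx
      rw [← zpow_add, ← orderOf_dvd_iff_zpow_eq_one, hg] at hx2
      obtain ⟨j, hj⟩ : ∃ j, i = 4 * j ∨ i = 4 * j + 2 := ⟨i / 4, by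
        have h2 : (4 : ℤ) ∣ i + i := by exact_mod_cast hx2
        omega⟩
      have h4 : g ^ (4 : ℤ) = 1 := by
        rw [show (4 : ℤ) = ((4 : ℕ) : ℤ) by norm_num, zpow_natCast, hg4]
      rcases hj with rfl | rfl
      · exact Or.inl (by rw [zpow_mul, h4, one_zpow])
      · exact Or.inr (by rw [zpow_add, zpow_mul, h4, one_zpow, one_mul]; exact zpow_natCast g 2)
    -- V contains an element outside ⟨g⟩
    obtain ⟨y, hyV, hyg⟩ : ∃ y ∈ V, y ∉ zpowers g := by
      by_contra hc
      push Not at hc
      have heq : V = zpowers g := eq_of_le_of_card_ge hc (by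
        rw [hV.card_four, Nat.card_zpowers, hg])
      have := klein_sq hV (heq ▸ mem_zpowers g : g ∈ V)
      exact hz1 (by rw [pow_two, this])
    obtain ⟨i, hi⟩ := mem_zpowers_iff.mp ((h.two_cosets T hgT hg hsT hsg (hVT hyV)).resolve_left hyg)
    have hy : y = s * g ^ i := by rw [hi, mul_inv_cancel_left]
    -- y lies in U or W
    have hyUW : y ∈ U ∨ y ∈ W := by
      obtain ⟨j, hj⟩ : ∃ j, i = 4 * j ∨ i = 4 * j + 1 ∨ i = 4 * j + 2 ∨ i = 4 * j + 3 := ⟨i / 4, by omega⟩
      have h4 : g ^ (4 : ℤ) = 1 := by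
        rw [show (4 : ℤ) = ((4 : ℕ) : ℤ) by norm_num, zpow_natCast, hg4]
      rcases hj with rfl | rfl | rfl | rfl <;> rw [hy]
      · exact Or.inl (mem_fourOf.mpr (Or.inr (Or.inr (Or.inl (by rw [zpow_mul, h4, one_zpow, mul_one])))))
      · exact Or.inr (mem_fourOf.mpr (Or.inr (Or.inr (Or.inl (by
          rw [zpow_add, zpow_mul, h4, one_zpow, one_mul, zpow_one])))))
      · exact Or.inl (mem_fourOf.mpr (Or.inr (Or.inr (Or.inr (by
          rw [zpow_add, zpow_mul, h4, one_zpow, one_mul]; exact congrArg _ (zpow_natCast g 2))))))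
      · exact Or.inr (mem_fourOf.mpr (Or.inr (Or.inr (Or.inr (by
          rw [zpow_add, zpow_mul, h4, one_zpow, one_mul, mul_assoc, ← pow_succ']
          exact congrArg _ (zpow_natCast g 3))))))
    -- V contains g²: otherwise T would be elementary
    have hzV : g ^ 2 ∈ V := by
      by_contra hzV
      -- the element y * v lies in ⟨g⟩ for every v ∈ V outside ⟨g⟩
      have hsub : ∀ v ∈ V, v = 1 ∨ v = y := by
        intro v hv
        by_cases hvg : v ∈ zpowers g
        · rcases hpow v hvg (klein_sq hV hv) with h1 | h1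
          · exact Or.inl h1
          · exact absurd (h1 ▸ hv) hzV
        · have h1 := (h.two_cosets T hgT hg hsT hsg (hVT hv)).resolve_left hvg
          have h2 := mul_mem (inv_mem (mem_zpowers_iff.mpr ⟨i, hi⟩ : s⁻¹ * y ∈ zpowers g)) h1
          rw [mul_inv_rev, inv_inv, mul_assoc, mul_inv_cancel_left] at h2
          rcases hpow _ h2 (klein_sq hV (mul_mem (inv_mem hyV) hv)) with h3 | h3
          · exact Or.inr (inv_mul_eq_one.mp h3).symm
          · exact absurd (h3 ▸ mul_mem (inv_mem hyV) hv) hzV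
      have hc : Nat.card V ≤ 2 := by
        rw [← SetLike.coe_sort_coe, Nat.card_coe_set_eq]
        refine (Set.ncard_le_ncard (fun v hv => ?_) (Set.toFinite ({1, y} : Set G))).trans ?_
        · simpa using hsub v hv
        · exact (Set.ncard_insert_le _ _).trans (by simp)
      rw [hV.card_four] at hc
      omega
    rcases hyUW with hy' | hy'
    · left
      refine (eq_of_le_of_card_ge ?_ (by rw [hU.card_four, hV.card_four])).symm
      intro x hx
      rcases mem_fourOf.mp hy' with h1 | h1 | h1 | h1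
      · exact absurd (h1 ▸ one_mem _) hyg
      · exact absurd (h1 ▸ pow_mem (mem_zpowers g) 2) hyg
      all_goals
        rcases mem_fourOf.mp hx with rfl | rfl | rfl | rfl
        · exact one_mem _
        · exact hzV
      · exact h1 ▸ hyV
      · exact mul_mem (h1 ▸ hyV) hzV
      · have := mul_mem hyV hzV
        rwa [h1, mul_assoc, hzz, mul_one] at this
      · exact h1 ▸ hyV
    · right
      refine (eq_of_le_of_card_ge ?_ (by rw [hW.card_four, hV.card_four])).symm
      intro x hx
      rcases mem_fourOf.mp hy' with h1 | h1 | h1 | h1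
      · exact absurd (h1 ▸ one_mem _) hyg
      · exact absurd (h1 ▸ pow_mem (mem_zpowers g) 2) hyg
      all_goals
        rcases mem_fourOf.mp hx with rfl | rfl | rfl | rfl
        · exact one_mem _
        · exact hzV
      · exact h1 ▸ hyV
      · exact mul_mem (h1 ▸ hyV) hzV
      · have := mul_mem hyV hzV
        rwa [h1, mul_assoc _ (g ^ 2), hzz, mul_one] at this
      · exact h1 ▸ hyV

include h in
theorem sylow_le_normalizer_klein (T : Sylow 2 G) {U : Subgroup G} (hU : IsKleinFour U)
    (hUT : U ≤ T) : (T : Subgroup G) ≤ normalizer (U : Set G) :=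
  klein_normal_in_two hUT (by rw [h.card2 T, hU.card_four])

include h in
theorem klein_not_conj (T : Sylow 2 G) {U W : Subgroup G} (hU : IsKleinFour U) (hW : IsKleinFour W)
    (hUT : U ≤ T) (hWT : W ≤ T) {g : G} (he : U.map (MulAut.conj g).toMonoidHom = W) : U = W := by
  have h1 := h.sylow_le_normalizer_klein T hU hUT
  have h2 := h.sylow_le_normalizer_klein T hW hWT
  have h3 : ((g • T : Sylow 2 G) : Subgroup G) ≤ normalizer (W : Set G) := by
    refine h.sylow_le_normalizer_klein _ hW ?_
    rw [← he, Sylow.coe_subgroup_smul]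
    exact map_mono hUT
  obtain ⟨⟨m, hm⟩, hmT⟩ := MulAction.exists_smul_eq (normalizer (W : Set G)) ((g • T).subtype h3) (T.subtype h2)
  have h4 : (m * g) • T = T := by
    rw [Sylow.smul_subtype] at hmT
    rw [mul_smul]
    exact Sylow.subtype_injective hmT
  have h5 : m * g ∈ (T : Subgroup G) := by
    have := Sylow.smul_eq_iff_mem_normalizer.mp h4
    rw [← h.normalizer_two T]
    exact this
  have h6 : U.map (MulAut.conj (m * g)).toMonoidHom = U := mem_normalizer_iff_map_conj_eq.mp (h1 h5)
  have h7 : U.map (MulAut.conj (m * g)).toMonoidHom = W := by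
    have : (MulAut.conj (m * g)).toMonoidHom = (MulAut.conj m).toMonoidHom.comp (MulAut.conj g).toMonoidHom := by
      ext x; simp [mul_assoc]
    rw [this, ← map_map, he]
    exact mem_normalizer_iff_map_conj_eq.mp hm
  rw [← h6, h7]

include h in
theorem card_normalizer_klein {U : Subgroup G} (hU : IsKleinFour U) :
    Nat.card (normalizer (U : Set G)) = 24 := by
  have := h.simple
  obtain ⟨T, hUT⟩ := (IsPGroup.of_card (p := 2) (n := 2) (G := U) (by rw [hU.card_four]; norm_num)).exists_le_sylow
  -- U contains an involution which is not central in T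
  obtain ⟨a, haU, ha1, hnc⟩ : ∃ a ∈ U, a ≠ 1 ∧ ¬ ∀ t ∈ (T : Subgroup G), t * a = a * t := by
    by_contra hc
    push Not at hc
    apply h.not_comm T
    obtain ⟨g, hgT, hg⟩ := h.exists_four T
    -- U is central, so T = U⟨g⟩ is abelian
    have hgU : g ∉ U := fun hh => by
      have := klein_sq hU hh
      rw [← pow_two] at this
      have := orderOf_dvd_of_pow_eq_one this
      rw [hg] at this; norm_num at this
    have cU : ∀ x ∈ U, ∀ t ∈ (T : Subgroup G), t * x = x * t := fun x hx t ht => by
      by_cases hx1 : x = 1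
      · simp [hx1]
      · exact hc x hx hx1 t ht
    have key : ∀ t ∈ (T : Subgroup G), ∀ t' ∈ (T : Subgroup G), t * t' = t' * t := by
      intro t ht t' ht'
      have hidx : (U.subgroupOf (T : Subgroup G)).index = 2 := by
        have h1 := card_mul_index (U.subgroupOf (T : Subgroup G))
        rw [Nat.card_congr (subgroupOfEquivOfLe hUT).toEquiv, hU.card_four, h.card2 T] at h1
        omega
      have dec : ∀ x ∈ (T : Subgroup G), x ∈ U ∨ g⁻¹ * x ∈ U := by
        intro x hx
        by_cases hxU : x ∈ U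
        · exact Or.inl hxU
        · have hiff := mul_mem_iff_of_index_two hidx (a := (⟨g, hgT⟩ : (T : Subgroup G))⁻¹) (b := ⟨x, hx⟩)
          simp only [mem_subgroupOf, InvMemClass.coe_inv, MulMemClass.coe_mul, inv_mem_iff, hgU, hxU, iff_self, iff_true] at hiff
          exact Or.inr hiff
      rcases dec t ht with h1 | h1
      · exact (cU t h1 t' ht').symm
      · rcases dec t' ht' with h2 | h2
        · exact cU t' h2 t ht
        · calc t * t' = g * (g⁻¹ * t) * (g * (g⁻¹ * t')) := by group
            _ = g * ((g⁻¹ * t) * g) * (g⁻¹ * t') := by group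
            _ = g * g * ((g⁻¹ * t) * (g⁻¹ * t')) := by rw [← cU _ h1 g hgT]; group
            _ = g * g * ((g⁻¹ * t') * (g⁻¹ * t)) := by rw [cU _ h1 _ (hUT h2)]
            _ = g * ((g⁻¹ * t') * g) * (g⁻¹ * t) := by rw [← cU _ h2 g hgT]; group
            _ = t' * t := by group
    exact key
  have ha2 : orderOf a = 2 := orderOf_eq_prime (by rw [pow_two]; exact klein_sq hU haU) ha1
  have hC := h.card_centralizer_two ha2
  obtain ⟨T', hT'⟩ := (IsPGroup.of_card (p := 2) (n := 3) (G := centralizer ({a} : Set G))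
    (by rw [hC]; norm_num)).exists_le_sylow
  have hT'eq : centralizer ({a} : Set G) = (T' : Subgroup G) :=
    eq_of_le_of_card_ge hT' (by rw [hC, h.card2 T'])
  have hUT' : U ≤ (T' : Subgroup G) := fun x hx => by
    rw [← hT'eq, mem_centralizer_singleton_iff]
    exact congrArg Subtype.val ((IsKleinFour.isMulCommutative (G := U)).is_comm.comm ⟨x, hx⟩ ⟨a, haU⟩)
  have hne : T ≠ T' := by
    rintro rfl
    exact hnc fun t ht => mem_centralizer_singleton_iff.mp (hT'eq ▸ ht)
  have h1 := h.sylow_le_normalizer_klein T hU hUT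
  have h2 := h.sylow_le_normalizer_klein T' hU hUT'
  have hd8 : 8 ∣ Nat.card (normalizer (U : Set G)) := h.card2 T ▸ card_dvd_of_le h1
  have hne8 : Nat.card (normalizer (U : Set G)) ≠ 8 := fun h8 => hne (Sylow.ext
    ((eq_of_le_of_card_ge h1 (by rw [h8, h.card2 T])).trans
      (eq_of_le_of_card_ge h2 (by rw [h8, h.card2 T'])).symm))
  have hntop : normalizer (U : Set G) ≠ ⊤ := fun hc => by
    rcases (normalizer_eq_top_iff.mp hc).eq_bot_or_eq_top with hb | hb
    · have := hU.card_four; rw [hb, card_bot] at this; omega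
    · have := hU.card_four; rw [hb, card_top, h.card_eq] at this; omega
  have hidx := h.index_ge_seven hntop
  have hmul := card_mul_index (normalizer (U : Set G))
  rw [h.card_eq] at hmul
  obtain ⟨k, hk⟩ := hd8
  rw [hk] at hmul hne8 ⊢
  have hki : k * (normalizer (U : Set G)).index = 21 := by linarith
  have hk3 : k ≤ 3 := by
    by_contra hc
    have : 4 * 7 ≤ k * (normalizer (U : Set G)).index := Nat.mul_le_mul (by omega) hidx
    omega
  interval_cases k <;> omega

include h in
theorem normalizer_klein_iso {U : Subgroup G} (hU : IsKleinFour U) :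
    Nonempty (normalizer (U : Set G) ≃* Equiv.Perm (Fin 4)) := by
  refine S1012.result (h.card_normalizer_klein hU) fun x hx => ?_
  rw [← orderOf_coe] at hx
  rcases h.orders (x : G) with h' | h' | h' | h' | h' <;> omega

include h in
theorem normalizer_three_le [Fact (Nat.Prime 3)] {U : Subgroup G} (hU : IsKleinFour U) :
    ∃ R : Sylow 3 G, normalizer ((R : Subgroup G) : Set G) ≤ normalizer (U : Set G) := by
  set N := normalizer (U : Set G) with hN
  have hN24 := h.card_normalizer_klein hU
  obtain ⟨y, hy⟩ := exists_prime_orderOf_dvd_card' (G := N) 3 (by rw [hN24]; norm_num)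
  have hy' : orderOf (y : G) = 3 := by rw [orderOf_coe]; exact hy
  obtain ⟨R, hR⟩ := zpowers_eq_sylow (fun Q => h.card3 Q) hy'
  refine ⟨R, ?_⟩
  have hRN : (R : Subgroup G) ≤ N := hR ▸ zpowers_le.mpr y.2
  have hnr := (h.card_normalizer_three R).2
  set X := normalizer ((R : Subgroup G) : Set G) ⊓ N
  have hXle : X ≤ normalizer ((R : Subgroup G) : Set G) := inf_le_left
  refine le_trans (eq_of_le_of_card_ge hXle ?_).ge inf_le_right
  rw [hnr]
  -- the Sylow 3-subgroups of N number at most 4
  set S : Sylow 3 N := R.subtype hRN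
  have hS := SmallSimple.card_sylow_mul_card_normalizer S
  rw [hN24] at hS
  have hle : (normalizer ((S : Subgroup N) : Set N)).map N.subtype ≤ X := by
    rintro _ ⟨n, hn, rfl⟩
    refine ⟨?_, n.2⟩
    have hn' := Sylow.smul_eq_iff_mem_normalizer.mpr hn
    rw [Sylow.smul_subtype] at hn'
    exact Sylow.smul_eq_iff_mem_normalizer.mp (Sylow.subtype_injective hn')
  have hc := Nat.le_of_dvd Nat.card_pos (card_dvd_of_le hle)
  rw [card_map_of_injective N.subtype_injective] at hc
  have hd : Nat.card (Sylow 3 N) ∣ 8 := by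
    have h1 := S.card_dvd_index
    have h2 := card_mul_index (S : Subgroup N)
    have hS3 : Nat.card (S : Subgroup N) = 3 := by
      rw [Sylow.coe_subtype, Nat.card_congr (subgroupOfEquivOfLe hRN).toEquiv, h.card3 R]
    rw [hS3, hN24] at h2
    rwa [show (S : Subgroup N).index = 8 by omega] at h1
  have hm := card_sylow_modEq_one 3 N
  have hle8 := Nat.le_of_dvd (by norm_num) hd
  unfold Nat.ModEq at hm
  interval_cases Nat.card (Sylow 3 N) <;> omega

end Cfsg.Agent.SmallSimple.Simple168
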