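import Cfsg.Agent.Lib.SmallSimple.Order168

/-!
# Simple groups of order 168: the 2-structure
-/

set_option autoImplicit false

namespace Cfsg.Agent.SmallSimple.Simple168

open MulAction Subgroup

universe u

variable {G : Type u} [Group G] [Finite G] [Fact (Nat.Prime 2)] (h : Simple168 G)

include h in
theorem normalizer_two (T : Sylow 2 G) : normalizer ((T : Subgroup G) : Set G) = T := by
  refine (eq_of_le_of_card_ge le_normalizer ?_).symm
  have := card_sylow_mul_card_normalizer T
  rw [h.card_sylow_two, h.card_eq] at this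
  rw [h.card2 T]
  omega

include h in
theorem not_comm (T : Sylow 2 G) : ¬ ∀ a ∈ (T : Subgroup G), ∀ b ∈ (T : Subgroup G), a * b = b * a :=
  fun hab => by
    have := h.simple
    exact no_normal_complement T (by rw [h.card2 T]; norm_num) (by rw [h.card2 T, h.card_eq]; norm_num)
      (by rw [h.normalizer_two T]; exact fun x hx => mem_centralizer_iff.mpr fun y hy => hab y hy x hx)

include h in
theorem order_in_two (T : Sylow 2 G) {x : G} (hx : x ∈ (T : Subgroup G)) :
    orderOf x = 1 ∨ orderOf x = 2 ∨ orderOf x = 4 := by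
  have hd : orderOf x ∣ 8 := by
    have h1 := _root_.orderOf_dvd_natCard (⟨x, hx⟩ : (T : Subgroup G))
    rwa [← orderOf_coe, h.card2 T] at h1
  rcases h.orders x with h' | h' | h' | h' | h' <;> rw [h'] at hd ⊢ <;> revert hd <;> decide

include h in
/-- A subgroup of index 2 of `T` generated by one element: the rest is a single coset. -/
theorem two_cosets (T : Sylow 2 G) {g x : G} (hg : g ∈ (T : Subgroup G)) (hg4 : orderOf g = 4)
    (hx : x ∈ (T : Subgroup G)) (hxg : x ∉ zpowers g) {y : G} (hy : y ∈ (T : Subgroup G)) :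
    y ∈ zpowers g ∨ x⁻¹ * y ∈ zpowers g := by
  set A : Subgroup (T : Subgroup G) := zpowers ⟨g, hg⟩
  have hA : A.index = 2 := by
    have h1 := card_mul_index A
    rw [h.card2 T, show Nat.card A = 4 by rw [Nat.card_zpowers, ← orderOf_coe, hg4]] at h1
    omega
  have key : ∀ z : (T : Subgroup G), z ∈ A ↔ (z : G) ∈ zpowers g := fun z => by
    simp only [A, mem_zpowers_iff]
    exact exists_congr fun i => by rw [Subtype.ext_iff, SubgroupClass.coe_zpow]
  by_cases hyA : y ∈ zpowers g
  · exact Or.inl hyA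
  · refine Or.inr ?_
    have hiff := mul_mem_iff_of_index_two hA (a := (⟨x, hx⟩ : (T : Subgroup G))⁻¹) (b := ⟨y, hy⟩)
    rw [key, key, key] at hiff
    simp only [InvMemClass.coe_inv, MulMemClass.coe_mul, inv_mem_iff, hxg, hyA, iff_self, iff_true] at hiff
    exact hiff

include h in
theorem sq_central (T : Sylow 2 G) {g : G} (hg : g ∈ (T : Subgroup G)) (hg4 : orderOf g = 4) :
    orderOf (g ^ 2) = 2 ∧ ∀ t ∈ (T : Subgroup G), t * g ^ 2 = g ^ 2 * t := by
  refine ⟨by rw [orderOf_pow' g (by norm_num), hg4]; norm_num, fun t ht => ?_⟩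
  set A : Subgroup (T : Subgroup G) := zpowers ⟨g, hg⟩
  have hA : A.index = 2 := by
    have h1 := card_mul_index A
    rw [h.card2 T, show Nat.card A = 4 by rw [Nat.card_zpowers, ← orderOf_coe, hg4]] at h1
    omega
  have hn := normal_of_index_eq_two hA
  have hc := hn.conj_mem _ (mem_zpowers (⟨g, hg⟩ : (T : Subgroup G))) ⟨t, ht⟩
  obtain ⟨i, hi⟩ := mem_zpowers_iff.mp hc
  have hi' : g ^ i = t * g * t⁻¹ := by
    have := congrArg Subtype.val hi
    simpa using this
  have hsq : t * g ^ 2 * t⁻¹ = g ^ (2 * i) := by rw [← conj_pow, ← hi', ← zpow_natCast, ← zpow_mul, mul_comm]; norm_num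
  have hg2 : g ^ (4 : ℤ) = 1 := by
    rw [show (4 : ℤ) = ((4 : ℕ) : ℤ) by norm_num, zpow_natCast, ← hg4, pow_orderOf_eq_one]
  rcases Int.even_or_odd i with ⟨j, hj⟩ | ⟨j, hj⟩
  · exfalso
    have h1 : t * g ^ 2 * t⁻¹ = 1 := by
      rw [hsq, hj, show 2 * (j + j) = 4 * j by ring, zpow_mul, hg2, one_zpow]
    rw [mul_inv_eq_one, mul_eq_left] at h1
    have := orderOf_dvd_of_pow_eq_one h1
    rw [hg4] at this
    norm_num at this
  · rw [hj, show 2 * (2 * j + 1) = 4 * j + 2 by ring, zpow_add, zpow_mul, hg2, one_zpow, one_mul,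
      show g ^ (2 : ℤ) = g ^ 2 from zpow_natCast g 2] at hsq
    exact mul_inv_eq_iff_eq_mul.mp hsq

include h in
theorem centralizer_central (T : Sylow 2 G) {z : G} (hz1 : z ≠ 1) (hz : z ∈ (T : Subgroup G))
    (hc : ∀ t ∈ (T : Subgroup G), t * z = z * t) : centralizer ({z} : Set G) = T := by
  have hle : (T : Subgroup G) ≤ centralizer ({z} : Set G) := fun t ht =>
    mem_centralizer_singleton_iff.mpr (hc t ht)
  refine (eq_of_le_of_card_ge hle ?_).symm
  rw [h.card2 T]
  have hd : Nat.card (centralizer ({z} : Set G)) ∣ 168 := h.card_eq ▸ card_subgroup_dvd_card _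
  have h8 : 8 ∣ Nat.card (centralizer ({z} : Set G)) := h.card2 T ▸ card_dvd_of_le hle
  have ho2 := h.order_in_two T hz
  have key : ∀ q, q.Prime → q ∈ ({3, 7} : Finset ℕ) → ¬ q ∣ Nat.card (centralizer ({z} : Set G)) := by
    intro q hq hq37 hd
    have : Fact q.Prime := ⟨hq⟩
    obtain ⟨y, hy⟩ := exists_prime_orderOf_dvd_card' (G := centralizer ({z} : Set G)) q hd
    have hy' : orderOf (y : G) = q := by rw [orderOf_coe]; exact hy
    have hcop : Nat.Coprime (orderOf (y : G)) (orderOf z) := by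
      rw [hy']
      simp only [Finset.mem_insert, Finset.mem_singleton] at hq37
      rcases ho2 with h' | h' | h' <;> rw [h'] <;> rcases hq37 with rfl | rfl <;> decide
    have hprod := (show Commute (y : G) z from mem_centralizer_singleton_iff.mp y.2).orderOf_mul_eq_mul_orderOf_of_coprime hcop
    rw [hy'] at hprod
    simp only [Finset.mem_insert, Finset.mem_singleton] at hq37
    rcases h.orders ((y : G) * z) with h' | h' | h' | h' | h' <;> rw [h'] at hprod <;>
      rcases ho2 with h'' | h'' | h'' <;> rw [h''] at hprod <;> rcases hq37 with rfl | rfl <;>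
      first | exact hz1 (orderOf_eq_one_iff.mp h'') | (norm_num at hprod)
  obtain ⟨k, hk⟩ := h8
  rw [hk] at hd key ⊢
  have : k ∣ 21 := Nat.dvd_of_mul_dvd_mul_left (show 0 < 8 by norm_num) (show 8 * k ∣ 8 * 21 from hd)
  have hk21 := Nat.le_of_dvd (by norm_num) this
  have h3 := key 3 Nat.prime_three (by simp)
  have h7 := key 7 (by norm_num) (by simp)
  interval_cases k <;> revert this h3 h7 <;> norm_num

include h in
theorem centralizer_four {g : G} (hg : orderOf g = 4) :
    Nat.card (centralizer ({g} : Set G)) = 4 ∧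
      Nat.card (centralizer ({g ^ 2} : Set G)) = 8 ∧ centralizer ({g} : Set G) = zpowers g := by
  obtain ⟨T, hT⟩ := (IsPGroup.of_card (p := 2) (n := 2) (G := zpowers g)
    (by rw [Nat.card_zpowers, hg]; norm_num)).exists_le_sylow
  have hgT : g ∈ (T : Subgroup G) := hT (mem_zpowers g)
  obtain ⟨ho, hcen⟩ := h.sq_central T hgT hg
  have hCz := h.centralizer_central T (fun hc => by rw [hc, orderOf_one] at ho; omega) (pow_mem hgT 2) hcen
  have hz8 : Nat.card (centralizer ({g ^ 2} : Set G)) = 8 := by rw [hCz, h.card2 T]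
  suffices heq : centralizer ({g} : Set G) = zpowers g from ⟨by rw [heq, Nat.card_zpowers, hg], hz8, heq⟩
  refine le_antisymm ?_ (zpowers_le.mpr (mem_centralizer_singleton_iff.mpr rfl))
  intro x hx
  rw [mem_centralizer_singleton_iff] at hx
  have hxT : x ∈ (T : Subgroup G) := by
    rw [← hCz, mem_centralizer_singleton_iff]
    exact ((show Commute x g from hx).pow_right 2).eq
  by_contra hxg
  apply h.not_comm T
  have hxg' : Commute x g := hx
  intro a ha b hb
  have cent : ∀ y ∈ (T : Subgroup G), Commute y g ∧ Commute y x := by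
    intro y hy
    rcases h.two_cosets T hgT hg hxT hxg hy with h1 | h1
    · obtain ⟨i, rfl⟩ := mem_zpowers_iff.mp h1
      exact ⟨(Commute.refl g).zpow_left i, (hxg'.symm.zpow_left i)⟩
    · obtain ⟨i, hi⟩ := mem_zpowers_iff.mp h1
      have hy' : y = x * g ^ i := by rw [hi, mul_inv_cancel_left]
      rw [hy']
      exact ⟨hxg'.mul_left ((Commute.refl g).zpow_left i),
        (Commute.refl x).mul_left (hxg'.symm.zpow_left i)⟩
  rcases h.two_cosets T hgT hg hxT hxg hb with h1 | h1
  · obtain ⟨i, rfl⟩ := mem_zpowers_iff.mp h1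
    exact ((cent a ha).1.zpow_right i).eq
  · obtain ⟨i, hi⟩ := mem_zpowers_iff.mp h1
    have hy' : b = x * g ^ i := by rw [hi, mul_inv_cancel_left]
    rw [hy']
    exact ((cent a ha).2.mul_right ((cent a ha).1.zpow_right i)).eq

include h in
theorem exists_four (T : Sylow 2 G) : ∃ g ∈ (T : Subgroup G), orderOf g = 4 := by
  by_contra hc
  push Not at hc
  apply h.not_comm T
  intro a ha b hb
  have sq : ∀ c ∈ (T : Subgroup G), c * c = 1 := fun c hcT => by
    rw [← sq, ← orderOf_dvd_iff_pow_eq_one]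
    rcases h.order_in_two T hcT with h' | h' | h'
    · rw [h']; norm_num
    · rw [h']
    · exact absurd h' (hc c hcT)
  calc a * b = a * b * ((b * a) * (b * a)) := by rw [sq _ (mul_mem hb ha), mul_one]
    _ = a * (b * b) * a * (b * a) := by group
    _ = b * a := by rw [sq b hb, mul_one, sq a ha, one_mul]

include h in
theorem class_counts : Nat.card {g : G // orderOf g = 2} = 21 ∧
    Nat.card {g : G // orderOf g = 4} = 42 ∧
    (∀ s t : G, orderOf s = 2 → orderOf t = 2 → IsConj s t) ∧
    (∀ s t : G, orderOf s = 4 → orderOf t = 4 → IsConj s t) := by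
  classical
  have := Fintype.ofFinite G
  obtain ⟨T⟩ : Nonempty (Sylow 2 G) := inferInstance
  obtain ⟨g, hgT, hg⟩ := h.exists_four T
  obtain ⟨hC4, hC8, -⟩ := h.centralizer_four hg
  have hz : orderOf (g ^ 2) = 2 := (h.sq_central T hgT hg).1
  have e2 : Nat.card {x : G // IsConj (g ^ 2) x} = 21 := by
    have := card_class_mul_card_centralizer (g ^ 2)
    rw [hC8, h.card_eq] at this
    omega
  have e4 : Nat.card {x : G // IsConj g x} = 42 := by
    have := card_class_mul_card_centralizer g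
    rw [hC4, h.card_eq] at this
    omega
  have ordc : ∀ {a b : G}, IsConj a b → orderOf b = orderOf a := by
    intro a b hab
    obtain ⟨c, hc⟩ := isConj_iff.mp hab
    rw [← hc, ← MulAut.conj_apply, MulEquiv.orderOf_eq]
  let i2 : {x : G // IsConj (g ^ 2) x} → {x : G // orderOf x = 2} := fun x => ⟨x.1, by rw [ordc x.2, hz]⟩
  let i4 : {x : G // IsConj g x} → {x : G // orderOf x = 4} := fun x => ⟨x.1, by rw [ordc x.2, hg]⟩
  have j2 : Function.Injective i2 := fun a b hab => Subtype.ext (congrArg Subtype.val hab :)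
  have j4 : Function.Injective i4 := fun a b hab => Subtype.ext (congrArg Subtype.val hab :)
  have l2 := Nat.card_le_card_of_injective i2 j2
  have l4 := Nat.card_le_card_of_injective i4 j4
  have htot : Nat.card (twoEls G) = Nat.card {x : G // orderOf x = 2} + Nat.card {x : G // orderOf x = 4} := by
    rw [← Nat.card_sum]
    refine Nat.card_congr (subtypeOrEquiv (fun x : G => orderOf x = 2) (fun x : G => orderOf x = 4) ?_)
    rw [Pi.disjoint_iff]
    intro x
    rw [disjoint_iff_inf_le]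
    intro hx
    have h1 : orderOf x = 2 := hx.1
    have h2 : orderOf x = 4 := hx.2
    omega
  rw [h.card_twoEls.1] at htot
  have n2 : Nat.card {x : G // orderOf x = 2} = 21 := by omega
  have n4 : Nat.card {x : G // orderOf x = 4} = 42 := by omega
  have s2 := ((Nat.bijective_iff_injective_and_card i2).mpr ⟨j2, by rw [e2, n2]⟩).2
  have s4 := ((Nat.bijective_iff_injective_and_card i4).mpr ⟨j4, by rw [e4, n4]⟩).2
  refine ⟨n2, n4, fun s t hs ht => ?_, fun s t hs ht => ?_⟩
  · obtain ⟨⟨a, ha⟩, ha'⟩ := s2 ⟨s, hs⟩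
    obtain ⟨⟨b, hb⟩, hb'⟩ := s2 ⟨t, ht⟩
    obtain rfl : a = s := congrArg Subtype.val ha'
    obtain rfl : b = t := congrArg Subtype.val hb'
    exact ha.symm.trans hb
  · obtain ⟨⟨a, ha⟩, ha'⟩ := s4 ⟨s, hs⟩
    obtain ⟨⟨b, hb⟩, hb'⟩ := s4 ⟨t, ht⟩
    obtain rfl : a = s := congrArg Subtype.val ha'
    obtain rfl : b = t := congrArg Subtype.val hb'
    exact ha.symm.trans hb

include h in
theorem card_centralizer_two {s : G} (hs : orderOf s = 2) : Nat.card (centralizer ({s} : Set G)) = 8 := by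
  obtain ⟨n2, -, c2, -⟩ := h.class_counts
  have h1 : Nat.card {x : G // IsConj s x} = 21 := by
    rw [← n2]
    refine Nat.card_congr (Equiv.subtypeEquivRight fun x => ⟨fun hx => ?_, fun hx => c2 s x hs hx⟩)
    obtain ⟨c, hc⟩ := isConj_iff.mp hx
    rw [← hc, ← MulAut.conj_apply, MulEquiv.orderOf_eq, hs]
  have := card_class_mul_card_centralizer s
  rw [h1, h.card_eq] at this
  omega

include h in
/-- Each Sylow 2-subgroup: a generator pair with the dihedral relations. -/
theorem dihedral_pair (T : Sylow 2 G) : ∃ g s : G, g ∈ (T : Subgroup G) ∧ s ∈ (T : Subgroup G) ∧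
    orderOf g = 4 ∧ orderOf s = 2 ∧ s ∉ zpowers g ∧ s * g * s⁻¹ = g⁻¹ := by
  classical
  have := Fintype.ofFinite G
  obtain ⟨g, hgT, hg⟩ := h.exists_four T
  obtain ⟨hz, hcen⟩ := h.sq_central T hgT hg
  have hCz := h.centralizer_central T (fun hc => by rw [hc, orderOf_one] at hz; omega) (pow_mem hgT 2) hcen
  -- an involution outside the cyclic subgroup
  obtain ⟨s, hsT, hs, hsg⟩ : ∃ s ∈ (T : Subgroup G), orderOf s = 2 ∧ s ∉ zpowers g := by
    by_contra hc
    push Not at hc
    have huniq : ∀ s ∈ (T : Subgroup G), orderOf s = 2 → s = g ^ 2 := by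
      intro s hsT hs
      obtain ⟨i, rfl⟩ := mem_zpowers_iff.mp (hc s hsT hs)
      have hg4 : g ^ (4 : ℤ) = 1 := by
        rw [show (4 : ℤ) = ((4 : ℕ) : ℤ) by norm_num, zpow_natCast, ← hg, pow_orderOf_eq_one]
      have h2 : (g ^ i) ^ 2 = 1 := by rw [← hs, pow_orderOf_eq_one]
      rw [← zpow_natCast (g ^ i) 2, ← zpow_mul, ← orderOf_dvd_iff_zpow_eq_one, hg] at h2
      have hne : ¬ (4 : ℤ) ∣ i := fun ⟨j, hj⟩ => by
        rw [hj, zpow_mul, hg4, one_zpow, orderOf_one] at hs; omega
      have h2' : (4 : ℤ) ∣ i * 2 := by exact_mod_cast h2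
      obtain ⟨j, rfl⟩ : ∃ j, i = 4 * j + 2 := ⟨i / 4, by omega⟩
      rw [zpow_add, zpow_mul, hg4, one_zpow, one_mul]
      exact zpow_natCast g 2
    -- then every element of T outside {1, g²} squares to g²: six of them
    have hsix : ∀ y ∈ (T : Subgroup G), y ≠ 1 → y ≠ g ^ 2 → orderOf y = 4 ∧ y ^ 2 = g ^ 2 := by
      intro y hy hy1 hyz
      have ho : orderOf y = 4 := by
        rcases h.order_in_two T hy with h' | h' | h'
        · exact absurd (orderOf_eq_one_iff.mp h') hy1
        · exact absurd (huniq y hy h') hyz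
        · exact h'
      exact ⟨ho, huniq _ (pow_mem hy 2) (h.sq_central T hy ho).1⟩
    obtain ⟨n2, n4, c2, -⟩ := h.class_counts
    choose c hc' using fun s : {x : G // orderOf x = 2} => isConj_iff.mp (c2 (g ^ 2) s.1 hz s.2)
    let F : {x : G // orderOf x = 2} × {y : (T : Subgroup G) // y ∉ ({1, ⟨g ^ 2, pow_mem hgT 2⟩} : Finset _)} →
        {x : G // orderOf x = 4} := fun p => ⟨c p.1 * (p.2.1 : G) * (c p.1)⁻¹, by
      rw [← MulAut.conj_apply, MulEquiv.orderOf_eq]
      have hp := p.2.2
      simp only [Finset.mem_insert, Finset.mem_singleton, not_or] at hp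
      exact (hsix _ p.2.1.2 (fun hh => hp.1 (Subtype.ext hh)) (fun hh => hp.2 (Subtype.ext hh))).1⟩
    have hF : Function.Injective F := by
      rintro ⟨a, y, hy⟩ ⟨b, y', hy'⟩ hab
      have h' : c a * (y : G) * (c a)⁻¹ = c b * (y' : G) * (c b)⁻¹ := congrArg Subtype.val hab
      simp only [Finset.mem_insert, Finset.mem_singleton, not_or] at hy hy'
      have e : ∀ (s : {x : G // orderOf x = 2}) (y : (T : Subgroup G)),
          (y : G) ^ 2 = g ^ 2 → (c s * (y : G) * (c s)⁻¹) ^ 2 = s.1 := fun s y h2 => by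
        rw [conj_pow, h2, hc' s]
      have hab' : a = b := Subtype.ext (by
        rw [← e a y (hsix _ y.2 (fun hh => hy.1 (Subtype.ext hh)) (fun hh => hy.2 (Subtype.ext hh))).2,
          ← e b y' (hsix _ y'.2 (fun hh => hy'.1 (Subtype.ext hh)) (fun hh => hy'.2 (Subtype.ext hh))).2, h'])
      subst hab'
      simp only [mul_left_inj, mul_right_inj] at h'
      simp only [Subtype.ext h']
    have := Nat.card_le_card_of_injective F hF
    rw [Nat.card_prod, n2, n4, Nat.card_eq_fintype_card, Fintype.card_subtype_compl] at this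
    have h8 : Fintype.card (T : Subgroup G) = 8 := by rw [← Nat.card_eq_fintype_card, h.card2 T]
    have hpair : Fintype.card {y : (T : Subgroup G) // y ∈ ({1, ⟨g ^ 2, pow_mem hgT 2⟩} : Finset _)} ≤ 2 := by
      rw [Fintype.card_coe]
      exact Finset.card_le_two
    simp only [← Nat.card_eq_fintype_card] at this hpair h8
    omega
  refine ⟨g, s, hgT, hsT, hg, hs, hsg, ?_⟩
  set A : Subgroup (T : Subgroup G) := zpowers ⟨g, hgT⟩
  have hA : A.index = 2 := by
    have h1 := card_mul_index A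
    rw [h.card2 T, show Nat.card A = 4 by rw [Nat.card_zpowers, ← orderOf_coe, hg]] at h1
    omega
  obtain ⟨i, hi⟩ := mem_zpowers_iff.mp
    ((normal_of_index_eq_two hA).conj_mem _ (mem_zpowers (⟨g, hgT⟩ : (T : Subgroup G))) ⟨s, hsT⟩)
  have hi' : g ^ i = s * g * s⁻¹ := by
    have := congrArg Subtype.val hi
    simpa using this
  have ho : orderOf (g ^ i) = 4 := by rw [hi', ← MulAut.conj_apply, MulEquiv.orderOf_eq, hg]
  have hg4 : g ^ (4 : ℤ) = 1 := by
    rw [show (4 : ℤ) = ((4 : ℕ) : ℤ) by norm_num, zpow_natCast, ← hg, pow_orderOf_eq_one]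
  obtain ⟨j, hj⟩ : ∃ j, i = 4 * j + 1 ∨ i = 4 * j + 3 := by
    rcases Int.even_or_odd i with ⟨k, hk⟩ | ⟨k, hk⟩
    · exfalso
      have h1 : (g ^ i) ^ 2 = 1 := by
        rw [← zpow_natCast (g ^ i) 2, ← zpow_mul, hk, show (k + k) * ((2 : ℕ) : ℤ) = 4 * k by push_cast; ring,
          zpow_mul, hg4, one_zpow]
      have := orderOf_dvd_of_pow_eq_one h1
      rw [ho] at this
      norm_num at this
    · exact ⟨i / 4, by omega⟩
  rcases hj with rfl | rfl
  · exfalso
    rw [zpow_add, zpow_mul, hg4, one_zpow, one_mul, zpow_one] at hi'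
    apply hsg
    rw [← (h.centralizer_four hg).2.2, mem_centralizer_singleton_iff]
    exact mul_inv_eq_iff_eq_mul.mp hi'.symm
  · rw [← hi', zpow_add, zpow_mul, hg4, one_zpow, one_mul]
    exact eq_inv_of_mul_eq_one_left (by rw [← zpow_add_one]; exact hg4)

include h in
theorem sylow_dihedral (T : Sylow 2 G) : Nonempty ((T : Subgroup G) ≃* DihedralGroup 4) := by
  obtain ⟨g, s, hgT, hsT, hg, hs, hsg, hinv⟩ := h.dihedral_pair T
  refine PGroup.dihedralEquivOfRel (a := ⟨g, hgT⟩) (b := ⟨s, hsT⟩) (by rw [← orderOf_coe, hg]) ?_ ?_ ?_ ?_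
  · intro hc
    obtain ⟨i, hi⟩ := mem_zpowers_iff.mp hc
    exact hsg (mem_zpowers_iff.mpr ⟨i, by simpa using congrArg Subtype.val hi⟩)
  · apply Subtype.ext
    show s ^ 2 = 1
    rw [← hs, pow_orderOf_eq_one]
  · exact Subtype.ext hinv
  · rw [h.card2 T]

end Cfsg.Agent.SmallSimple.Simple168
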